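/-
Matrices from bases, eigenbases of quadratic-split maps, index divisibility.
-/
import Mathlib.LinearAlgebra.Matrix.SpecialLinearGroup
import Mathlib.LinearAlgebra.Matrix.GeneralLinearGroup.Card
import Mathlib.GroupTheory.Index
import Mathlib.LinearAlgebra.Basis.Prod
import Mathlib.LinearAlgebra.FiniteDimensional.Lemmas

set_option autoImplicit false

open scoped MatrixGroups

namespace Cfsg.Agent.H29

open Module

section

variable {F : Type*} [Field F] {n : ℕ}

theorem matrix_ext_single {A B : Matrix (Fin n) (Fin n) F}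
    (h : ∀ i, A.mulVec (Pi.single i 1) = B.mulVec (Pi.single i 1)) : A = B := by
  ext i j
  have := congrFun (h j) i
  simpa using this

/-- The invertible matrix with columns a given basis. -/
theorem exists_gl_of_basis (b : Basis (Fin n) F (Fin n → F)) :
    ∃ Q : GL (Fin n) F, ∀ i, (Q : Matrix (Fin n) (Fin n) F).mulVec (Pi.single i 1) = b i := by
  classical
  let Φ : (Fin n → F) ≃ₗ[F] (Fin n → F) := (Pi.basisFun F (Fin n)).equiv b (Equiv.refl _)
  have hΦ : ∀ i, Φ (Pi.single i 1) = b i := fun i => by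
    have : (Pi.single i 1 : Fin n → F) = Pi.basisFun F (Fin n) i := by simp
    rw [this]
    exact (Pi.basisFun F (Fin n)).equiv_apply i b (Equiv.refl _)
  let Q₁ : Matrix (Fin n) (Fin n) F := LinearMap.toMatrix' (Φ : (Fin n → F) →ₗ[F] (Fin n → F))
  have hdet : Q₁.det ≠ 0 := by
    have h1 := LinearEquiv.isUnit_det' Φ
    rw [LinearMap.det_toMatrix']
    exact h1.ne_zero
  refine ⟨Matrix.GeneralLinearGroup.mkOfDetNeZero Q₁ hdet, ?_⟩
  intro i
  show Q₁.mulVec _ = _
  rw [LinearMap.toMatrix'_mulVec]
  exact hΦ i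

/-- A map with two distinct eigenvalues and split quadratic annihilator has an eigenbasis. -/
theorem exists_eig_basis (T : (Fin n → F) →ₗ[F] (Fin n → F)) (α β : F) (hαβ : α ≠ β)
    (hT : ∀ v, T (T v) - (α + β) • T v + (α * β) • v = 0) :
    ∃ (b : Basis (Fin n) F (Fin n → F)) (ε : Fin n → Bool), ∀ i,
      T (b i) = (if ε i then α else β) • b i := by
  classical
  set V₁ : Submodule F (Fin n → F) := LinearMap.ker (T - α • (1 : Module.End F (Fin n → F))) with hV₁
  set V₂ : Submodule F (Fin n → F) := LinearMap.ker (T - β • (1 : Module.End F (Fin n → F))) with hV₂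
  have hm₁ : ∀ v, v ∈ V₁ ↔ T v = α • v := fun v => by
    rw [hV₁, LinearMap.mem_ker]
    simp [sub_eq_zero]
  have hm₂ : ∀ v, v ∈ V₂ ↔ T v = β • v := fun v => by
    rw [hV₂, LinearMap.mem_ker]
    simp [sub_eq_zero]
  have hne : α - β ≠ 0 := sub_ne_zero.2 hαβ
  have hdisj : Disjoint V₁ V₂ := by
    rw [Submodule.disjoint_def]
    intro v h1 h2
    have h3 := (hm₁ v).1 h1
    rw [(hm₂ v).1 h2] at h3
    have h4 : (α - β) • v = 0 := by
      rw [sub_smul, ← h3, sub_self]
    exact (smul_eq_zero.1 h4).resolve_left hne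
  have hcod : Codisjoint V₁ V₂ := by
    rw [codisjoint_iff, eq_top_iff]
    intro v _
    have h0 := hT v
    have h2' : T (T v) = (α + β) • T v - (α * β) • v := by
      have h3 : T (T v) - ((α + β) • T v - (α * β) • v) = 0 := by
        rw [← h0]
        abel
      exact sub_eq_zero.1 h3
    have h1 : (T v - β • v) ∈ V₁ := by
      rw [hm₁, map_sub, map_smul, h2', add_smul, mul_smul, smul_sub]
      abel
    have h2 : (T v - α • v) ∈ V₂ := by
      rw [hm₂, map_sub, map_smul, h2', add_smul, mul_smul, smul_sub, smul_comm α β]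
      abel
    have hdec : v = (α - β)⁻¹ • (T v - β • v) + (-(α - β)⁻¹) • (T v - α • v) := by
      have h3 : (α - β)⁻¹ • (T v - β • v) + (-(α - β)⁻¹) • (T v - α • v) =
          (α - β)⁻¹ • ((T v - β • v) - (T v - α • v)) := by
        rw [smul_sub (α - β)⁻¹ (T v - β • v) (T v - α • v), neg_smul]
        abel
      rw [h3]
      have h4 : (T v - β • v) - (T v - α • v) = (α - β) • v := by
        rw [sub_smul]
        abel
      rw [h4, smul_smul, inv_mul_cancel₀ hne, one_smul]
    rw [hdec]
    exact Submodule.add_mem_sup (V₁.smul_mem _ h1) (V₂.smul_mem _ h2)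
  have hc : IsCompl V₁ V₂ := ⟨hdisj, hcod⟩
  let b₀ : Basis (Fin (finrank F V₁) ⊕ Fin (finrank F V₂)) F (Fin n → F) :=
    ((finBasis F V₁).prod (finBasis F V₂)).map (Submodule.prodEquivOfIsCompl V₁ V₂ hc)
  have hb₀₁ : ∀ i, b₀ (Sum.inl i) = ((finBasis F V₁ i : V₁) : Fin n → F) := fun i => by
    simp [b₀]
  have hb₀₂ : ∀ i, b₀ (Sum.inr i) = ((finBasis F V₂ i : V₂) : Fin n → F) := fun i => by
    simp [b₀]
  have hcard : Fintype.card (Fin (finrank F V₁) ⊕ Fin (finrank F V₂)) = n := by
    have h1 := Module.finrank_eq_card_basis b₀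
    rw [Module.finrank_fin_fun] at h1
    exact h1.symm
  let e : (Fin (finrank F V₁) ⊕ Fin (finrank F V₂)) ≃ Fin n := Fintype.equivFinOfCardEq hcard
  refine ⟨b₀.reindex e, fun i => Sum.isLeft (e.symm i), ?_⟩
  intro i
  rw [Basis.reindex_apply]
  rcases h : e.symm i with j | j
  · rw [hb₀₁]
    simp only [h, Sum.isLeft_inl, if_true]
    exact (hm₁ _).1 (finBasis F V₁ j).2
  · rw [hb₀₂]
    simp only [h, Sum.isLeft_inr, Bool.false_eq_true, if_false]
    exact (hm₂ _).1 (finBasis F V₂ j).2

end

section Index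

/-- The index in a normal subgroup divides the index. -/
theorem relIndex_normal_dvd_index {G : Type*} [Group G] [Finite G] (H K : Subgroup G) [K.Normal] :
    H.relIndex K ∣ H.index := by
  have h1 : H.relIndex (H ⊔ K) = H.relIndex K := by
    have hK0 : 0 < Nat.card K := Nat.card_pos
    have hI0 : 0 < Nat.card (H ⊓ K : Subgroup G) := Nat.card_pos
    have hH0 : 0 < Nat.card H := Nat.card_pos
    have e1 : Nat.card (H ⊓ K : Subgroup G) * H.relIndex K = Nat.card K := by
      have h2 := Subgroup.card_mul_index (H.subgroupOf K)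
      have h3 : Nat.card (H.subgroupOf K) = Nat.card (H ⊓ K : Subgroup G) := by
        rw [← Subgroup.inf_subgroupOf_right]
        exact Nat.card_congr (Subgroup.subgroupOfEquivOfLe inf_le_right).toEquiv
      rw [h3] at h2
      exact h2
    have e2 : Nat.card (H ⊓ K : Subgroup G) * K.relIndex H = Nat.card H := by
      have h2 := Subgroup.card_mul_index (K.subgroupOf H)
      have h3 : Nat.card (K.subgroupOf H) = Nat.card (H ⊓ K : Subgroup G) := by
        rw [inf_comm, ← Subgroup.inf_subgroupOf_right]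
        exact Nat.card_congr (Subgroup.subgroupOfEquivOfLe inf_le_right).toEquiv
      rw [h3] at h2
      exact h2
    have e3 : Nat.card K * K.relIndex (H ⊔ K) = Nat.card (H ⊔ K : Subgroup G) := by
      have h2 := Subgroup.card_mul_index (K.subgroupOf (H ⊔ K))
      have h3 : Nat.card (K.subgroupOf (H ⊔ K)) = Nat.card K :=
        Nat.card_congr (Subgroup.subgroupOfEquivOfLe le_sup_right).toEquiv
      rw [h3] at h2
      exact h2
    have e4 : Nat.card H * H.relIndex (H ⊔ K) = Nat.card (H ⊔ K : Subgroup G) := by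
      have h2 := Subgroup.card_mul_index (H.subgroupOf (H ⊔ K))
      have h3 : Nat.card (H.subgroupOf (H ⊔ K)) = Nat.card H :=
        Nat.card_congr (Subgroup.subgroupOfEquivOfLe le_sup_left).toEquiv
      rw [h3] at h2
      exact h2
    have e5 : K.relIndex (H ⊔ K) = K.relIndex H := Subgroup.relIndex_sup_right H K
    rw [e5] at e3
    have e6 : Nat.card H * H.relIndex (H ⊔ K) = Nat.card K * K.relIndex H := by rw [e4, e3]
    rw [← e2] at e6
    rw [← e1] at e6
    have h7 : Nat.card (H ⊓ K : Subgroup G) * K.relIndex H * H.relIndex (H ⊔ K) =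
        Nat.card (H ⊓ K : Subgroup G) * K.relIndex H * H.relIndex K := by
      calc Nat.card (H ⊓ K : Subgroup G) * K.relIndex H * H.relIndex (H ⊔ K)
          = Nat.card (H ⊓ K : Subgroup G) * H.relIndex K * K.relIndex H := e6
        _ = _ := by ring
    have hKH : 0 < Nat.card (H ⊓ K : Subgroup G) * K.relIndex H := by
      rw [e2]
      exact hH0
    exact Nat.eq_of_mul_eq_mul_left hKH h7
  rw [← h1]
  exact Subgroup.relIndex_dvd_index_of_le le_sup_left

end Index

end Cfsg.Agent.H29
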