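/-
Involutions on finite sets and blocks of given size permuted by them.
A linear map with scalar square is monomial in a suitable basis.
-/
import Mathlib

set_option autoImplicit false

namespace Cfsg.Agent.H29

section Blocks

variable {S : Type*} [DecidableEq S]

/-- Invariant subsets of any even size exist. -/
theorem exists_inv_even (π : S → S) (hπ : ∀ s, π (π s) = s) (A : Finset S)
    (hA : ∀ s ∈ A, π s ∈ A) (m : ℕ) (hm : 2 * m ≤ A.card) :
    ∃ B ⊆ A, (∀ s ∈ B, π s ∈ B) ∧ B.card = 2 * m := by
  induction m with
  | zero => exact ⟨∅, by simp, by simp, by simp⟩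
  | succ m ih =>
    obtain ⟨B, hBA, hB, hc⟩ := ih (by omega)
    have hcard : 2 ≤ (A \ B).card := by
      rw [Finset.card_sdiff_of_subset hBA, hc]; omega
    by_cases hex : ∃ u ∈ A \ B, π u ≠ u
    · obtain ⟨u, hu, huπ⟩ := hex
      have hu' := Finset.mem_sdiff.1 hu
      have hπu : π u ∉ B := fun h => hu'.2 (by have := hB _ h; rwa [hπ] at this)
      refine ⟨insert u (insert (π u) B), ?_, ?_, ?_⟩
      · intro s hs
        simp only [Finset.mem_insert] at hs
        rcases hs with rfl | rfl | hs
        · exact hu'.1
        · exact hA _ hu'.1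
        · exact hBA hs
      · intro s hs
        simp only [Finset.mem_insert] at hs ⊢
        rcases hs with rfl | rfl | hs
        · exact Or.inr (Or.inl rfl)
        · exact Or.inl (hπ _)
        · exact Or.inr (Or.inr (hB _ hs))
      · rw [Finset.card_insert_of_notMem, Finset.card_insert_of_notMem hπu, hc]
        · ring
        · simp only [Finset.mem_insert, not_or]
          exact ⟨fun h => huπ h.symm, hu'.2⟩
    · push Not at hex
      obtain ⟨u, hu, v, hv, huv⟩ := Finset.one_lt_card.1 (by omega : 1 < (A \ B).card)
      have hu' := Finset.mem_sdiff.1 hu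
      have hv' := Finset.mem_sdiff.1 hv
      refine ⟨insert u (insert v B), ?_, ?_, ?_⟩
      · intro s hs
        simp only [Finset.mem_insert] at hs
        rcases hs with rfl | rfl | hs
        · exact hu'.1
        · exact hv'.1
        · exact hBA hs
      · intro s hs
        simp only [Finset.mem_insert] at hs ⊢
        rcases hs with rfl | rfl | hs
        · exact Or.inl (hex _ hu)
        · exact Or.inr (Or.inl (hex _ hv))
        · exact Or.inr (Or.inr (hB _ hs))
      · rw [Finset.card_insert_of_notMem, Finset.card_insert_of_notMem hv'.2, hc]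
        · ring
        · simp only [Finset.mem_insert, not_or]
          exact ⟨huv, hu'.2⟩

/-- Invariant subsets of size `a`, if `a` is even or if there is a fixed point. -/
theorem exists_inv_block (π : S → S) (hπ : ∀ s, π (π s) = s) (A : Finset S)
    (hA : ∀ s ∈ A, π s ∈ A) (a : ℕ) (ha : a ≤ A.card) (h : Even a ∨ ∃ w ∈ A, π w = w) :
    ∃ B ⊆ A, (∀ s ∈ B, π s ∈ B) ∧ B.card = a := by
  by_cases he : Even a
  · obtain ⟨m, rfl⟩ := he
    obtain ⟨B, h1, h2, h3⟩ := exists_inv_even π hπ A hA m (by omega)
    exact ⟨B, h1, h2, by omega⟩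
  · obtain ⟨w, hw, hπw⟩ := h.resolve_left he
    obtain ⟨m, rfl⟩ := Nat.not_even_iff_odd.1 he
    have hA' : ∀ s ∈ A.erase w, π s ∈ A.erase w := by
      intro s hs
      rw [Finset.mem_erase] at hs ⊢
      refine ⟨fun h => hs.1 ?_, hA _ hs.2⟩
      have := congrArg π h
      rwa [hπ, hπw] at this
    obtain ⟨B, h1, h2, h3⟩ := exists_inv_even π hπ (A.erase w) hA' m (by
      rw [Finset.card_erase_of_mem hw]; omega)
    have hwB : w ∉ B := fun h => (Finset.mem_erase.1 (h1 h)).1 rfl
    refine ⟨insert w B, ?_, ?_, ?_⟩
    · intro s hs
      rcases Finset.mem_insert.1 hs with rfl | hs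
      · exact hw
      · exact (Finset.mem_erase.1 (h1 hs)).2
    · intro s hs
      rcases Finset.mem_insert.1 hs with rfl | hs
      · rw [hπw]; exact Finset.mem_insert_self _ _
      · exact Finset.mem_insert_of_mem (h2 _ hs)
    · rw [Finset.card_insert_of_notMem hwB, h3]

omit [DecidableEq S] in
/-- An invariant set without fixed points has even size. -/
theorem even_card_of_no_fixed (π : S → S) (hπ : ∀ s, π (π s) = s) (A : Finset S)
    (hA : ∀ s ∈ A, π s ∈ A) (h : ∀ s ∈ A, π s ≠ s) : Even A.card := by
  have : ∑ s ∈ A, (1 : ZMod 2) = 0 := by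
    apply Finset.sum_involution (fun s _ => π s)
    · intro s _
      decide
    · intro s hs _
      exact h s hs
    · intro s hs
      exact hA s hs
    · intro s _
      exact hπ s
  rw [Finset.sum_const, nsmul_eq_mul, mul_one] at this
  exact (ZMod.natCast_eq_zero_iff_even).1 this

/-- Sets disjoint from their image, of all sizes up to half. -/
theorem exists_free_block (π : S → S) (hπ : ∀ s, π (π s) = s) (A : Finset S)
    (hA : ∀ s ∈ A, π s ∈ A) (h : ∀ s ∈ A, π s ≠ s) (m : ℕ) (hm : 2 * m ≤ A.card) :
    ∃ D ⊆ A, D.card = m ∧ Disjoint D (D.image π) := by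
  induction m with
  | zero => exact ⟨∅, by simp, by simp, by simp⟩
  | succ m ih =>
    obtain ⟨D, hDA, hc, hd⟩ := ih (by omega)
    have hsub : D ∪ D.image π ⊆ A := by
      apply Finset.union_subset hDA
      intro s hs
      obtain ⟨u, hu, rfl⟩ := Finset.mem_image.1 hs
      exact hA _ (hDA hu)
    have hcard : (D ∪ D.image π).card < A.card := by
      have h1 : (D ∪ D.image π).card ≤ D.card + (D.image π).card := Finset.card_union_le _ _
      have h2 : (D.image π).card ≤ D.card := Finset.card_image_le
      omega
    obtain ⟨u, huA, hu⟩ : ∃ u ∈ A, u ∉ D ∪ D.image π := by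
      by_contra hcon
      push Not at hcon
      exact absurd (Finset.card_le_card hcon) (by omega)
    rw [Finset.mem_union, not_or] at hu
    obtain ⟨hu1, hu2⟩ := hu
    have hu3 : π u ∉ D := fun hh => hu2 (Finset.mem_image.2 ⟨_, hh, hπ u⟩)
    refine ⟨insert u D, ?_, ?_, ?_⟩
    · intro s hs
      rcases Finset.mem_insert.1 hs with rfl | hs
      · exact huA
      · exact hDA hs
    · rw [Finset.card_insert_of_notMem hu1, hc]
    · rw [Finset.image_insert, Finset.disjoint_left]
      intro s hs hs2
      rcases Finset.mem_insert.1 hs with rfl | hs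
      · rcases Finset.mem_insert.1 hs2 with hs2 | hs2
        · exact h _ huA hs2.symm
        · exact hu2 hs2
      · rcases Finset.mem_insert.1 hs2 with rfl | hs2
        · exact hu3 hs
        · exact Finset.disjoint_left.1 hd hs hs2

theorem image_image_invol (π : S → S) (hπ : ∀ s, π (π s) = s) (B : Finset S) :
    (B.image π).image π = B := by
  rw [Finset.image_image]
  have : π ∘ π = id := funext hπ
  rw [this, Finset.image_id]

theorem image_eq_of_inv (π : S → S) (hπ : ∀ s, π (π s) = s) (B : Finset S)
    (hB : ∀ s ∈ B, π s ∈ B) : B.image π = B := by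
  ext s
  simp only [Finset.mem_image]
  constructor
  · rintro ⟨u, hu, rfl⟩
    exact hB u hu
  · intro hs
    exact ⟨π s, hB s hs, hπ s⟩

/-- The main combinatorial fact: a finite set of size `a * t` with an involution is a disjoint
union of blocks of size `a` permuted by the involution. -/
theorem exists_blocks (π : S → S) (hπ : ∀ s, π (π s) = s) (a : ℕ) (ha : 1 ≤ a) :
    ∀ (t : ℕ) (A : Finset S), (∀ s ∈ A, π s ∈ A) → A.card = a * t →
      ∃ 𝓑 : Finset (Finset S), (∀ B ∈ 𝓑, B.card = a ∧ B ⊆ A ∧ B.image π ∈ 𝓑) ∧
        (∀ B ∈ 𝓑, ∀ C ∈ 𝓑, B ≠ C → Disjoint B C) ∧ 𝓑.biUnion id = A := by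
  intro t
  induction t using Nat.strong_induction_on with
  | _ t ih =>
    intro A hA hc
    rcases Nat.eq_zero_or_pos t with rfl | htpos
    · refine ⟨∅, by simp, by simp, ?_⟩
      rw [mul_zero] at hc
      rw [Finset.card_eq_zero.1 hc]
      rfl
    by_cases hcase : Even a ∨ ∃ w ∈ A, π w = w
    · obtain ⟨B, hBA, hB, hBc⟩ := exists_inv_block π hπ A hA a
        (by rw [hc]; exact Nat.le_mul_of_pos_right a htpos) hcase
      have hA' : ∀ s ∈ A \ B, π s ∈ A \ B := by
        intro s hs
        rw [Finset.mem_sdiff] at hs ⊢
        refine ⟨hA _ hs.1, fun h => hs.2 ?_⟩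
        have := hB _ h
        rwa [hπ] at this
      have hc' : (A \ B).card = a * (t - 1) := by
        rw [Finset.card_sdiff_of_subset hBA, hc, hBc, Nat.mul_sub, mul_one]
      obtain ⟨𝓑, h1, h2, h3⟩ := ih (t - 1) (by omega) (A \ B) hA' hc'
      have hB𝓑 : ∀ C ∈ 𝓑, Disjoint B C := by
        intro C hC
        rw [Finset.disjoint_left]
        intro s hsB hsC
        exact (Finset.mem_sdiff.1 ((h1 C hC).2.1 hsC)).2 hsB
      refine ⟨insert B 𝓑, ?_, ?_, ?_⟩
      · intro C hC
        rcases Finset.mem_insert.1 hC with rfl | hC
        · refine ⟨hBc, hBA, ?_⟩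
          rw [image_eq_of_inv π hπ _ hB]
          exact Finset.mem_insert_self _ _
        · obtain ⟨h4, h5, h6⟩ := h1 C hC
          exact ⟨h4, h5.trans Finset.sdiff_subset, Finset.mem_insert_of_mem h6⟩
      · intro C hC E hE hne
        rcases Finset.mem_insert.1 hC with hC1 | hC1
        · subst hC1
          rcases Finset.mem_insert.1 hE with hE1 | hE1
          · exact absurd hE1.symm hne
          · exact hB𝓑 E hE1
        · rcases Finset.mem_insert.1 hE with hE1 | hE1
          · subst hE1
            exact (hB𝓑 C hC1).symm
          · exact h2 C hC1 E hE1 hne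
      · rw [Finset.biUnion_insert, h3]
        exact Finset.union_sdiff_of_subset hBA
    · push Not at hcase
      obtain ⟨hodd, hfree⟩ := hcase
      have hev := even_card_of_no_fixed π hπ A hA hfree
      have ht2 : 2 ≤ t := by
        by_contra hlt
        have : t = 1 := by omega
        subst this
        rw [hc, mul_one] at hev
        exact hodd hev
      obtain ⟨D, hDA, hDc, hDd⟩ := exists_free_block π hπ A hA hfree a (by
        rw [hc]; nlinarith)
      have hsub : D.image π ⊆ A := by
        intro s hs
        obtain ⟨u, hu, rfl⟩ := Finset.mem_image.1 hs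
        exact hA _ (hDA hu)
      have hEc : (D.image π).card = a := by
        rw [Finset.card_image_of_injective _ (Function.LeftInverse.injective hπ), hDc]
      have hA' : ∀ s ∈ A \ (D ∪ D.image π), π s ∈ A \ (D ∪ D.image π) := by
        intro s hs
        rw [Finset.mem_sdiff, Finset.mem_union, not_or] at hs ⊢
        refine ⟨hA _ hs.1, ?_, ?_⟩
        · intro h
          exact hs.2.2 (Finset.mem_image.2 ⟨_, h, hπ s⟩)
        · intro h
          obtain ⟨u, hu, e⟩ := Finset.mem_image.1 h
          have : u = s := by
            have := congrArg π e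
            rwa [hπ, hπ] at this
          subst this
          exact hs.2.1 hu
      have hc' : (A \ (D ∪ D.image π)).card = a * (t - 2) := by
        rw [Finset.card_sdiff_of_subset (Finset.union_subset hDA hsub), hc,
          Finset.card_union_of_disjoint hDd, hDc, hEc, Nat.mul_sub]
        ring_nf
      obtain ⟨𝓑, h1, h2, h3⟩ := ih (t - 2) (by omega) _ hA' hc'
      have hsd : ∀ C ∈ 𝓑, Disjoint (D ∪ D.image π) C := by
        intro C hC
        rw [Finset.disjoint_left]
        intro s hsB hsC
        exact (Finset.mem_sdiff.1 ((h1 C hC).2.1 hsC)).2 hsB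
      have hD𝓑 : ∀ C ∈ 𝓑, Disjoint D C := fun C hC =>
        Finset.disjoint_of_subset_left Finset.subset_union_left (hsd C hC)
      have hE𝓑 : ∀ C ∈ 𝓑, Disjoint (D.image π) C := fun C hC =>
        Finset.disjoint_of_subset_left Finset.subset_union_right (hsd C hC)
      refine ⟨insert D (insert (D.image π) 𝓑), ?_, ?_, ?_⟩
      · intro C hC
        simp only [Finset.mem_insert] at hC
        rcases hC with rfl | rfl | hC
        · refine ⟨hDc, hDA, by simp⟩
        · refine ⟨hEc, hsub, ?_⟩
          rw [image_image_invol π hπ]
          simp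
        · obtain ⟨h4, h5, h6⟩ := h1 C hC
          refine ⟨h4, h5.trans Finset.sdiff_subset, ?_⟩
          simp only [Finset.mem_insert]
          exact Or.inr (Or.inr h6)
      · intro C hC E hE hne
        simp only [Finset.mem_insert] at hC hE
        rcases hC with rfl | rfl | hC <;> rcases hE with rfl | rfl | hE
        · exact absurd rfl hne
        · exact hDd
        · exact hD𝓑 E hE
        · exact hDd.symm
        · exact absurd rfl hne
        · exact hE𝓑 E hE
        · exact (hD𝓑 C hC).symm
        · exact (hE𝓑 C hC).symm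
        · exact h2 C hC E hE hne
      · rw [Finset.biUnion_insert, Finset.biUnion_insert, h3]
        simp only [id]
        rw [← Finset.union_assoc]
        exact Finset.union_sdiff_of_subset (Finset.union_subset hDA hsub)

end Blocks

section Mono

variable {F V : Type*} [Field F] [AddCommGroup V] [Module F V] [FiniteDimensional F V]

/-- A linear map with invertible scalar square has, on each invariant subspace, a monomial basis
whose permutation is an involution. -/
theorem exists_monomial_family (x : V →ₗ[F] V) (z : F) (hz : z ≠ 0) (hx : ∀ v, x (x v) = z • v) :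
    ∀ (m : ℕ) (W : Submodule F V), Module.finrank F W = m → (∀ v ∈ W, x v ∈ W) →
      ∃ (S : Type) (_ : Fintype S) (_ : DecidableEq S) (b : S → V) (π : Equiv.Perm S),
        LinearIndependent F b ∧ Submodule.span F (Set.range b) = W ∧ (∀ s, π (π s) = s) ∧
          ∀ s, ∃ c : F, c ≠ 0 ∧ x (b s) = c • b (π s) := by
  intro m
  induction m using Nat.strong_induction_on with
  | _ m ih =>
    intro W hm hW
    by_cases hall : ∀ v ∈ W, ∃ c : F, x v = c • v
    · let bW := Module.finBasis F W
      refine ⟨Fin (Module.finrank F W), inferInstance, inferInstance, fun i => (bW i : V), 1, ?_, ?_,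
        fun _ => rfl, ?_⟩
      · exact bW.linearIndependent.map' W.subtype (Submodule.ker_subtype W)
      · have h1 : Set.range (fun i => (bW i : V)) = W.subtype '' Set.range bW := by
          rw [← Set.range_comp]; rfl
        rw [h1, ← Submodule.map_span, bW.span_eq]
        simp
      · intro s
        obtain ⟨c, hc⟩ := hall _ (bW s).2
        refine ⟨c, ?_, by simpa using hc⟩
        rintro rfl
        have h0 : (bW s : V) ≠ 0 := by
          intro h
          exact bW.ne_zero s (Subtype.ext h)
        rw [zero_smul] at hc
        have h2 := hx (bW s : V)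
        rw [hc, map_zero] at h2
        exact (smul_ne_zero hz h0) h2.symm
    · push Not at hall
      obtain ⟨v, hvW, hv⟩ := hall
      have hxv : x v ∉ Submodule.span F {v} := by
        intro h
        obtain ⟨c, hc⟩ := Submodule.mem_span_singleton.1 h
        exact hv c hc.symm
      obtain ⟨φ0, hφ1, hφ2⟩ := Submodule.exists_dual_map_eq_bot_of_notMem hxv inferInstance
      have hφv0 : φ0 v = 0 := by
        have : φ0 v ∈ (Submodule.span F {v}).map φ0 :=
          ⟨v, Submodule.mem_span_singleton_self v, rfl⟩
        rw [hφ2] at this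
        simpa using this
      let φ : Module.Dual F V := (φ0 (x v))⁻¹ • φ0
      have hφv : φ v = 0 := by simp [φ, hφv0]
      have hφxv : φ (x v) = 1 := by simp [φ, hφ1]
      let C : Submodule F V := W ⊓ (LinearMap.ker φ ⊓ LinearMap.ker (φ ∘ₗ x))
      have hCmem : ∀ w, w ∈ C ↔ w ∈ W ∧ φ w = 0 ∧ φ (x w) = 0 := by
        intro w
        simp [C, Submodule.mem_inf, LinearMap.mem_ker]
      have hCinv : ∀ w ∈ C, x w ∈ C := by
        intro w hw
        rw [hCmem] at hw ⊢
        refine ⟨hW _ hw.1, hw.2.2, ?_⟩
        rw [hx, map_smul, hw.2.1, smul_zero]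
      have hCW : C ≤ W := inf_le_left
      have hvC : v ∉ C := by
        intro h
        have := ((hCmem v).1 h).2.2
        rw [hφxv] at this
        exact one_ne_zero this
      have hlt : C < W := lt_of_le_of_ne hCW (fun h => hvC (h ▸ hvW))
      have hfr : Module.finrank F C < m := by
        rw [← hm]
        exact Submodule.finrank_lt_finrank_of_lt hlt
      obtain ⟨S, hS, hS', b, π, hli, hsp, hπ, hmon⟩ := ih _ hfr C rfl hCinv
      let g : Fin 2 → V := ![v, x v]
      have hdisj : Disjoint (Submodule.span F (Set.range b)) (Submodule.span F (Set.range g)) := by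
        rw [hsp, Submodule.disjoint_def]
        intro w hw hw2
        have hrg : Set.range g = {v, x v} := by
          simp [g, Matrix.range_cons]
          exact Set.pair_comm _ _
        rw [hrg] at hw2
        obtain ⟨α, β, rfl⟩ := Submodule.mem_span_pair.1 hw2
        obtain ⟨-, h1, h2⟩ := (hCmem _).1 hw
        simp only [map_add, map_smul, hφv, hφxv, hx, smul_eq_mul, mul_zero, zero_add, mul_one] at h1 h2
        have h2' : α = 0 := by simpa using h2
        simp [h1, h2']
      have hg : LinearIndependent F g := by
        rw [LinearIndependent.pair_iff]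
        intro α β hαβ
        have h1 := congrArg φ hαβ
        have h2 := congrArg (fun w => φ (x w)) hαβ
        simp only [map_add, map_smul, hφv, hφxv, hx, smul_eq_mul, mul_zero, zero_add, mul_one,
          map_zero] at h1 h2
        have h2' : α = 0 := by simpa using h2
        exact ⟨h2', h1⟩
      refine ⟨S ⊕ Fin 2, inferInstance, inferInstance, Sum.elim b g,
        Equiv.sumCongr π (Equiv.swap 0 1), hli.sum_type hg hdisj, ?_, ?_, ?_⟩
      · rw [Set.Sum.elim_range, Submodule.span_union, hsp]
        have hrg : Set.range g = {v, x v} := by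
          simp [g, Matrix.range_cons]
          exact Set.pair_comm _ _
        rw [hrg]
        apply le_antisymm
        · apply sup_le hCW
          rw [Submodule.span_le]
          rintro w (rfl | rfl)
          · exact hvW
          · exact hW _ hvW
        · intro w hw
          have hw' : w - φ (x w) • v - φ w • x v ∈ C := by
            rw [hCmem]
            refine ⟨?_, ?_, ?_⟩
            · exact W.sub_mem (W.sub_mem hw (W.smul_mem _ hvW)) (W.smul_mem _ (hW _ hvW))
            · simp [hφv, hφxv]
            · simp [hφv, hφxv, hx]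
          have e : w = (w - φ (x w) • v - φ w • x v) + (φ (x w) • v + φ w • x v) := by abel
          rw [e]
          exact Submodule.add_mem_sup hw' (Submodule.mem_span_pair.2 ⟨_, _, rfl⟩)
      · rintro (s | i)
        · simp [hπ]
        · simp only [Equiv.sumCongr_apply, Sum.map_inr, Equiv.swap_apply_self]
      · rintro (s | i)
        · obtain ⟨c, hc, e⟩ := hmon s
          exact ⟨c, hc, by simpa using e⟩
        · fin_cases i
          · refine ⟨1, one_ne_zero, ?_⟩
            simp [g]
          · refine ⟨z, hz, ?_⟩
            simp [g, hx]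

end Mono

end Cfsg.Agent.H29
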