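/-
Nondegenerate alternating forms: an isometry with scalar square permutes the planes of an
orthogonal decomposition into hyperbolic planes.
-/
import Mathlib

set_option autoImplicit false

namespace Cfsg.Agent.H29

section Abstract

variable {F V : Type*} [Field F] [AddCommGroup V] [Module F V]

/-- The orthogonal of `Y` inside `W`. -/
def orthIn (ω : V →ₗ[F] V →ₗ[F] F) (W Y : Submodule F V) : Submodule F V where
  carrier := {w | w ∈ W ∧ ∀ y ∈ Y, ω w y = 0}
  add_mem' := by
    rintro a b ⟨ha, ha'⟩ ⟨hb, hb'⟩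
    refine ⟨W.add_mem ha hb, fun y hy => ?_⟩
    rw [map_add, LinearMap.add_apply, ha' y hy, hb' y hy, add_zero]
  zero_mem' := ⟨W.zero_mem, fun y _ => by simp⟩
  smul_mem' := by
    rintro c a ⟨ha, ha'⟩
    refine ⟨W.smul_mem c ha, fun y hy => ?_⟩
    rw [map_smul, LinearMap.smul_apply, ha' y hy, smul_zero]

theorem mem_orthIn {ω : V →ₗ[F] V →ₗ[F] F} {W Y : Submodule F V} {w : V} :
    w ∈ orthIn ω W Y ↔ w ∈ W ∧ ∀ y ∈ Y, ω w y = 0 := Iff.rfl

/-- Nondegeneracy on a subspace. -/
def NondegOn (ω : V →ₗ[F] V →ₗ[F] F) (W : Submodule F V) : Prop :=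
  ∀ u ∈ W, u ≠ 0 → ∃ v ∈ W, ω u v ≠ 0

theorem form_swap {ω : V →ₗ[F] V →ₗ[F] F} (halt : ∀ v, ω v v = 0) (u v : V) : ω u v = - ω v u := by
  have h := halt (u + v)
  simp only [map_add, LinearMap.add_apply, halt, zero_add, add_zero] at h
  linear_combination h

theorem form_span_left {ω : V →ₗ[F] V →ₗ[F] F} {A : Set V} {v : V} (h : ∀ a ∈ A, ω a v = 0) :
    ∀ u ∈ Submodule.span F A, ω u v = 0 := by
  intro u hu
  induction hu using Submodule.span_induction with
  | mem x hx => exact h x hx
  | zero => simp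
  | add a b _ _ ha hb => rw [map_add, LinearMap.add_apply, ha, hb, add_zero]
  | smul c a _ ha => rw [map_smul, LinearMap.smul_apply, ha, smul_zero]

theorem form_span_right {ω : V →ₗ[F] V →ₗ[F] F} {B : Set V} {u : V} (h : ∀ b ∈ B, ω u b = 0) :
    ∀ v ∈ Submodule.span F B, ω u v = 0 := by
  intro v hv
  induction hv using Submodule.span_induction with
  | mem x hx => exact h x hx
  | zero => simp
  | add a b _ _ ha hb => rw [map_add, ha, hb, add_zero]
  | smul c a _ ha => rw [map_smul, ha, smul_zero]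

/-- Splitting off a hyperbolic plane. -/
theorem sub_mem_orth_plane {ω : V →ₗ[F] V →ₗ[F] F} (halt : ∀ v, ω v v = 0) {W : Submodule F V}
    {e f : V} (he : e ∈ W) (hf : f ∈ W) (hef : ω e f ≠ 0) {w : V} (hw : w ∈ W) :
    w - (ω w f / ω e f) • e + (ω w e / ω e f) • f ∈
      orthIn ω W (Submodule.span F {e, f}) := by
  refine ⟨W.add_mem (W.sub_mem hw (W.smul_mem _ he)) (W.smul_mem _ hf), ?_⟩
  apply form_span_right
  rintro y (rfl | rfl)
  · simp only [map_add, map_sub, map_smul, LinearMap.add_apply, LinearMap.sub_apply,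
      LinearMap.smul_apply, halt, smul_eq_mul, mul_zero, sub_zero]
    rw [form_swap halt f y]
    field_simp
    ring
  · have hy : y ∈ ({e, y} : Set V) := by simp
    simp only [map_add, map_sub, map_smul, LinearMap.add_apply, LinearMap.sub_apply,
      LinearMap.smul_apply, halt, smul_eq_mul, mul_zero, add_zero]
    field_simp
    ring

theorem sup_orth_plane {ω : V →ₗ[F] V →ₗ[F] F} (halt : ∀ v, ω v v = 0) {W : Submodule F V}
    {e f : V} (he : e ∈ W) (hf : f ∈ W) (hef : ω e f ≠ 0) :
    Submodule.span F {e, f} ⊔ orthIn ω W (Submodule.span F {e, f}) = W := by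
  apply le_antisymm
  · apply sup_le
    · rw [Submodule.span_le]
      rintro y (rfl | rfl)
      · exact he
      · exact hf
    · exact fun w hw => hw.1
  · intro w hw
    have h1 := sub_mem_orth_plane halt he hf hef hw
    have e1 : w = ((ω w f / ω e f) • e + (-(ω w e / ω e f)) • f) +
        (w - (ω w f / ω e f) • e + (ω w e / ω e f) • f) := by
      rw [neg_smul]; abel
    rw [e1]
    exact Submodule.add_mem_sup (Submodule.mem_span_pair.2 ⟨_, _, rfl⟩) h1

theorem nondeg_orth_plane {ω : V →ₗ[F] V →ₗ[F] F} (halt : ∀ v, ω v v = 0) {W : Submodule F V}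
    (hW : NondegOn ω W) {e f : V} (he : e ∈ W) (hf : f ∈ W) (hef : ω e f ≠ 0) :
    NondegOn ω (orthIn ω W (Submodule.span F {e, f})) := by
  intro u hu hu0
  obtain ⟨v, hv, huv⟩ := hW u hu.1 hu0
  refine ⟨_, sub_mem_orth_plane halt he hf hef hv, ?_⟩
  have h1 : ω u e = 0 := hu.2 e (Submodule.subset_span (by simp))
  have h2 : ω u f = 0 := hu.2 f (Submodule.subset_span (by simp))
  simpa [h1, h2] using huv

/-- The orthogonal of an invariant subspace is invariant. -/
theorem orthIn_invariant {ω : V →ₗ[F] V →ₗ[F] F} {x : V →ₗ[F] V} {z : F} (hz : z ≠ 0)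
    (hxω : ∀ u v, ω (x u) (x v) = ω u v) (hx : ∀ v, x (x v) = z • v) {W Y : Submodule F V}
    (hW : ∀ w ∈ W, x w ∈ W) (hY : ∀ y ∈ Y, x y ∈ Y) {w : V} (hw : w ∈ orthIn ω W Y) :
    x w ∈ orthIn ω W Y := by
  refine ⟨hW _ hw.1, fun y hy => ?_⟩
  have h1 : ω (x w) (x (x y)) = 0 := by rw [hxω]; exact hw.2 _ (hY _ hy)
  rw [hx, map_smul, smul_eq_mul] at h1
  exact (mul_eq_zero.1 h1).resolve_left hz

/-- An orthogonal family of hyperbolic planes spanning `W`. -/
structure PlaneSys (ω : V →ₗ[F] V →ₗ[F] F) (W : Submodule F V) {S : Type} (b : S → Bool → V) : Prop where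
  self : ∀ k, ω (b k false) (b k true) ≠ 0
  orth : ∀ k l i j, k ≠ l → ω (b k i) (b l j) = 0
  span : Submodule.span F (Set.range (Function.uncurry b)) = W

/-- One hyperbolic plane. -/
theorem planeSys_single {ω : V →ₗ[F] V →ₗ[F] F} {e f : V} (hef : ω e f ≠ 0) :
    PlaneSys ω (Submodule.span F {e, f}) (fun (_ : Unit) (i : Bool) => cond i f e) where
  self := fun _ => hef
  orth := fun k l _ _ hkl => absurd (Subsingleton.elim k l) hkl
  span := by
    congr 1
    ext y
    constructor
    · rintro ⟨⟨_, i⟩, rfl⟩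
      cases i
      · exact Or.inl rfl
      · exact Or.inr rfl
    · rintro (rfl | rfl)
      · exact ⟨((), false), rfl⟩
      · exact ⟨((), true), rfl⟩

theorem planeSys_empty (ω : V →ₗ[F] V →ₗ[F] F) : PlaneSys ω ⊥ (fun (k : Empty) (_ : Bool) => (k.elim : V)) where
  self := fun k => k.elim
  orth := fun k => k.elim
  span := by
    rw [Submodule.span_eq_bot]
    rintro _ ⟨⟨k, _⟩, _⟩
    exact k.elim

theorem PlaneSys.mem {ω : V →ₗ[F] V →ₗ[F] F} {W : Submodule F V} {S : Type} {b : S → Bool → V}
    (h : PlaneSys ω W b) (k : S) (i : Bool) : b k i ∈ W := by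
  rw [← h.span]
  exact Submodule.subset_span ⟨(k, i), rfl⟩

/-- Orthogonal sum of two systems. -/
theorem PlaneSys.sum {ω : V →ₗ[F] V →ₗ[F] F} (halt : ∀ v, ω v v = 0) {W₁ W₂ : Submodule F V}
    {S₁ S₂ : Type} {b₁ : S₁ → Bool → V} {b₂ : S₂ → Bool → V} (h₁ : PlaneSys ω W₁ b₁)
    (h₂ : PlaneSys ω W₂ b₂) (h12 : ∀ u ∈ W₁, ∀ v ∈ W₂, ω u v = 0) :
    PlaneSys ω (W₁ ⊔ W₂) (Sum.elim b₁ b₂) where
  self := by
    rintro (k | k)
    · exact h₁.self k
    · exact h₂.self k
  orth := by
    rintro (k | k) (l | l) i j hkl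
    · exact h₁.orth k l i j (fun h => hkl (by rw [h]))
    · exact h12 _ (h₁.mem k i) _ (h₂.mem l j)
    · show ω (b₂ k i) (b₁ l j) = 0
      rw [form_swap halt, h12 _ (h₁.mem l j) _ (h₂.mem k i), neg_zero]
    · exact h₂.orth k l i j (fun h => hkl (by rw [h]))
  span := by
    rw [← h₁.span, ← h₂.span, ← Submodule.span_union]
    congr 1
    ext y
    constructor
    · rintro ⟨⟨k | k, i⟩, rfl⟩
      · exact Or.inl ⟨(k, i), rfl⟩
      · exact Or.inr ⟨(k, i), rfl⟩
    · rintro (⟨⟨k, i⟩, rfl⟩ | ⟨⟨k, i⟩, rfl⟩)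
      · exact ⟨(Sum.inl k, i), rfl⟩
      · exact ⟨(Sum.inr k, i), rfl⟩

/-- Orthogonal to a plane inside a span. -/
theorem form_uncurry_sum {ω : V →ₗ[F] V →ₗ[F] F} (halt : ∀ v, ω v v = 0) {S : Type} [Fintype S]
    [DecidableEq S] {b : S → Bool → V}
    (horth : ∀ k l i j, k ≠ l → ω (b k i) (b l j) = 0) (c : S × Bool → F) (k : S) (j : Bool) :
    ω (∑ p, c p • b p.1 p.2) (b k j) = c (k, !j) * ω (b k (!j)) (b k j) := by
  rw [map_sum, LinearMap.sum_apply]
  rw [Finset.sum_eq_single (k, !j)]
  · simp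
  · rintro ⟨l, i⟩ _ hne
    simp only [map_smul, LinearMap.smul_apply, smul_eq_mul]
    by_cases hl : l = k
    · subst hl
      have hij : i = j := by
        cases i <;> cases j <;> simp_all
      rw [hij, halt, mul_zero]
    · rw [horth l k i j hl, mul_zero]
  · intro h
    exact absurd (Finset.mem_univ _) h

theorem self_ne_zero {ω : V →ₗ[F] V →ₗ[F] F} (halt : ∀ v, ω v v = 0) {S : Type}
    {b : S → Bool → V} (hself : ∀ k, ω (b k false) (b k true) ≠ 0) (k : S) (j : Bool) :
    ω (b k (!j)) (b k j) ≠ 0 := by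
  cases j
  · simp only [Bool.not_false]
    rw [form_swap halt]
    exact neg_ne_zero.2 (hself k)
  · exact hself k

/-- A system of planes is linearly independent. -/
theorem planeSys_linearIndependent {ω : V →ₗ[F] V →ₗ[F] F} (halt : ∀ v, ω v v = 0) {W : Submodule F V}
    {S : Type} [Fintype S] {b : S → Bool → V} (h : PlaneSys ω W b) :
    LinearIndependent F (Function.uncurry b) := by
  classical
  rw [Fintype.linearIndependent_iff]
  intro c hc p
  obtain ⟨k, j⟩ := p
  have h1 := form_uncurry_sum halt h.orth c k (!j)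
  have h2 : (∑ p, c p • b p.1 p.2) = 0 := hc
  rw [h2] at h1
  simp only [map_zero, LinearMap.zero_apply, Bool.not_not] at h1
  have := self_ne_zero halt h.self k (!j)
  simp only [Bool.not_not] at this
  exact ((mul_eq_zero.1 h1.symm).resolve_right this)

/-- A system of planes spans a nondegenerate subspace. -/
theorem planeSys_nondeg {ω : V →ₗ[F] V →ₗ[F] F} (halt : ∀ v, ω v v = 0) {W : Submodule F V}
    {S : Type} [Fintype S] {b : S → Bool → V} (h : PlaneSys ω W b) : NondegOn ω W := by
  classical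
  intro u hu hu0
  by_contra hcon
  push Not at hcon
  rw [← h.span] at hu
  obtain ⟨c, rfl⟩ := (Submodule.mem_span_range_iff_exists_fun F).1 hu
  apply hu0
  have hc : ∀ p, c p = 0 := by
    rintro ⟨k, j⟩
    have h1 := form_uncurry_sum halt h.orth c k (!j)
    rw [Bool.not_not] at h1
    have h2 : ω (∑ p, c p • b p.1 p.2) (b k (!j)) = 0 := hcon _ (h.mem k (!j))
    rw [h2] at h1
    exact (mul_eq_zero.1 h1.symm).resolve_right
      (by simpa using self_ne_zero halt h.self k (!j))
  simp [hc]

variable [FiniteDimensional F V]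

/-- The main decomposition: on an invariant nondegenerate subspace, an isometry with scalar square
permutes the planes of some orthogonal decomposition, by an involution. -/
theorem exists_plane_sys {ω : V →ₗ[F] V →ₗ[F] F} (halt : ∀ v, ω v v = 0) (x : V →ₗ[F] V) (z : F)
    (hz : z ≠ 0) (hxω : ∀ u v, ω (x u) (x v) = ω u v) (hx : ∀ v, x (x v) = z • v) :
    ∀ (m : ℕ) (W : Submodule F V), Module.finrank F W = m → (∀ v ∈ W, x v ∈ W) → NondegOn ω W →
      ∃ (S : Type) (_ : Fintype S) (_ : DecidableEq S) (b : S → Bool → V) (π : Equiv.Perm S),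
        PlaneSys ω W b ∧ (∀ s, π (π s) = s) ∧
          ∀ k i, x (b k i) ∈ Submodule.span F (Set.range (b (π k))) := by
  intro m
  induction m using Nat.strong_induction_on with
  | _ m ih =>
    intro W hm hinv hnd
    by_cases hbot : W = ⊥
    · subst hbot
      exact ⟨Empty, inferInstance, inferInstance, _, 1, planeSys_empty ω, fun k => k.elim,
        fun k => k.elim⟩
    -- a fixed plane
    have fixed : ∀ e f, e ∈ W → f ∈ W → ω e f ≠ 0 → x e ∈ Submodule.span F {e, f} →
        x f ∈ Submodule.span F {e, f} →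
        ∃ (S : Type) (_ : Fintype S) (_ : DecidableEq S) (b : S → Bool → V) (π : Equiv.Perm S),
          PlaneSys ω W b ∧ (∀ s, π (π s) = s) ∧
            ∀ k i, x (b k i) ∈ Submodule.span F (Set.range (b (π k))) := by
      intro e f he hf hef hxe hxf
      have hPinv : ∀ y ∈ Submodule.span F {e, f}, x y ∈ Submodule.span F {e, f} := by
        intro y hy
        obtain ⟨α, β, rfl⟩ := Submodule.mem_span_pair.1 hy
        rw [map_add, map_smul, map_smul]
        exact Submodule.add_mem _ (Submodule.smul_mem _ _ hxe) (Submodule.smul_mem _ _ hxf)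
      let W' := orthIn ω W (Submodule.span F {e, f})
      have hW'inv : ∀ v ∈ W', x v ∈ W' := fun v hv => orthIn_invariant hz hxω hx hinv hPinv hv
      have hnd' := nondeg_orth_plane halt hnd he hf hef
      have hfr : Module.finrank F W' < m := by
        rw [← hm]
        apply Submodule.finrank_lt_finrank_of_lt
        refine lt_of_le_of_ne (fun w hw => hw.1) (fun h => ?_)
        have : e ∈ W' := h ▸ he
        exact hef (this.2 f (Submodule.subset_span (by simp)))
      obtain ⟨S, hS, hS', b, π, hsys, hπ, hmon⟩ := ih _ hfr W' rfl hW'inv hnd'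
      have h12 : ∀ u ∈ Submodule.span F {e, f}, ∀ v ∈ W', ω u v = 0 := by
        intro u hu v hv
        rw [form_swap halt]
        rw [hv.2 u hu, neg_zero]
      have hsum := (planeSys_single hef).sum halt hsys h12
      rw [sup_orth_plane halt he hf hef] at hsum
      refine ⟨Unit ⊕ S, inferInstance, inferInstance, _, Equiv.sumCongr (Equiv.refl _) π, hsum, ?_, ?_⟩
      · rintro (k | k)
        · rfl
        · simp [hπ]
      · have hr : Set.range (fun i : Bool => cond i f e) = {e, f} := by
          ext y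
          constructor
          · rintro ⟨i, rfl⟩
            cases i
            · exact Or.inl rfl
            · exact Or.inr rfl
          · rintro (rfl | rfl)
            · exact ⟨false, rfl⟩
            · exact ⟨true, rfl⟩
        rintro (k | k) i
        · show x (cond i f e) ∈ Submodule.span F (Set.range (fun i : Bool => cond i f e))
          rw [hr]
          cases i
          · exact hxe
          · exact hxf
        · exact hmon k i
    by_cases hc1 : ∃ v ∈ W, ω v (x v) ≠ 0
    · obtain ⟨v, hv, hvx⟩ := hc1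
      refine fixed v (x v) hv (hinv _ hv) hvx ?_ ?_
      · exact Submodule.subset_span (by simp)
      · rw [hx]
        exact Submodule.smul_mem _ _ (Submodule.subset_span (by simp))
    push Not at hc1
    by_cases hc2 : ∀ v ∈ W, ∃ c : F, x v = c • v
    · obtain ⟨v, hv, hv0⟩ := (Submodule.ne_bot_iff W).1 hbot
      obtain ⟨u, hu, hvu⟩ := hnd v hv hv0
      refine fixed v u hv hu hvu ?_ ?_
      · obtain ⟨c, hc⟩ := hc2 v hv
        rw [hc]
        exact Submodule.smul_mem _ _ (Submodule.subset_span (by simp))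
      · obtain ⟨c, hc⟩ := hc2 u hu
        rw [hc]
        exact Submodule.smul_mem _ _ (Submodule.subset_span (by simp))
    push Not at hc2
    obtain ⟨v, hv, hvc⟩ := hc2
    -- a swapped pair of planes
    have hv0 : v ≠ 0 := by
      rintro rfl
      exact hvc 0 (by simp)
    have hxv : x v ∈ W := hinv _ hv
    have hxv0 : x v ≠ 0 := by
      intro h
      have h2 := hx v
      rw [h, map_zero] at h2
      exact (smul_ne_zero hz hv0) h2.symm
    obtain ⟨y, hy, hvy⟩ := hnd (x v) hxv hxv0
    obtain ⟨u, hu, hvu, hxvu⟩ : ∃ u ∈ W, ω v u ≠ 0 ∧ ω (x v) u = 0 := by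
      by_contra hcon
      push Not at hcon
      let c : F := ω v y / ω (x v) y
      have hc : ∀ w ∈ W, ω (v - c • x v) w = 0 := by
        intro w hw
        let w' : V := w - (ω (x v) w / ω (x v) y) • y
        have hw' : w' ∈ W := W.sub_mem hw (W.smul_mem _ hy)
        have h1 : ω (x v) w' = 0 := by
          simp only [w', map_sub, map_smul, smul_eq_mul]
          field_simp
          ring
        have h2 : ω v w' = 0 := by
          by_contra hne
          exact hcon w' hw' hne h1
        simp only [w', map_sub, map_smul, smul_eq_mul] at h2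
        simp only [map_sub, map_smul, LinearMap.sub_apply, LinearMap.smul_apply, smul_eq_mul, c]
        field_simp at h2 ⊢
        linear_combination h2
      have h0 : v - c • x v = 0 := by
        by_contra hne
        obtain ⟨w, hw, hw2⟩ := hnd _ (W.sub_mem hv (W.smul_mem _ hxv)) hne
        exact hw2 (hc w hw)
      have hc0 : c ≠ 0 := by
        rintro hc0
        rw [hc0, zero_smul, sub_zero] at h0
        exact hv0 h0
      apply hvc c⁻¹
      have : v = c • x v := sub_eq_zero.1 h0
      rw [eq_inv_smul_iff₀ hc0]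
      exact this.symm
    have hxu : x u ∈ W := hinv _ hu
    -- orthogonality relations
    have h_v_xv : ω v (x v) = 0 := hc1 v hv
    have h_u_xu : ω u (x u) = 0 := hc1 u hu
    have h_xv_xu : ω (x v) (x u) ≠ 0 := by rw [hxω]; exact hvu
    have h_v_xu : ω v (x u) = 0 := by
      have := hxω (x v) u
      rw [hx, map_smul, LinearMap.smul_apply, smul_eq_mul] at this
      rw [hxvu] at this
      rw [← hxω v (x u), hx, map_smul, smul_eq_mul, hxvu, mul_zero]
    have h_u_xv : ω u (x v) = 0 := by rw [form_swap halt, hxvu, neg_zero]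
    -- the two planes
    let P₁ := Submodule.span F ({v, u} : Set V)
    let W₁ := orthIn ω W P₁
    have hnd₁ : NondegOn ω W₁ := nondeg_orth_plane halt hnd hv hu hvu
    have hsup₁ : P₁ ⊔ W₁ = W := sup_orth_plane halt hv hu hvu
    have hxv₁ : x v ∈ W₁ := by
      refine ⟨hxv, ?_⟩
      apply form_span_right
      rintro y (rfl | rfl)
      · rw [form_swap halt, h_v_xv, neg_zero]
      · exact hxvu
    have hxu₁ : x u ∈ W₁ := by
      refine ⟨hxu, ?_⟩
      apply form_span_right
      rintro y (rfl | rfl)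
      · rw [form_swap halt, h_v_xu, neg_zero]
      · rw [form_swap halt, h_u_xu, neg_zero]
    let P₂ := Submodule.span F ({x v, x u} : Set V)
    let W₂ := orthIn ω W₁ P₂
    have hnd₂ : NondegOn ω W₂ := nondeg_orth_plane halt hnd₁ hxv₁ hxu₁ h_xv_xu
    have hsup₂ : P₂ ⊔ W₂ = W₁ := sup_orth_plane halt hxv₁ hxu₁ h_xv_xu
    let Y := P₁ ⊔ P₂
    have hYinv : ∀ y ∈ Y, x y ∈ Y := by
      have hP₁ : ∀ y ∈ P₁, x y ∈ P₂ := by
        intro y hy
        obtain ⟨α, β, rfl⟩ := Submodule.mem_span_pair.1 hy
        rw [map_add, map_smul, map_smul]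
        exact Submodule.mem_span_pair.2 ⟨α, β, rfl⟩
      have hP₂ : ∀ y ∈ P₂, x y ∈ P₁ := by
        intro y hy
        obtain ⟨α, β, rfl⟩ := Submodule.mem_span_pair.1 hy
        rw [map_add, map_smul, map_smul, hx, hx, smul_smul, smul_smul]
        exact Submodule.mem_span_pair.2 ⟨α * z, β * z, rfl⟩
      intro y hy
      obtain ⟨a, ha, b, hb, rfl⟩ := Submodule.mem_sup.1 hy
      rw [map_add, add_comm]
      exact Submodule.add_mem_sup (hP₂ _ hb) (hP₁ _ ha)
    have hW₂Y : ∀ w, w ∈ W₂ ↔ w ∈ orthIn ω W Y := by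
      intro w
      constructor
      · rintro ⟨⟨h1, h2⟩, h3⟩
        refine ⟨h1, fun y hy => ?_⟩
        obtain ⟨a, ha, b, hb, rfl⟩ := Submodule.mem_sup.1 hy
        rw [map_add, h2 a ha, h3 b hb, add_zero]
      · rintro ⟨h1, h2⟩
        exact ⟨⟨h1, fun y hy => h2 y (Submodule.mem_sup_left hy)⟩,
          fun y hy => h2 y (Submodule.mem_sup_right hy)⟩
    have hW₂inv : ∀ w ∈ W₂, x w ∈ W₂ := by
      intro w hw
      rw [hW₂Y] at hw ⊢
      exact orthIn_invariant hz hxω hx hinv hYinv hw
    have hfr : Module.finrank F W₂ < m := by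
      rw [← hm]
      apply Submodule.finrank_lt_finrank_of_lt
      refine lt_of_le_of_ne (fun w hw => hw.1.1) (fun h => ?_)
      have h1 : v ∈ W₂ := h ▸ hv
      exact hvu (h1.1.2 u (Submodule.subset_span (by simp)))
    obtain ⟨S, hS, hS', b, π, hsys, hπ, hmon⟩ := ih _ hfr W₂ rfl hW₂inv hnd₂
    have h2' : ∀ a ∈ P₂, ∀ c ∈ W₂, ω a c = 0 := by
      intro a ha c hc
      rw [form_swap halt, hc.2 a ha, neg_zero]
    have hsys₂ := (planeSys_single h_xv_xu).sum halt hsys h2'
    rw [hsup₂] at hsys₂
    have h1' : ∀ a ∈ P₁, ∀ c ∈ W₁, ω a c = 0 := by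
      intro a ha c hc
      rw [form_swap halt, hc.2 a ha, neg_zero]
    have hsys₁ := (planeSys_single hvu).sum halt hsys₂ h1'
    rw [hsup₁] at hsys₁
    refine ⟨Unit ⊕ (Unit ⊕ S), inferInstance, inferInstance, _,
      ⟨fun k => match k with
        | Sum.inl a => Sum.inr (Sum.inl a)
        | Sum.inr (Sum.inl a) => Sum.inl a
        | Sum.inr (Sum.inr s) => Sum.inr (Sum.inr (π s)),
       fun k => match k with
        | Sum.inl a => Sum.inr (Sum.inl a)
        | Sum.inr (Sum.inl a) => Sum.inl a
        | Sum.inr (Sum.inr s) => Sum.inr (Sum.inr (π s)),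
       ?_, ?_⟩, hsys₁, ?_, ?_⟩
    · rintro (k | k | k)
      · rfl
      · rfl
      · simp [hπ]
    · rintro (k | k | k)
      · rfl
      · rfl
      · simp [hπ]
    · rintro (k | k | k)
      · rfl
      · rfl
      · simp [hπ]
    · rintro (k | k | k) i
      · show x (cond i u v) ∈ Submodule.span F (Set.range (fun i : Bool => cond i (x u) (x v)))
        apply Submodule.subset_span
        cases i
        · exact ⟨false, rfl⟩
        · exact ⟨true, rfl⟩
      · show x (cond i (x u) (x v)) ∈ Submodule.span F (Set.range (fun i : Bool => cond i u v))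
        cases i
        · show x (x v) ∈ _
          rw [hx]
          exact Submodule.smul_mem _ _ (Submodule.subset_span ⟨false, rfl⟩)
        · show x (x u) ∈ _
          rw [hx]
          exact Submodule.smul_mem _ _ (Submodule.subset_span ⟨true, rfl⟩)
      · exact hmon k i

end Abstract

end Cfsg.Agent.H29
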