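/-
Two-dimensional block decompositions: transport of a block decomposition to another basis,
with control of the determinant; grouping a monomial basis into pairs.
-/
import Cfsg.Agent.Lib.H29.Diag
import Cfsg.Agent.Lib.H29.InvBlocks
import Cfsg.Agent.Lib.H29.SympPlanes
import Cfsg.Prelude.Def_GeometricClasses

set_option autoImplicit false

open scoped MatrixGroups

namespace Cfsg.Agent.H29

open Module

section Block

variable {F : Type*} [Field F] {n : ℕ} {S : Type} [Fintype S] [DecidableEq S]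

/-- The block diagonal matrix along a decomposition of the index set. -/
def blockM (e : Fin 2 × S ≃ Fin n) (A : S → Matrix (Fin 2) (Fin 2) F) : Matrix (Fin n) (Fin n) F :=
  (Matrix.blockDiagonal A).submatrix e.symm e.symm

theorem blockM_mulVec_single (e : Fin 2 × S ≃ Fin n) (A : S → Matrix (Fin 2) (Fin 2) F)
    (i : Fin 2) (k : S) :
    (blockM e A).mulVec (Pi.single (e (i, k)) 1) =
      ∑ i', A k i' i • (Pi.single (e (i', k)) 1 : Fin n → F) := by
  classical
  ext t
  obtain ⟨⟨i', k'⟩, rfl⟩ := e.surjective t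
  rw [Matrix.mulVec_single_one]
  simp only [Matrix.col_apply, blockM, Matrix.submatrix_apply, Equiv.symm_apply_apply,
    Matrix.blockDiagonal_apply, Finset.sum_apply, Pi.smul_apply, smul_eq_mul, Pi.single_apply,
    EmbeddingLike.apply_eq_iff_eq, Prod.mk.injEq, mul_ite, mul_one, mul_zero]
  by_cases hk : k' = k
  · subst hk
    simp
  · simp [hk]

theorem blockM_mul (e : Fin 2 × S ≃ Fin n) (A A' : S → Matrix (Fin 2) (Fin 2) F) :
    blockM e A * blockM e A' = blockM e (fun k => A k * A' k) := by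
  rw [blockM, blockM, blockM, Matrix.submatrix_mul_equiv, ← Matrix.blockDiagonal_mul]

theorem blockM_det (e : Fin 2 × S ≃ Fin n) (A : S → Matrix (Fin 2) (Fin 2) F) :
    (blockM e A).det = ∏ k, (A k).det := by
  rw [blockM, Matrix.det_submatrix_equiv_self, Matrix.det_blockDiagonal]

/-- Transporting a block decomposition of `x` to any other basis, by a matrix of determinant one. -/
theorem exists_transport (x : Matrix.SpecialLinearGroup (Fin n) F) (A : S → Matrix (Fin 2) (Fin 2) F)
    (B H : Basis (Fin 2 × S) F (Fin n → F))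
    (hx : ∀ i k, (x : Matrix (Fin n) (Fin n) F).mulVec (B (i, k)) = ∑ i', A k i' i • B (i', k))
    (hC : ∀ δ : F, δ ≠ 0 → ∃ (k₀ : S) (C₀ : Matrix (Fin 2) (Fin 2) F), C₀ * A k₀ = A k₀ * C₀ ∧ C₀.det = δ) :
    ∃ P : Matrix.SpecialLinearGroup (Fin n) F, ∀ i k,
      ((P⁻¹ * x * P : Matrix.SpecialLinearGroup (Fin n) F) : Matrix (Fin n) (Fin n) F).mulVec (H (i, k)) =
        ∑ i', A k i' i • H (i', k) := by
  classical
  have hcard : Fintype.card (Fin 2 × S) = n := by
    have h1 := Module.finrank_eq_card_basis B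
    rw [Module.finrank_fin_fun] at h1
    exact h1.symm
  let e : Fin 2 × S ≃ Fin n := Fintype.equivFinOfCardEq hcard
  obtain ⟨Q₁, hQ₁⟩ := exists_gl_of_basis (B.reindex e)
  obtain ⟨Q₂, hQ₂⟩ := exists_gl_of_basis (H.reindex e)
  have hQ₁' : ∀ p, (Q₁ : Matrix (Fin n) (Fin n) F).mulVec (Pi.single (e p) 1) = B p := by
    intro p
    rw [hQ₁, Basis.reindex_apply, Equiv.symm_apply_apply]
  have hQ₂' : ∀ p, (Q₂ : Matrix (Fin n) (Fin n) F).mulVec (Pi.single (e p) 1) = H p := by
    intro p
    rw [hQ₂, Basis.reindex_apply, Equiv.symm_apply_apply]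
  set M := blockM e A with hM
  set Q₁M : Matrix (Fin n) (Fin n) F := (Q₁ : Matrix (Fin n) (Fin n) F) with hQ₁M
  set Q₂M : Matrix (Fin n) (Fin n) F := (Q₂ : Matrix (Fin n) (Fin n) F) with hQ₂M
  set Q₂I : Matrix (Fin n) (Fin n) F := ((Q₂⁻¹ : GL (Fin n) F) : Matrix (Fin n) (Fin n) F) with hQ₂I
  have hQ₂IQ₂ : Q₂I * Q₂M = 1 := by
    rw [hQ₂I, hQ₂M, ← Units.val_mul, inv_mul_cancel, Units.val_one]
  have hxQ : (x : Matrix (Fin n) (Fin n) F) * Q₁M = Q₁M * M := by
    apply matrix_ext_single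
    intro t
    obtain ⟨⟨i, k⟩, rfl⟩ := e.surjective t
    rw [← Matrix.mulVec_mulVec, ← Matrix.mulVec_mulVec, hQ₁', hx, blockM_mulVec_single]
    rw [Matrix.mulVec_sum]
    apply Finset.sum_congr rfl
    intro i' _
    rw [Matrix.mulVec_smul, hQ₁']
  have hdetQ₁ : Q₁M.det ≠ 0 := (Matrix.isUnits_det_units Q₁).ne_zero
  have hdetQ₂ : Q₂M.det ≠ 0 := (Matrix.isUnits_det_units Q₂).ne_zero
  obtain ⟨k₀, C₀, hcomm, hdetC⟩ := hC (Q₂M.det / Q₁M.det) (div_ne_zero hdetQ₂ hdetQ₁)
  set CM : Matrix (Fin n) (Fin n) F := blockM e (fun k => if k = k₀ then C₀ else 1) with hCM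
  have hCdet : CM.det = Q₂M.det / Q₁M.det := by
    rw [hCM, blockM_det, Finset.prod_eq_single k₀]
    · rw [if_pos rfl, hdetC]
    · intro k _ hk
      rw [if_neg hk, Matrix.det_one]
    · intro h
      exact absurd (Finset.mem_univ _) h
  have hMC : M * CM = CM * M := by
    rw [hM, hCM, blockM_mul, blockM_mul]
    congr 1
    funext k
    by_cases hk : k = k₀
    · subst hk
      simp only [if_true]
      exact hcomm.symm
    · simp only [if_neg hk, one_mul, mul_one]
  set PM : Matrix (Fin n) (Fin n) F := Q₁M * CM * Q₂I with hPM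
  have hQ₂Idet : Q₂I.det * Q₂M.det = 1 := by
    rw [← Matrix.det_mul, hQ₂IQ₂, Matrix.det_one]
  have hPdet : PM.det = 1 := by
    rw [hPM, Matrix.det_mul, Matrix.det_mul, hCdet]
    field_simp
    rw [mul_comm]
    exact hQ₂Idet
  obtain ⟨P, hP⟩ : ∃ P : Matrix.SpecialLinearGroup (Fin n) F, (P : Matrix (Fin n) (Fin n) F) = PM :=
    ⟨⟨PM, hPdet⟩, rfl⟩
  refine ⟨P, ?_⟩
  have hxP : (x : Matrix (Fin n) (Fin n) F) * PM = PM * (Q₂M * M * Q₂I) := by
    calc (x : Matrix (Fin n) (Fin n) F) * PM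
        = ((x : Matrix (Fin n) (Fin n) F) * Q₁M) * CM * Q₂I := by simp only [hPM, mul_assoc]
      _ = Q₁M * (M * CM) * Q₂I := by rw [hxQ]; simp only [mul_assoc]
      _ = Q₁M * CM * (Q₂I * Q₂M) * M * Q₂I := by
        rw [hMC, hQ₂IQ₂]; simp only [mul_assoc, mul_one]
      _ = PM * (Q₂M * M * Q₂I) := by simp only [hPM, mul_assoc]
  have hg : ((P⁻¹ * x * P : Matrix.SpecialLinearGroup (Fin n) F) : Matrix (Fin n) (Fin n) F) =
      Q₂M * M * Q₂I := by
    have h2 : ((P⁻¹ : Matrix.SpecialLinearGroup (Fin n) F) : Matrix (Fin n) (Fin n) F) *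
        (P : Matrix (Fin n) (Fin n) F) = 1 := by
      rw [← Matrix.SpecialLinearGroup.coe_mul, inv_mul_cancel, Matrix.SpecialLinearGroup.coe_one]
    rw [Matrix.SpecialLinearGroup.coe_mul, Matrix.SpecialLinearGroup.coe_mul, mul_assoc, hP, hxP, ← hP,
      ← mul_assoc, h2, one_mul]
  intro i k
  rw [hg]
  have hH : H (i, k) = Q₂M.mulVec (Pi.single (e (i, k)) 1) := (hQ₂' _).symm
  rw [hH, Matrix.mulVec_mulVec, mul_assoc, hQ₂IQ₂, mul_one, ← Matrix.mulVec_mulVec, blockM_mulVec_single,
    Matrix.mulVec_sum]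
  apply Finset.sum_congr rfl
  intro i' _
  rw [Matrix.mulVec_smul, hQ₂']

end Block

section Pairs

variable {S₀ : Type*} [Fintype S₀] [DecidableEq S₀]

/-- Grouping a finite set with an involution into pairs: orbits of length two and pairs of fixed
points of the same colour. -/
theorem exists_pair_equiv (π : S₀ → S₀) (hπ : ∀ s, π (π s) = s) (col : S₀ → Bool)
    (h1 : Even (Finset.univ.filter fun s => π s = s ∧ col s = true).card)
    (h2 : Even (Finset.univ.filter fun s => π s = s ∧ col s = false).card)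
    (S : Type) [Fintype S] (hc : Fintype.card S₀ = 2 * Fintype.card S) :
    ∃ e : Fin 2 × S ≃ S₀, ∀ k, π (e (0, k)) = e (1, k) ∨
      (π (e (0, k)) = e (0, k) ∧ π (e (1, k)) = e (1, k) ∧ col (e (0, k)) = col (e (1, k))) := by
  classical
  set A₁ := Finset.univ.filter fun s => π s = s ∧ col s = true with hA₁
  set A₂ := Finset.univ.filter fun s => π s = s ∧ col s = false with hA₂
  set Mv := Finset.univ.filter fun s => π s ≠ s with hMv
  have hMvs : ∀ s ∈ Mv, π s ∈ Mv := by
    intro s hs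
    simp only [hMv, Finset.mem_filter, Finset.mem_univ, true_and] at hs ⊢
    rw [hπ]
    exact fun h => hs h.symm
  have hMvne : ∀ s ∈ Mv, π s ≠ s := by
    intro s hs
    simpa [hMv] using hs
  obtain ⟨d, hd⟩ := even_card_of_no_fixed π hπ Mv hMvs hMvne
  obtain ⟨f₁, hf₁⟩ := h1
  obtain ⟨f₂, hf₂⟩ := h2
  obtain ⟨D, hDM, hDc, hDd⟩ := exists_free_block π hπ Mv hMvs hMvne d (by omega)
  have hcardtot : Mv.card + A₁.card + A₂.card = Fintype.card S₀ := by
    rw [← Finset.card_univ]
    have h3 : (Finset.univ : Finset S₀) = Mv ∪ (A₁ ∪ A₂) := by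
      ext s
      simp only [hMv, hA₁, hA₂, Finset.mem_union, Finset.mem_filter, Finset.mem_univ, true_and]
      cases col s <;> simp <;> tauto
    rw [h3, Finset.card_union_of_disjoint, Finset.card_union_of_disjoint]
    · ring
    · rw [Finset.disjoint_left]
      intro s hs hs'
      simp only [hA₁, hA₂, Finset.mem_filter, Finset.mem_univ, true_and] at hs hs'
      rw [hs.2] at hs'
      simp at hs'
    · rw [Finset.disjoint_left]
      intro s hs hs'
      simp only [hMv, hA₁, hA₂, Finset.mem_union, Finset.mem_filter, Finset.mem_univ, true_and] at hs hs'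
      rcases hs' with hs' | hs'
      · exact hs hs'.1
      · exact hs hs'.1
  have hS : Fintype.card S = Fintype.card (D ⊕ (Fin f₁ ⊕ Fin f₂)) := by
    simp only [Fintype.card_sum, Fintype.card_coe, Fintype.card_fin]
    omega
  have hc₁ : Fintype.card (Fin 2 × Fin f₁) = Fintype.card A₁ := by
    simp only [Fintype.card_prod, Fintype.card_fin, Fintype.card_coe]
    omega
  have hc₂ : Fintype.card (Fin 2 × Fin f₂) = Fintype.card A₂ := by
    simp only [Fintype.card_prod, Fintype.card_fin, Fintype.card_coe]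
    omega
  let ε₁ : Fin 2 × Fin f₁ ≃ A₁ := Fintype.equivOfCardEq hc₁
  let ε₂ : Fin 2 × Fin f₂ ≃ A₂ := Fintype.equivOfCardEq hc₂
  let σ : S ≃ D ⊕ (Fin f₁ ⊕ Fin f₂) := Fintype.equivOfCardEq hS
  let Φ : Fin 2 × (D ⊕ (Fin f₁ ⊕ Fin f₂)) → S₀ := fun p => match p with
    | (i, Sum.inl d) => if i = 0 then (d : S₀) else π d
    | (i, Sum.inr (Sum.inl a)) => (ε₁ (i, a) : S₀)
    | (i, Sum.inr (Sum.inr a)) => (ε₂ (i, a) : S₀)
  have hmemA₁ : ∀ (i : Fin 2) (a : Fin f₁), (ε₁ (i, a) : S₀) ∈ A₁ := fun i a => (ε₁ (i, a)).2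
  have hmemA₂ : ∀ (i : Fin 2) (a : Fin f₂), (ε₂ (i, a) : S₀) ∈ A₂ := fun i a => (ε₂ (i, a)).2
  have hmemM : ∀ (i : Fin 2) (d : D), (if i = 0 then (d : S₀) else π d) ∈ Mv := by
    intro i d
    split_ifs
    · exact hDM d.2
    · exact hMvs _ (hDM d.2)
  have hdis1 : ∀ s, s ∈ Mv → s ∈ A₁ → False := by
    intro s h h'
    simp only [hMv, hA₁, Finset.mem_filter, Finset.mem_univ, true_and] at h h'
    exact h h'.1
  have hdis2 : ∀ s, s ∈ Mv → s ∈ A₂ → False := by
    intro s h h'
    simp only [hMv, hA₂, Finset.mem_filter, Finset.mem_univ, true_and] at h h'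
    exact h h'.1
  have hdis3 : ∀ s, s ∈ A₁ → s ∈ A₂ → False := by
    intro s h h'
    simp only [hA₁, hA₂, Finset.mem_filter, Finset.mem_univ, true_and] at h h'
    rw [h.2] at h'
    simp at h'
  have hinj : Function.Injective Φ := by
    rintro ⟨i, (d | a | a)⟩ ⟨i', (d' | a' | a')⟩ h
    · simp only [Φ] at h
      have hi : i = i' := by
        by_contra hne
        by_cases hi0 : i = 0
        · have hi' : i' ≠ 0 := fun h0 => hne (hi0.trans h0.symm)
          rw [if_pos hi0, if_neg hi'] at h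
          apply Finset.disjoint_left.1 hDd d.2
          rw [h]
          exact Finset.mem_image_of_mem _ d'.2
        · rw [if_neg hi0] at h
          by_cases hi' : i' = 0
          · rw [if_pos hi'] at h
            apply Finset.disjoint_left.1 hDd d'.2
            rw [← h]
            exact Finset.mem_image_of_mem _ d.2
          · exact hne (by omega)
      subst hi
      have hdd : d = d' := by
        by_cases hi0 : i = 0
        · rw [if_pos hi0, if_pos hi0] at h
          exact Subtype.ext h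
        · rw [if_neg hi0, if_neg hi0] at h
          have := congrArg π h
          rw [hπ, hπ] at this
          exact Subtype.ext this
      rw [hdd]
    · have h' : (if i = 0 then (d : S₀) else π d) = (ε₁ (i', a') : S₀) := h
      exact (hdis1 _ (hmemM i d) (by rw [h']; exact hmemA₁ i' a')).elim
    · have h' : (if i = 0 then (d : S₀) else π d) = (ε₂ (i', a') : S₀) := h
      exact (hdis2 _ (hmemM i d) (by rw [h']; exact hmemA₂ i' a')).elim
    · have h' : (ε₁ (i, a) : S₀) = (if i' = 0 then (d' : S₀) else π d') := h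
      exact (hdis1 _ (hmemM i' d') (by rw [← h']; exact hmemA₁ i a)).elim
    · have h3 : ε₁ (i, a) = ε₁ (i', a') := Subtype.ext h
      have h4 := ε₁.injective h3
      simp only [Prod.mk.injEq] at h4
      rw [h4.1, h4.2]
    · have h' : (ε₁ (i, a) : S₀) = (ε₂ (i', a') : S₀) := h
      exact (hdis3 _ (hmemA₁ i a) (by rw [h']; exact hmemA₂ i' a')).elim
    · have h' : (ε₂ (i, a) : S₀) = (if i' = 0 then (d' : S₀) else π d') := h
      exact (hdis2 _ (hmemM i' d') (by rw [← h']; exact hmemA₂ i a)).elim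
    · have h' : (ε₂ (i, a) : S₀) = (ε₁ (i', a') : S₀) := h
      exact (hdis3 _ (hmemA₁ i' a') (by rw [← h']; exact hmemA₂ i a)).elim
    · have h3 : ε₂ (i, a) = ε₂ (i', a') := Subtype.ext h
      have h4 := ε₂.injective h3
      simp only [Prod.mk.injEq] at h4
      rw [h4.1, h4.2]
  have hbij : Function.Bijective Φ := by
    rw [Fintype.bijective_iff_injective_and_card]
    refine ⟨hinj, ?_⟩
    simp only [Fintype.card_prod, Fintype.card_fin, Fintype.card_sum, Fintype.card_coe]
    omega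
  let E : Fin 2 × S ≃ S₀ := (Equiv.prodCongr (Equiv.refl _) σ).trans (Equiv.ofBijective Φ hbij)
  have hE : ∀ i k, E (i, k) = Φ (i, σ k) := fun i k => rfl
  refine ⟨E, ?_⟩
  intro k
  rw [hE, hE]
  rcases hk : σ k with d | a | a
  · left
    simp [Φ]
  · right
    have h3 := hmemA₁ 0 a
    have h4 := hmemA₁ 1 a
    simp only [hA₁, Finset.mem_filter, Finset.mem_univ, true_and] at h3 h4
    exact ⟨h3.1, h4.1, by simp only [Φ]; rw [h3.2, h4.2]⟩
  · right
    have h3 := hmemA₂ 0 a
    have h4 := hmemA₂ 1 a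
    simp only [hA₂, Finset.mem_filter, Finset.mem_univ, true_and] at h3 h4
    exact ⟨h3.1, h4.1, by simp only [Φ]; rw [h3.2, h4.2]⟩

end Pairs

section Mono

variable {F : Type*} [Field F] {n : ℕ}

/-- From a monomial basis to two-dimensional blocks. -/
theorem exists_blocks_of_monomial {S₀ : Type*} [Fintype S₀] [DecidableEq S₀]
    (b : Basis S₀ F (Fin n → F)) (π : S₀ → S₀) (hπ : ∀ s, π (π s) = s) (c : S₀ → F) (col : S₀ → Bool)
    (h1 : Even (Finset.univ.filter fun s => π s = s ∧ col s = true).card)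
    (h2 : Even (Finset.univ.filter fun s => π s = s ∧ col s = false).card)
    (X : Matrix (Fin n) (Fin n) F) (hX : ∀ s, X.mulVec (b s) = c s • b (π s))
    (S : Type) [Fintype S] (hc : Fintype.card S₀ = 2 * Fintype.card S) :
    ∃ (B : Basis (Fin 2 × S) F (Fin n → F)) (A : S → Matrix (Fin 2) (Fin 2) F) (e : Fin 2 × S ≃ S₀),
      (∀ i k, X.mulVec (B (i, k)) = ∑ i', A k i' i • B (i', k)) ∧
      ∀ k, (π (e (0, k)) = e (1, k) ∧ π (e (1, k)) = e (0, k) ∧ A k = !![0, c (e (1, k)); c (e (0, k)), 0]) ∨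
        (π (e (0, k)) = e (0, k) ∧ π (e (1, k)) = e (1, k) ∧ col (e (0, k)) = col (e (1, k)) ∧
          A k = !![c (e (0, k)), 0; 0, c (e (1, k))]) := by
  classical
  obtain ⟨e, he⟩ := exists_pair_equiv π hπ col h1 h2 S hc
  let A : S → Matrix (Fin 2) (Fin 2) F := fun k =>
    if π (e (0, k)) = e (1, k) then !![0, c (e (1, k)); c (e (0, k)), 0]
    else !![c (e (0, k)), 0; 0, c (e (1, k))]
  have hB : ∀ p, (b.reindex e.symm) p = b (e p) := fun p => by
    rw [Basis.reindex_apply, Equiv.symm_symm]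
  refine ⟨b.reindex e.symm, A, e, ?_, ?_⟩
  · intro i k
    rw [Fin.sum_univ_two, hB, hB, hB, hX]
    by_cases hk : π (e (0, k)) = e (1, k)
    · have hk' : π (e (1, k)) = e (0, k) := by rw [← hk, hπ]
      simp only [A, if_pos hk]
      fin_cases i
      · simp [hk]
      · simp [hk']
    · obtain ⟨h3, h4, -⟩ := (he k).resolve_left hk
      simp only [A, if_neg hk]
      fin_cases i
      · simp [h3]
      · simp [h4]
  · intro k
    by_cases hk : π (e (0, k)) = e (1, k)
    · left
      refine ⟨hk, by rw [← hk, hπ], ?_⟩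
      simp only [A, if_pos hk]
    · right
      obtain ⟨h3, h4, h5⟩ := (he k).resolve_left hk
      refine ⟨h3, h4, h5, ?_⟩
      simp only [A, if_neg hk]

/-- A monomial basis for a matrix with scalar square. -/
theorem exists_monomial_basis (X : Matrix (Fin n) (Fin n) F) (z : F) (hz : z ≠ 0)
    (hXX : ∀ v, X.mulVec (X.mulVec v) = z • v) :
    ∃ (S₀ : Type) (_ : Fintype S₀) (_ : DecidableEq S₀) (b : Basis S₀ F (Fin n → F)) (π : S₀ → S₀)
      (c : S₀ → F), (∀ s, π (π s) = s) ∧ (∀ s, c s ≠ 0) ∧ (∀ s, X.mulVec (b s) = c s • b (π s)) ∧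
        ∀ s, c s * c (π s) = z := by
  classical
  obtain ⟨S₀, _, _, b₀, π, hli, hspan, hπ, hc⟩ := exists_monomial_family (Matrix.toLin' X) z hz
    (fun v => by rw [Matrix.toLin'_apply, Matrix.toLin'_apply]; exact hXX v)
    _ ⊤ rfl (fun _ _ => Submodule.mem_top)
  choose c hc0 hcX using hc
  let b : Basis S₀ F (Fin n → F) := Basis.mk hli hspan.ge
  have hb : ∀ s, b s = b₀ s := fun s => by simp [b]
  have hbX : ∀ s, X.mulVec (b s) = c s • b (π s) := fun s => by
    rw [hb, hb, ← hcX, Matrix.toLin'_apply]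
  refine ⟨S₀, inferInstance, inferInstance, b, π, c, hπ, hc0, hbX, ?_⟩
  intro s
  have h1 := hXX (b s)
  rw [hbX, Matrix.mulVec_smul, hbX, hπ, smul_smul] at h1
  have h2 : (c s * c (π s) - z) • b s = 0 := by
    rw [sub_smul, h1, sub_self]
  have h3 := (smul_eq_zero.1 h2).resolve_right (b.ne_zero s)
  exact sub_eq_zero.1 h3

/-- A hyperbolic basis of a symplectic form. -/
theorem exists_hyp_basis (f : (Fin n → F) → (Fin n → F) → F) (hf : Cfsg.Geo.IsSymplecticForm f) :
    ∃ (S : Type) (_ : Fintype S) (_ : DecidableEq S) (H : Basis (Fin 2 × S) F (Fin n → F)),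
      (∀ k, f (H (0, k)) (H (1, k)) ≠ 0) ∧ ∀ k l i j, k ≠ l → f (H (i, k)) (H (j, l)) = 0 := by
  classical
  let ω : (Fin n → F) →ₗ[F] (Fin n → F) →ₗ[F] F := LinearMap.mk₂ F f hf.bilinear.add_left
    (fun c x v => by rw [hf.bilinear.smul_left, smul_eq_mul]) hf.bilinear.add_right
    (fun c v x => by rw [hf.bilinear.smul_right, smul_eq_mul])
  have hω : ∀ u v, ω u v = f u v := fun _ _ => rfl
  have halt : ∀ v, ω v v = 0 := hf.alternating
  have hnd : NondegOn ω ⊤ := by
    intro u _ hu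
    obtain ⟨y, hy⟩ := (hf.nondegenerate u hu).2
    exact ⟨y, Submodule.mem_top, hy⟩
  obtain ⟨S, _, _, b, -, hsys, -, -⟩ := exists_plane_sys halt (LinearMap.id) 1 one_ne_zero
    (fun _ _ => rfl) (by simp) _ ⊤ rfl (fun _ _ => Submodule.mem_top) hnd
  have hli := planeSys_linearIndependent halt hsys
  let E : Fin 2 × S ≃ S × Bool := (Equiv.prodComm _ _).trans (Equiv.prodCongr (Equiv.refl _) finTwoEquiv)
  have hli' : LinearIndependent F (Function.uncurry b ∘ E) := hli.comp _ E.injective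
  have hspan : Submodule.span F (Set.range (Function.uncurry b ∘ E)) = ⊤ := by
    rw [Set.range_comp, E.surjective.range_eq, Set.image_univ]
    exact hsys.span
  refine ⟨S, inferInstance, inferInstance, Basis.mk hli' hspan.ge, ?_, ?_⟩
  · intro k
    rw [Basis.mk_apply, Basis.mk_apply]
    exact hsys.self k
  · intro k l i j hkl
    rw [Basis.mk_apply, Basis.mk_apply]
    exact hsys.orth k l _ _ hkl

/-- Block matrices of common determinant are similitudes. -/
theorem similarity_of_blocks (f : (Fin n → F) → (Fin n → F) → F) (hf : Cfsg.Geo.IsSymplecticForm f)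
    {S : Type} [Fintype S] [DecidableEq S] (H : Basis (Fin 2 × S) F (Fin n → F))
    (horth : ∀ k l i j, k ≠ l → f (H (i, k)) (H (j, l)) = 0)
    (g : Matrix (Fin n) (Fin n) F) (A : S → Matrix (Fin 2) (Fin 2) F) (c : F)
    (hdet : ∀ k, (A k).det = c)
    (hg : ∀ i k, g.mulVec (H (i, k)) = ∑ i', A k i' i • H (i', k)) :
    ∀ u v, f (g.mulVec u) (g.mulVec v) = c * f u v := by
  classical
  let ω : (Fin n → F) →ₗ[F] (Fin n → F) →ₗ[F] F := LinearMap.mk₂ F f hf.bilinear.add_left
    (fun c x v => by rw [hf.bilinear.smul_left, smul_eq_mul]) hf.bilinear.add_right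
    (fun c v x => by rw [hf.bilinear.smul_right, smul_eq_mul])
  have hω : ∀ u v, ω u v = f u v := fun _ _ => rfl
  have halt : ∀ v, ω v v = 0 := hf.alternating
  have hskew : ∀ u v, ω u v = - ω v u := hf.skew
  let L := Matrix.toLin' g
  have hmain : ω.compl₁₂ L L = c • ω := by
    apply LinearMap.ext_basis H H
    rintro ⟨i, k⟩ ⟨j, l⟩
    have h1 : L (H (i, k)) = ∑ i', A k i' i • H (i', k) := by
      rw [← hg, Matrix.toLin'_apply]
    have h2 : L (H (j, l)) = ∑ i', A l i' j • H (i', l) := by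
      rw [← hg, Matrix.toLin'_apply]
    simp only [LinearMap.compl₁₂_apply, LinearMap.smul_apply, smul_eq_mul]
    rw [h1, h2, Fin.sum_univ_two, Fin.sum_univ_two]
    simp only [map_add, map_smul, LinearMap.add_apply, LinearMap.smul_apply, smul_eq_mul]
    by_cases hkl : k = l
    · subst hkl
      have h00 := halt (H (0, k))
      have h11 := halt (H (1, k))
      have h10 := hskew (H (1, k)) (H (0, k))
      have hd := hdet k
      rw [Matrix.det_fin_two] at hd
      rw [h00, h11, h10]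
      fin_cases i <;> fin_cases j
      · simp only [Fin.zero_eta, Fin.isValue]
        rw [h00]
        ring
      · simp only [Fin.zero_eta, Fin.isValue, Fin.mk_one]
        rw [← hd]
        ring
      · simp only [Fin.zero_eta, Fin.isValue, Fin.mk_one]
        rw [h10, ← hd]
        ring
      · simp only [Fin.isValue, Fin.mk_one]
        rw [h11]
        ring
    · rw [hω (H (0, k)) (H (0, l)), hω (H (0, k)) (H (1, l)), hω (H (1, k)) (H (0, l)),
        hω (H (1, k)) (H (1, l)), hω (H (i, k)) (H (j, l)), horth _ _ _ _ hkl, horth _ _ _ _ hkl,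
        horth _ _ _ _ hkl, horth _ _ _ _ hkl, horth _ _ _ _ hkl]
      ring
  intro u v
  have h3 := LinearMap.congr_fun (LinearMap.congr_fun hmain u) v
  simpa [L, hω, Matrix.toLin'_apply] using h3

end Mono

end Cfsg.Agent.H29
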