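/-
Invariant subspaces of a linear map annihilated by a polynomial whose irreducible factors all have
the same degree: chains of invariant subspaces with steps of that degree.
-/
import Mathlib

set_option autoImplicit false

namespace Cfsg.Agent.H29

open Polynomial Module

section Chain

variable {F V : Type*} [Field F] [AddCommGroup V] [Module F V] [FiniteDimensional F V]

/-- A subspace stable by `T`. -/
def TStable (T : V →ₗ[F] V) (W : Submodule F V) : Prop := ∀ v ∈ W, T v ∈ W

theorem TStable.pow {T : V →ₗ[F] V} {W : Submodule F V} (h : TStable T W) (n : ℕ) {v : V}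
    (hv : v ∈ W) : (T ^ n) v ∈ W := by
  induction n generalizing v with
  | zero => simpa using hv
  | succ n ih =>
    rw [pow_succ, Module.End.mul_apply]
    exact ih (h v hv)

theorem TStable.aeval {T : V →ₗ[F] V} {W : Submodule F V} (h : TStable T W) (f : F[X]) {v : V}
    (hv : v ∈ W) : Polynomial.aeval T f v ∈ W := by
  induction f using Polynomial.induction_on' with
  | add p q hp hq =>
    rw [map_add, LinearMap.add_apply]
    exact W.add_mem hp hq
  | monomial n a =>
    rw [aeval_monomial, Module.End.mul_apply, Module.algebraMap_end_apply]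
    exact W.smul_mem _ (h.pow n hv)

theorem TStable.sup {T : V →ₗ[F] V} {W W' : Submodule F V} (h : TStable T W) (h' : TStable T W') :
    TStable T (W ⊔ W') := by
  intro v hv
  obtain ⟨a, ha, b, hb, rfl⟩ := Submodule.mem_sup.1 hv
  rw [map_add]
  exact Submodule.add_mem_sup (h a ha) (h' b hb)

theorem TStable.inf {T : V →ₗ[F] V} {W W' : Submodule F V} (h : TStable T W) (h' : TStable T W') :
    TStable T (W ⊓ W') := fun v hv => ⟨h v hv.1, h' v hv.2⟩

theorem tStable_ker_aeval (T : V →ₗ[F] V) (f : F[X]) :
    TStable T (LinearMap.ker (Polynomial.aeval T f)) := by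
  intro v hv
  rw [LinearMap.mem_ker] at hv ⊢
  have h1 : Polynomial.aeval T f (T v) = T (Polynomial.aeval T f v) := by
    have h2 : Polynomial.aeval T (f * X) = Polynomial.aeval T (X * f) := by rw [mul_comm]
    have h3 := congrArg (fun φ => φ v) h2
    simpa [map_mul, Module.End.mul_apply, aeval_X] using h3
  rw [h1, hv, map_zero]

theorem tStable_bot (T : V →ₗ[F] V) : TStable T ⊥ := by
  intro v hv
  rw [Submodule.mem_bot] at hv ⊢
  rw [hv, map_zero]

theorem tStable_top (T : V →ₗ[F] V) : TStable T ⊤ := fun _ _ => Submodule.mem_top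

/-- One step of the chain. -/
theorem exists_step (T : V →ₗ[F] V) (P : F[X]) (d : ℕ)
    (hd : ∀ g : F[X], Irreducible g → g ∣ P → g.natDegree = d)
    {W W₀ : Submodule F V} (hW : TStable T W) (hW₀ : TStable T W₀) (hle : W ≤ W₀)
    (hP0 : P ≠ 0) (hP : ∀ v ∈ W₀, Polynomial.aeval T P v = 0) (hne : W ≠ W₀) :
    0 < d ∧ ∃ W' : Submodule F V, W ≤ W' ∧ W' ≤ W₀ ∧ TStable T W' ∧
      finrank F W' = finrank F W + d := by
  classical
  obtain ⟨v, hvW₀, hvW⟩ := SetLike.exists_of_lt (lt_of_le_of_ne hle hne)
  let I : Ideal F[X] :=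
    { carrier := {f | Polynomial.aeval T f v ∈ W}
      add_mem' := by
        intro a b ha hb
        simp only [Set.mem_setOf_eq, map_add, LinearMap.add_apply] at ha hb ⊢
        exact W.add_mem ha hb
      zero_mem' := by simp
      smul_mem' := by
        intro c f hf
        simp only [Set.mem_setOf_eq, smul_eq_mul, map_mul, Module.End.mul_apply] at hf ⊢
        exact hW.aeval c hf }
  have hmemI : ∀ f, f ∈ I ↔ Polynomial.aeval T f v ∈ W := fun _ => Iff.rfl
  obtain ⟨h, hh⟩ := (IsPrincipalIdealRing.principal I).principal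
  have hIh : ∀ f, f ∈ I ↔ h ∣ f := by
    intro f
    rw [hh]
    exact Ideal.mem_span_singleton
  have hPI : P ∈ I := by
    rw [hmemI, hP v hvW₀]
    exact W.zero_mem
  have hhP : h ∣ P := (hIh P).1 hPI
  have hh0 : h ≠ 0 := fun h0 => hP0 (by rw [h0] at hhP; exact zero_dvd_iff.1 hhP)
  have h1I : (1 : F[X]) ∉ I := by
    rw [hmemI]
    simpa using hvW
  have hnu : ¬ IsUnit h := by
    intro hu
    apply h1I
    rw [hIh]
    exact hu.dvd
  obtain ⟨g, hg, hgh⟩ := WfDvdMonoid.exists_irreducible_factor hnu hh0
  obtain ⟨h', hh'⟩ := hgh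
  have hgd : g.natDegree = d := hd g hg ((Dvd.intro _ hh'.symm).trans hhP)
  have hdpos : 0 < d := hgd ▸ hg.natDegree_pos
  refine ⟨hdpos, ?_⟩
  have hh'0 : h' ≠ 0 := by
    rintro rfl
    rw [mul_zero] at hh'
    exact hh0 hh'
  set v' : V := Polynomial.aeval T h' v with hv'
  have hv'W : v' ∉ W := by
    intro hin
    have h2 : h ∣ h' := (hIh h').1 hin
    obtain ⟨e, he⟩ := h2
    rw [hh', mul_assoc] at he
    have h3 : h' * 1 = h' * (g * e) := by
      rw [mul_one, mul_left_comm]
      exact he
    have h4 : g * e = 1 := (mul_left_cancel₀ hh'0 h3).symm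
    exact hg.not_isUnit (IsUnit.of_mul_eq_one _ h4)
  have hv'W₀ : v' ∈ W₀ := hW₀.aeval h' hvW₀
  have hgv' : Polynomial.aeval T g v' ∈ W := by
    have h2 : h ∈ I := (hIh h).2 dvd_rfl
    rw [hmemI, hh', map_mul, Module.End.mul_apply] at h2
    exact h2
  -- the linear map
  let act : F[X] →ₗ[F] V :=
    { toFun := fun f => Polynomial.aeval T f v'
      map_add' := by intro a b; simp
      map_smul' := by intro a b; simp }
  have hact : ∀ f, act f = Polynomial.aeval T f v' := fun _ => rfl
  have hdeg : g.degree = (d : WithBot ℕ) := by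
    rw [Polynomial.degree_eq_natDegree hg.ne_zero, hgd]
  -- independence modulo `W`
  have hind : ∀ f ∈ degreeLT F d, act f ∈ W → f = 0 := by
    intro f hf hfW
    by_contra hf0
    have hfd : f.degree < d := Polynomial.mem_degreeLT.1 hf
    have hcop : IsCoprime g f := by
      rw [hg.coprime_iff_not_dvd]
      intro hgf
      have h2 := Polynomial.natDegree_le_of_dvd hgf hf0
      have h3 : f.natDegree < d := by
        rw [Polynomial.degree_eq_natDegree hf0] at hfd
        exact_mod_cast hfd
      omega
    obtain ⟨a, b, hab⟩ := hcop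
    apply hv'W
    have h2 : v' = Polynomial.aeval T a (Polynomial.aeval T g v') +
        Polynomial.aeval T b (Polynomial.aeval T f v') := by
      have h3 := congrArg (fun φ => Polynomial.aeval T φ v') hab
      simpa [map_add, map_mul, Module.End.mul_apply] using h3.symm
    rw [h2]
    exact W.add_mem (hW.aeval a hgv') (hW.aeval b hfW)
  set C : Submodule F V := (degreeLT F d).map act with hC
  have hCinf : W ⊓ C = ⊥ := by
    rw [eq_bot_iff]
    rintro u ⟨huW, huC⟩
    obtain ⟨f, hf, rfl⟩ := Submodule.mem_map.1 huC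
    have : f = 0 := hind f hf huW
    rw [Submodule.mem_bot, this, map_zero]
  have hCrank : finrank F C = d := by
    have hinj : Function.Injective (act.domRestrict (degreeLT F d)) := by
      rw [← LinearMap.ker_eq_bot, eq_bot_iff]
      rintro ⟨f, hf⟩ hf0
      have h2 : act f = 0 := hf0
      have h3 : f = 0 := hind f hf (by rw [h2]; exact W.zero_mem)
      rw [Submodule.mem_bot]
      exact Subtype.ext h3
    have h2 := LinearMap.finrank_range_of_inj hinj
    rw [LinearMap.range_domRestrict] at h2
    rw [hC, h2, (degreeLTEquiv F d).finrank_eq, Module.finrank_fin_fun]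
  have hall : ∀ f, act f ∈ W ⊔ C := by
    intro f
    have h2 : f = g * (f / g) + f % g := (EuclideanDomain.div_add_mod f g).symm
    rw [h2, map_add]
    apply Submodule.add_mem_sup
    · rw [hact, mul_comm, map_mul, Module.End.mul_apply]
      exact hW.aeval _ hgv'
    · apply Submodule.mem_map_of_mem
      rw [Polynomial.mem_degreeLT, ← hdeg]
      exact Polynomial.degree_mod_lt f hg.ne_zero
  refine ⟨W ⊔ C, le_sup_left, ?_, ?_, ?_⟩
  · apply sup_le hle
    intro u hu
    obtain ⟨f, _, rfl⟩ := Submodule.mem_map.1 hu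
    exact hW₀.aeval f hv'W₀
  · intro u hu
    obtain ⟨a, ha, b, hb, rfl⟩ := Submodule.mem_sup.1 hu
    rw [map_add]
    apply (W ⊔ C).add_mem (Submodule.mem_sup_left (hW a ha))
    obtain ⟨f, _, rfl⟩ := Submodule.mem_map.1 hb
    have h2 : T (act f) = act (X * f) := by
      rw [hact, hact, map_mul, aeval_X, Module.End.mul_apply]
    rw [h2]
    exact hall _
  · have h2 := Submodule.finrank_sup_add_finrank_inf_eq W C
    rw [hCinf, finrank_bot, add_zero, hCrank] at h2
    exact h2

/-- Existence of invariant subspaces of all the dimensions allowed. -/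
theorem exists_stable_between (T : V →ₗ[F] V) (P : F[X]) (d : ℕ)
    (hd : ∀ g : F[X], Irreducible g → g ∣ P → g.natDegree = d)
    {W W₀ : Submodule F V} (hW : TStable T W) (hW₀ : TStable T W₀) (hle : W ≤ W₀)
    (hP0 : P ≠ 0) (hP : ∀ v ∈ W₀, Polynomial.aeval T P v = 0) (t : ℕ)
    (ht : finrank F W + t * d ≤ finrank F W₀) :
    ∃ W' : Submodule F V, W ≤ W' ∧ W' ≤ W₀ ∧ TStable T W' ∧ finrank F W' = finrank F W + t * d := by
  induction t with
  | zero => exact ⟨W, le_rfl, hle, hW, by simp⟩
  | succ t ih =>
    have h1 : finrank F W + t * d ≤ finrank F W₀ := by nlinarith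
    obtain ⟨W₁, h2, h3, h4, h5⟩ := ih h1
    by_cases hd0 : d = 0
    · subst hd0
      exact ⟨W, le_rfl, hle, hW, by simp⟩
    have hne : W₁ ≠ W₀ := by
      intro he
      rw [he] at h5
      have h6 : (t + 1) * d = t * d + d := by ring
      rw [h6] at ht
      omega
    obtain ⟨_, W₂, h6, h7, h8, h9⟩ := exists_step T P d hd h4 hW₀ h3 hP0 hP hne
    refine ⟨W₂, h2.trans h6, h7, h8, ?_⟩
    rw [h9, h5]
    ring

/-- The dimension of a stable subspace is congruent to that of the ambient stable subspace. -/
theorem dvd_finrank_sub (T : V →ₗ[F] V) (P : F[X]) (d : ℕ)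
    (hd : ∀ g : F[X], Irreducible g → g ∣ P → g.natDegree = d)
    {W₀ : Submodule F V} (hW₀ : TStable T W₀) (hP0 : P ≠ 0)
    (hP : ∀ v ∈ W₀, Polynomial.aeval T P v = 0) :
    ∀ (k : ℕ) (W : Submodule F V), TStable T W → W ≤ W₀ → finrank F W₀ - finrank F W = k →
      d ∣ k := by
  intro k
  induction k using Nat.strong_induction_on with
  | _ k ih =>
    intro W hW hle hk
    by_cases hne : W = W₀
    · subst hne
      simp at hk
      simp [← hk]
    · obtain ⟨hdpos, W', h1, h2, h3, h4⟩ := exists_step T P d hd hW hW₀ hle hP0 hP hne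
      have h5 : finrank F W' ≤ finrank F W₀ := Submodule.finrank_mono h2
      have h6 := ih (finrank F W₀ - finrank F W') (by omega) W' h3 h2 rfl
      have h7 : k = finrank F W₀ - finrank F W' + d := by omega
      rw [h7]
      exact dvd_add h6 dvd_rfl

/-- Every stable subspace of a stable subspace annihilated by `P` has dimension divisible by `d`. -/
theorem dvd_finrank_of_aeval_zero (T : V →ₗ[F] V) (P : F[X]) (d : ℕ)
    (hd : ∀ g : F[X], Irreducible g → g ∣ P → g.natDegree = d)
    {W : Submodule F V} (hW : TStable T W) (hP0 : P ≠ 0)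
    (hP : ∀ v ∈ W, Polynomial.aeval T P v = 0) : d ∣ finrank F W := by
  have h1 := dvd_finrank_sub T P d hd hW hP0 hP (finrank F W - finrank F (⊥ : Submodule F V)) ⊥
    (tStable_bot T) bot_le rfl
  simpa using h1

/-- Splitting a stable subspace along a coprime factorisation. -/
theorem finrank_split (T : V →ₗ[F] V) {W : Submodule F V} (hW : TStable T W) {P₁ P₂ : F[X]}
    (hc : IsCoprime P₁ P₂) (h : ∀ w ∈ W, Polynomial.aeval T (P₁ * P₂) w = 0) :
    finrank F W = finrank F (W ⊓ LinearMap.ker (Polynomial.aeval T P₁) : Submodule F V) +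
      finrank F (W ⊓ LinearMap.ker (Polynomial.aeval T P₂) : Submodule F V) := by
  set A : Submodule F V := W ⊓ LinearMap.ker (Polynomial.aeval T P₁) with hA
  set B : Submodule F V := W ⊓ LinearMap.ker (Polynomial.aeval T P₂) with hB
  have hinf : A ⊓ B = ⊥ := by
    rw [eq_bot_iff]
    intro u hu
    have h1 : u ∈ LinearMap.ker (Polynomial.aeval T P₁) := hu.1.2
    have h2 : u ∈ LinearMap.ker (Polynomial.aeval T P₂) := hu.2.2
    have h3 := Polynomial.disjoint_ker_aeval_of_isCoprime T hc
    exact (Submodule.disjoint_def.1 h3) u h1 h2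
  have hsup : A ⊔ B = W := by
    apply le_antisymm
    · exact sup_le inf_le_left inf_le_left
    · intro w hw
      obtain ⟨a, b, hab⟩ := hc
      have hcomm : ∀ (f₁ f₂ : F[X]) (u : V),
          Polynomial.aeval T f₁ (Polynomial.aeval T f₂ u) = Polynomial.aeval T (f₁ * f₂) u := by
        intro f₁ f₂ u
        rw [map_mul, Module.End.mul_apply]
      have h1 : w = Polynomial.aeval T (b * P₂) w + Polynomial.aeval T (a * P₁) w := by
        have h3 := congrArg (fun φ => Polynomial.aeval T φ w) hab
        simp only [map_add, map_one, LinearMap.add_apply, Module.End.one_apply] at h3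
        rw [add_comm]
        exact h3.symm
      rw [h1]
      apply Submodule.add_mem_sup
      · refine ⟨hW.aeval _ hw, LinearMap.mem_ker.2 ?_⟩
        rw [hcomm, show P₁ * (b * P₂) = b * (P₁ * P₂) by ring, ← hcomm, h w hw, map_zero]
      · refine ⟨hW.aeval _ hw, LinearMap.mem_ker.2 ?_⟩
        rw [hcomm, show P₂ * (a * P₁) = a * (P₁ * P₂) by ring, ← hcomm, h w hw, map_zero]
  have h4 := Submodule.finrank_sup_add_finrank_inf_eq A B
  rw [hinf, finrank_bot, add_zero, hsup] at h4
  exact h4

end Chain

end Cfsg.Agent.H29
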