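/-
Elements of prime order of `GL_n(F)`, `F` finite: factorisation of `X ^ r - 1`, the order `i` of `q`
modulo `r`, determinants of linear maps killed by an irreducible polynomial, construction of
block matrices.
-/
import Cfsg.Agent.Lib.H29.Chain
import Cfsg.Agent.Lib.H12.Singer

set_option autoImplicit false

namespace Cfsg.Agent.H29

open Polynomial Module

section NumberTheory

variable {F : Type*} [Field F] [Fintype F] {p : ℕ} [hp : Fact p.Prime] [CharP F p] {q r : ℕ}

theorem card_eq_pow_char (hq : Fintype.card F = q) : ∃ f : ℕ, 0 < f ∧ q = p ^ f := by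
  obtain ⟨n, hn⟩ := FiniteField.card F p
  refine ⟨n, n.pos, ?_⟩
  rw [← hq, hn.2]

theorem two_le_card (hq : Fintype.card F = q) : 2 ≤ q := by
  rw [← hq]
  exact Fintype.one_lt_card

theorem natCast_q_ne_zero (hq : Fintype.card F = q) [Fact r.Prime] (hrp : r ≠ p) :
    (q : ZMod r) ≠ 0 := by
  obtain ⟨f, _, rfl⟩ := card_eq_pow_char (p := p) hq
  rw [Nat.cast_pow]
  apply pow_ne_zero
  intro h
  have h1 : r ∣ p := (ZMod.natCast_eq_zero_iff _ _).1 h
  exact hrp ((Nat.prime_dvd_prime_iff_eq Fact.out hp.out).1 h1)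

theorem orderOf_q_pos (hq : Fintype.card F = q) [Fact r.Prime] (hrp : r ≠ p) :
    0 < orderOf (q : ZMod r) := by
  have h0 := natCast_q_ne_zero (F := F) (p := p) (r := r) hq hrp
  rw [orderOf_pos_iff, isOfFinOrder_iff_pow_eq_one]
  refine ⟨r - 1, ?_, ZMod.pow_card_sub_one_eq_one h0⟩
  have := (Fact.out : r.Prime).two_le
  omega

/-- `r ∣ q ^ l - 1` iff the order of `q` divides `l`. -/
theorem dvd_pow_sub_one_iff (hq : 2 ≤ q) [Fact r.Prime] (l : ℕ) :
    r ∣ q ^ l - 1 ↔ orderOf (q : ZMod r) ∣ l := by
  rw [orderOf_dvd_iff_pow_eq_one]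
  have h1 : 1 ≤ q ^ l := Nat.one_le_pow _ _ (by omega)
  rw [← ZMod.natCast_eq_zero_iff, Nat.cast_sub h1, sub_eq_zero]
  simp

/-- `r ∣ q - 1` iff the order of `q` is one. -/
theorem dvd_sub_one_iff (hq : 2 ≤ q) [Fact r.Prime] :
    r ∣ q - 1 ↔ orderOf (q : ZMod r) = 1 := by
  have h := dvd_pow_sub_one_iff (r := r) hq 1
  rw [pow_one] at h
  rw [h, Nat.dvd_one]

/-- Every non-zero element is an `r`-th power when `r ∤ q - 1`. -/
theorem exists_pow_eq_of_not_dvd (hq : Fintype.card F = q) (hr : ¬ r ∣ q - 1) [Fact r.Prime]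
    (c : F) (hc : c ≠ 0) : ∃ b : F, b ≠ 0 ∧ b ^ r = c := by
  classical
  have hcop : (Nat.card Fˣ).Coprime r := by
    rw [Nat.card_eq_fintype_card, Fintype.card_units, hq]
    exact ((Nat.Prime.coprime_iff_not_dvd Fact.out).2 hr).symm
  let e := powCoprime hcop
  obtain ⟨u, hu⟩ := e.surjective (Units.mk0 c hc)
  refine ⟨u, u.ne_zero, ?_⟩
  have h1 := congrArg Units.val hu
  simpa [e] using h1

/-- Elements of `F` whose `r`-th power is one are one when `r ∤ q - 1`. -/
theorem eq_one_of_pow_eq_one (hq : Fintype.card F = q) (hr : ¬ r ∣ q - 1) [Fact r.Prime]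
    (c : F) (hc : c ^ r = 1) : c = 1 := by
  have hc0 : c ≠ 0 := by
    rintro rfl
    rw [zero_pow (Fact.out : r.Prime).ne_zero] at hc
    exact zero_ne_one hc
  have h1 : orderOf c ∣ r := orderOf_dvd_of_pow_eq_one hc
  have h2 : orderOf c ∣ q - 1 := by
    have := FiniteField.pow_card_sub_one_eq_one c hc0
    rw [hq] at this
    exact orderOf_dvd_of_pow_eq_one this
  have h3 : orderOf c = 1 := by
    rcases (Nat.dvd_prime Fact.out).1 h1 with h | h
    · exact h
    · rw [h] at h2
      exact absurd h2 hr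
  exact orderOf_eq_one_iff.1 h3

end NumberTheory

section Phi

variable {F : Type*} [Field F] [Fintype F] {p : ℕ} [hp : Fact p.Prime] [CharP F p] {q r : ℕ}

open Cfsg.Agent.H12.Singer

/-- The degree of an irreducible factor of `Φ_r` over `F` is the order of `q` modulo `r`. -/
theorem natDegree_of_dvd_Phi (hF : Fintype.card F = q) [hr : Fact r.Prime] (hrp : r ≠ p)
    (g : F[X]) (hg : Irreducible g) (hgΦ : g ∣ Phi F r) :
    g.natDegree = orderOf (q : ZMod r) := by
  classical
  have hipos := orderOf_q_pos (F := F) (p := p) (r := r) hF hrp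
  have h1 := dvd_natDegree_of_dvd_Phi (p := p) hF hipos hr.out hrp rfl g hg hgΦ
  have hd : 0 < g.natDegree := hg.natDegree_pos
  refine le_antisymm ?_ (Nat.le_of_dvd hd h1)
  haveI : Fact (Irreducible g) := ⟨hg⟩
  set E := AdjoinRoot g with hE
  set ζ : E := AdjoinRoot.root g with hζ
  haveI : Module.Finite F E := (AdjoinRoot.powerBasis hg.ne_zero).finite
  haveI : Finite E := Module.finite_of_finite F
  letI : Fintype E := Fintype.ofFinite E
  have hcard : Fintype.card E = q ^ g.natDegree := by
    have h1 := Module.card_eq_pow_finrank (K := F) (V := E)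
    rw [h1, hF, (AdjoinRoot.powerBasis hg.ne_zero).finrank]
    simp
  set i := orderOf (q : ZMod r) with hi
  have hq2 : 2 ≤ q := two_le_card hF
  have hΦζ : aeval ζ (Phi F r) = 0 := by
    obtain ⟨t, ht⟩ := hgΦ
    rw [ht, map_mul]
    have : aeval ζ g = 0 := by
      rw [hζ, AdjoinRoot.aeval_eq, AdjoinRoot.mk_self]
    rw [this, zero_mul]
  have hζr : ζ ^ r = 1 := by
    have h2 := congrArg (aeval ζ) (X_sub_one_mul_Phi (F := F) r)
    rw [map_mul, hΦζ, mul_zero] at h2
    simp only [map_sub, map_pow, aeval_X, map_one] at h2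
    exact (sub_eq_zero.1 h2.symm)
  -- `q ^ i = 1 + r * w`
  have hdvd : r ∣ q ^ i - 1 := (dvd_pow_sub_one_iff hq2 i).2 dvd_rfl
  obtain ⟨w, hw⟩ := hdvd
  have hqi : q ^ i = r * w + 1 := by
    have : 1 ≤ q ^ i := Nat.one_le_pow _ _ (by omega)
    omega
  have hζq : ζ ^ q ^ i = ζ := by
    rw [hqi, pow_succ, pow_mul, hζr, one_pow, one_mul]
  -- the iterated Frobenius is the identity
  have h3 : ∀ (n : ℕ) (x : E), ((FiniteField.frobeniusAlgHom F E) ^ n : E →ₐ[F] E) x =
      x ^ (Fintype.card F) ^ n := by
    intro n x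
    induction n generalizing x with
    | zero => simp
    | succ n ih =>
      rw [pow_succ, AlgHom.mul_apply, ih, FiniteField.frobeniusAlgHom_apply, ← pow_mul,
        pow_succ, mul_comm]
  have hfrob : ∀ x : E, x ^ q ^ i = x := by
    have h2 : ((FiniteField.frobeniusAlgHom F E) ^ i : E →ₐ[F] E) = AlgHom.id F E := by
      apply AdjoinRoot.algHom_ext
      rw [h3, hF]
      exact hζq
    intro x
    have h4 := h3 i x
    rw [h2, hF] at h4
    exact h4.symm
  by_contra hlt
  push Not at hlt
  have hlt' : q ^ i < q ^ g.natDegree := Nat.pow_lt_pow_right (by omega) hlt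
  have hq1 : 1 < q ^ i := Nat.one_lt_pow (by omega) (by omega)
  have hcardU : Nat.card Eˣ = q ^ g.natDegree - 1 := by
    rw [Nat.card_eq_fintype_card, Fintype.card_units, hcard]
  obtain ⟨a, ha⟩ := exists_pow_ne_one_of_isCyclic (G := Eˣ) (k := q ^ i - 1) (by omega)
    (by rw [hcardU]; omega)
  apply ha
  apply Units.ext
  have h5 := hfrob (a : E)
  have h6 : (a : E) ^ (q ^ i - 1) * a = 1 * a := by
    rw [← pow_succ, one_mul]
    have : q ^ i - 1 + 1 = q ^ i := by omega
    rw [this]
    exact h5
  have h7 := mul_right_cancel₀ a.ne_zero h6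
  simpa using h7

theorem isCoprime_X_sub_one_Phi (hrp : r ≠ p) [hr : Fact r.Prime] :
    IsCoprime (X - 1 : F[X]) (Phi F r) := by
  have hr0 : (r : F) ≠ 0 := by
    intro h
    have h5 : p ∣ r := (CharP.cast_eq_zero_iff F p r).1 h
    exact hrp ((Nat.prime_dvd_prime_iff_eq hp.out hr.out).1 h5).symm
  have h1 : (X - 1 : F[X]) = X - C 1 := by simp
  rw [h1, (irreducible_X_sub_C (1 : F)).coprime_iff_not_dvd, dvd_iff_isRoot, IsRoot.def]
  simpa [Phi, eval_finset_sum] using hr0

end Phi

section Det

variable {F V : Type*} [Field F] [AddCommGroup V] [Module F V] [FiniteDimensional F V]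

/-- The determinant of a linear map killed by an irreducible polynomial `g`. -/
theorem det_eq_norm_pow (T : V →ₗ[F] V) (g : F[X]) (hg : Irreducible g)
    (hT : Polynomial.aeval T g = 0) (s : ℕ) (hs : finrank F V = g.natDegree * s) :
    LinearMap.det T = (Algebra.norm F (AdjoinRoot.root g)) ^ s := by
  classical
  have hg0 := hg.ne_zero
  haveI : Fact (Irreducible g) := ⟨hg⟩
  have hker : ∀ a ∈ Ideal.span {g}, ((Polynomial.aeval T : F[X] →ₐ[F] Module.End F V) : F[X] →+* Module.End F V) a = 0 := by
    intro a ha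
    obtain ⟨b, rfl⟩ := Ideal.mem_span_singleton.1 ha
    simp [map_mul, hT]
  let φ : AdjoinRoot g →+* Module.End F V := Ideal.Quotient.lift _ _ hker
  have hφ : ∀ a : F[X], φ (AdjoinRoot.mk g a) = Polynomial.aeval T a := fun a => rfl
  letI : Module (AdjoinRoot g) V := Module.compHom V φ
  have hsmul : ∀ (e : AdjoinRoot g) (v : V), e • v = φ e v := fun _ _ => rfl
  haveI : IsScalarTower F (AdjoinRoot g) V := by
    apply IsScalarTower.of_algebraMap_smul
    intro c v
    rw [hsmul, AdjoinRoot.algebraMap_eq, ← AdjoinRoot.mk_C, hφ, aeval_C]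
    rfl
  haveI hfin : Module.Finite F (AdjoinRoot g) := (AdjoinRoot.powerBasis hg0).finite
  haveI : Module.Finite (AdjoinRoot g) V := Module.Finite.of_restrictScalars_finite F _ V
  have hdim : finrank F (AdjoinRoot g) = g.natDegree := by
    rw [(AdjoinRoot.powerBasis hg0).finrank]
    simp
  have hdpos : 0 < g.natDegree := hg.natDegree_pos
  have hrank : finrank (AdjoinRoot g) V = s := by
    have h1 := Module.finrank_mul_finrank F (AdjoinRoot g) V
    rw [hdim, hs] at h1
    exact Nat.eq_of_mul_eq_mul_left hdpos h1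
  let b := Module.finBasisOfFinrankEq (AdjoinRoot g) V hrank
  let e : V ≃ₗ[F] (Fin s → AdjoinRoot g) := b.equivFun.restrictScalars F
  let ζ : AdjoinRoot g := AdjoinRoot.root g
  have hTζ : ∀ v : V, T v = ζ • v := by
    intro v
    rw [hsmul]
    have : φ ζ = T := by
      have h1 : ζ = AdjoinRoot.mk g X := rfl
      rw [h1, hφ, aeval_X]
    rw [this]
  have hconj : e.toLinearMap ∘ₗ T ∘ₗ e.symm.toLinearMap =
      LinearMap.pi (fun j : Fin s => (LinearMap.mulLeft F ζ).comp (LinearMap.proj j)) := by
    ext1 u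
    have h1 : ∀ u : Fin s → AdjoinRoot g, e (T (e.symm u)) = ζ • u := by
      intro u
      rw [hTζ]
      have h2 : e (ζ • e.symm u) = ζ • e (e.symm u) := b.equivFun.map_smul _ _
      rw [h2, LinearEquiv.apply_symm_apply]
    ext j
    simp only [LinearMap.comp_apply, LinearEquiv.coe_coe]
    rw [h1]
    simp [LinearMap.proj_apply, LinearMap.pi_apply]
  have h2 := LinearMap.det_conj T e
  rw [← h2, hconj, LinearMap.det_pi]
  simp [Algebra.norm_apply]
  rfl

/-- The norm of the root. -/
theorem norm_root_eq (g : F[X]) (hg : Irreducible g) (hm : g.Monic) :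
    Algebra.norm F (AdjoinRoot.root g) = (-1) ^ g.natDegree * g.coeff 0 := by
  haveI : Fact (Irreducible g) := ⟨hg⟩
  have h1 := Algebra.PowerBasis.norm_gen_eq_coeff_zero_minpoly (AdjoinRoot.powerBasis hg.ne_zero)
  rw [AdjoinRoot.powerBasis_gen, AdjoinRoot.minpoly_root hg.ne_zero, hm.leadingCoeff, inv_one,
    map_one, mul_one] at h1
  rw [h1, AdjoinRoot.powerBasis_dim]

end Det

section Conj

variable {F U V : Type*} [Field F] [AddCommGroup U] [Module F U] [AddCommGroup V] [Module F V]

theorem aeval_conj (L : U ≃ₗ[F] V) (T₀ : U →ₗ[F] U) (T : V →ₗ[F] V)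
    (h : ∀ u, T (L u) = L (T₀ u)) (f : F[X]) (u : U) :
    Polynomial.aeval T f (L u) = L (Polynomial.aeval T₀ f u) := by
  induction f using Polynomial.induction_on' with
  | add p q hp hq =>
    simp only [map_add, LinearMap.add_apply, hp, hq]
  | monomial n a =>
    rw [aeval_monomial, aeval_monomial, Module.End.mul_apply, Module.End.mul_apply,
      Module.algebraMap_end_apply, Module.algebraMap_end_apply, map_smul]
    congr 1
    induction n generalizing u with
    | zero => simp
    | succ n ih =>
      rw [pow_succ, pow_succ, Module.End.mul_apply, Module.End.mul_apply, h, ih]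

end Conj

section Block

open Matrix

variable {F : Type*} [Field F]

/-- Existence of a matrix with `t` "blocks" of an irreducible polynomial `g` and an identity part
of dimension `a`. -/
theorem exists_block_matrix (g : F[X]) (hg : Irreducible g) (t a n : ℕ)
    (hn : n = t * g.natDegree + a) :
    ∃ x : Matrix (Fin n) (Fin n) F,
      Polynomial.aeval (Matrix.toLin' x) ((X - 1) * g) = 0 ∧
      t * g.natDegree ≤ finrank F (LinearMap.ker (Polynomial.aeval (Matrix.toLin' x) g)) := by
  classical
  have hg0 := hg.ne_zero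
  haveI : Fact (Irreducible g) := ⟨hg⟩
  haveI hfin : Module.Finite F (AdjoinRoot g) := (AdjoinRoot.powerBasis hg0).finite
  have hdim : finrank F (AdjoinRoot g) = g.natDegree := by
    rw [(AdjoinRoot.powerBasis hg0).finrank]
    simp
  let ζ : AdjoinRoot g := AdjoinRoot.root g
  let U := (Fin t → AdjoinRoot g) × (Fin a → F)
  have hrankU : finrank F U = n := by
    rw [Module.finrank_prod, Module.finrank_pi_fintype]
    simp [hdim, hn]
  let L : U ≃ₗ[F] (Fin n → F) := LinearEquiv.ofFinrankEq _ _ (by rw [hrankU]; simp)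
  let A : (Fin t → AdjoinRoot g) →ₗ[F] (Fin t → AdjoinRoot g) :=
    { toFun := fun u => ζ • u
      map_add' := fun u v => smul_add _ _ _
      map_smul' := fun c u => smul_comm _ _ _ }
  let T₀ : U →ₗ[F] U := LinearMap.prodMap A LinearMap.id
  let T : (Fin n → F) →ₗ[F] (Fin n → F) := L.toLinearMap ∘ₗ T₀ ∘ₗ L.symm.toLinearMap
  have hT : ∀ u, T (L u) = L (T₀ u) := by
    intro u
    simp [T]
  have hT₀ : ∀ (f : F[X]) (u : Fin t → AdjoinRoot g) (w : Fin a → F),
      Polynomial.aeval T₀ f (u, w) = (Polynomial.aeval ζ f • u, f.eval 1 • w) := by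
    intro f u w
    induction f using Polynomial.induction_on' with
    | add p q hp hq =>
      simp only [map_add, LinearMap.add_apply, hp, hq, add_smul, eval_add]
      rfl
    | monomial n c =>
      have hpow : ∀ (m : ℕ), (T₀ ^ m) (u, w) = (ζ ^ m • u, w) := by
        intro m
        induction m with
        | zero => simp
        | succ m ih =>
          rw [pow_succ', Module.End.mul_apply, ih]
          simp only [T₀, LinearMap.prodMap_apply, LinearMap.id_apply, A]
          ext i
          · show ζ * (ζ ^ m * u i) = (ζ ^ (m + 1)) * u i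
            ring
          · rfl
      rw [aeval_monomial, Module.End.mul_apply, Module.algebraMap_end_apply, hpow, aeval_monomial,
        eval_monomial, one_pow, mul_one]
      apply Prod.ext
      · show c • (ζ ^ n • u) = (algebraMap F (AdjoinRoot g) c * ζ ^ n) • u
        rw [mul_smul, algebraMap_smul]
      · rfl
  refine ⟨LinearMap.toMatrix' T, ?_, ?_⟩
  · rw [Matrix.toLin'_toMatrix']
    apply LinearMap.ext
    intro v
    obtain ⟨u, rfl⟩ := L.surjective v
    obtain ⟨u₁, u₂⟩ := u
    rw [aeval_conj L T₀ T hT, hT₀]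
    have h1 : Polynomial.aeval ζ ((X - 1) * g) = 0 := by
      rw [map_mul]
      have : Polynomial.aeval ζ g = 0 := by
        simp only [ζ]
        rw [AdjoinRoot.aeval_eq, AdjoinRoot.mk_self]
      rw [this, mul_zero]
    have h2 : ((X - 1) * g : F[X]).eval 1 = 0 := by simp
    rw [h1, h2]
    simp
    rfl
  · rw [Matrix.toLin'_toMatrix']
    let ι : (Fin t → AdjoinRoot g) →ₗ[F] (Fin n → F) :=
      L.toLinearMap ∘ₗ LinearMap.inl F _ _
    have hι : Function.Injective ι := by
      intro a b hab
      have := L.injective hab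
      exact LinearMap.inl_injective this
    have h1 := LinearMap.finrank_range_of_inj hι
    have h2 : finrank F (Fin t → AdjoinRoot g) = t * g.natDegree := by
      rw [Module.finrank_pi_fintype]
      simp [hdim]
    rw [← h2, ← h1]
    apply Submodule.finrank_mono
    rintro _ ⟨u, rfl⟩
    rw [LinearMap.mem_ker]
    show Polynomial.aeval T g (L (u, 0)) = 0
    rw [aeval_conj L T₀ T hT, hT₀]
    have : Polynomial.aeval ζ g = 0 := by
      simp only [ζ]
      rw [AdjoinRoot.aeval_eq, AdjoinRoot.mk_self]
    rw [this]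
    simp
    rfl

end Block

section Count

variable {F : Type*} [Field F] [Fintype F] {V : Type*} [AddCommGroup V] [Module F V]
  [FiniteDimensional F V]

/-- The number of `m`-dimensional subspaces. -/
theorem card_subspaces_mul (m : ℕ) (hm : m ≤ finrank F V) :
    Nat.card {W : Submodule F V // finrank F W = m} *
        ∏ j : Fin m, (Fintype.card F ^ m - Fintype.card F ^ (j : ℕ)) =
      ∏ j : Fin m, (Fintype.card F ^ finrank F V - Fintype.card F ^ (j : ℕ)) := by
  classical
  haveI : Finite V := Module.finite_of_finite F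
  letI : Fintype V := Fintype.ofFinite V
  let X₁ := {s : Fin m → V // LinearIndependent F s}
  let Y₁ := {W : Submodule F V // finrank F W = m}
  have hspan : ∀ s : X₁, finrank F (Submodule.span F (Set.range s.1)) = m := by
    intro s
    rw [finrank_span_eq_card s.2]
    simp
  let f : X₁ → Y₁ := fun s => ⟨Submodule.span F (Set.range s.1), hspan s⟩
  have hfib : ∀ W : Y₁, Nat.card {s : X₁ // f s = W} =
      ∏ j : Fin m, (Fintype.card F ^ m - Fintype.card F ^ (j : ℕ)) := by
    rintro ⟨W, hW⟩
    have h1 := card_linearIndependent (K := F) (V := W) (k := m) (by rw [hW])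
    rw [hW] at h1
    rw [← h1]
    apply Nat.card_congr
    refine
      { toFun := fun s => ⟨fun i => ⟨s.1.1 i, ?_⟩, ?_⟩
        invFun := fun t => ⟨⟨fun i => (t.1 i : V), ?_⟩, ?_⟩
        left_inv := ?_
        right_inv := ?_ }
    · have h2 : Submodule.span F (Set.range s.1.1) = W := congrArg Subtype.val s.2
      have h3 : s.1.1 i ∈ Submodule.span F (Set.range s.1.1) := Submodule.subset_span ⟨i, rfl⟩
      rwa [h2] at h3
    · have h3 := s.1.2
      apply LinearIndependent.of_comp W.subtype
      exact h3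
    · exact t.2.map' W.subtype (Submodule.ker_subtype W)
    · apply Subtype.ext
      show Submodule.span F (Set.range fun i => (t.1 i : V)) = W
      have h4 : (Set.range fun i => (t.1 i : V)) = W.subtype '' Set.range t.1 := by
        rw [← Set.range_comp]
        rfl
      rw [h4, ← Submodule.map_span]
      have h5 : Submodule.span F (Set.range t.1) = ⊤ :=
        t.2.span_eq_top_of_card_eq_finrank' (by simp [hW])
      rw [h5]
      simp
    · intro s
      rfl
    · intro t
      rfl
  have h1 := card_linearIndependent (K := F) (V := V) (k := m) hm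
  rw [← h1]
  have h2 : Nat.card X₁ = Nat.card (Σ W : Y₁, {s : X₁ // f s = W}) :=
    Nat.card_congr (Equiv.sigmaFiberEquiv f).symm
  haveI : Fintype (Submodule F V) := Fintype.ofFinite _
  letI : Fintype Y₁ := Fintype.ofFinite _
  rw [h2, Nat.card_sigma]
  simp only [hfib]
  rw [Finset.sum_const, Finset.card_univ, smul_eq_mul, Nat.card_eq_fintype_card]

end Count

end Cfsg.Agent.H29
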