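/-
Invariant subspaces of elements of prime order of `GL_n(F)`: existence and constraints on dimensions.
-/
import Cfsg.Agent.Lib.H29.PrimeOrd

set_option autoImplicit false

namespace Cfsg.Agent.H29

open Polynomial Module Cfsg.Agent.H12.Singer

section Factor

variable {F : Type*} [Field F]

theorem natDegree_of_dvd_X_sub_one (g : F[X]) (hg : Irreducible g) (h : g ∣ X - 1) :
    g.natDegree = 1 := by
  have h1 : (X - 1 : F[X]) = X - C 1 := by simp
  have h2 := natDegree_le_of_dvd h (by rw [h1]; exact X_sub_C_ne_zero 1)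
  rw [h1, natDegree_X_sub_C] at h2
  have := hg.natDegree_pos
  omega

theorem natDegree_of_dvd_irreducible (P g : F[X]) (hP : Irreducible P) (hg : Irreducible g)
    (h : g ∣ P) : g.natDegree = P.natDegree := by
  have h1 : Associated g P := hg.associated_of_dvd hP h
  exact natDegree_eq_of_degree_eq (degree_eq_degree_of_associated h1)

variable {V : Type*} [AddCommGroup V] [Module F V] [FiniteDimensional F V]

/-- All dimensions are attained by stable subspaces when all irreducible factors have degree one. -/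
theorem exists_stable_pair_of_degree_one (T : V →ₗ[F] V) (P : F[X]) (hP0 : P ≠ 0)
    (hd : ∀ g : F[X], Irreducible g → g ∣ P → g.natDegree = 1) (hP : Polynomial.aeval T P = 0)
    (m₁ m₂ : ℕ) (h12 : m₁ ≤ m₂) (h2 : m₂ ≤ finrank F V) :
    ∃ U W : Submodule F V, U ≤ W ∧ TStable T U ∧ TStable T W ∧ finrank F U = m₁ ∧ finrank F W = m₂ := by
  obtain ⟨W, -, -, hW, hWr⟩ := exists_stable_between T P 1 hd (tStable_bot T) (tStable_top T) bot_le hP0
    (fun v _ => by rw [hP]; rfl) m₂ (by simpa using h2)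
  obtain ⟨U, -, hUW, hU, hUr⟩ := exists_stable_between T P 1 hd (tStable_bot T) hW bot_le hP0
    (fun v _ => by rw [hP]; rfl) m₁ (by simp at hWr ⊢; omega)
  exact ⟨U, W, hUW, hU, hW, by simpa using hUr, by simpa using hWr⟩

end Factor

section PowOne

variable {F : Type*} [Field F] [Fintype F] {p : ℕ} [hp : Fact p.Prime] [CharP F p] {q r : ℕ}
  {V : Type*} [AddCommGroup V] [Module F V] [FiniteDimensional F V]

theorem Phi_ne_zero (hr : Fact r.Prime) : Phi F r ≠ 0 := by
  intro h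
  have h1 := X_sub_one_mul_Phi (F := F) r
  rw [h, mul_zero] at h1
  exact X_pow_sub_C_ne_zero (hr.out.pos) (1 : F) (by simpa using h1.symm)

theorem aeval_X_pow_sub_one (T : V →ₗ[F] V) (hT : T ^ r = 1) :
    Polynomial.aeval T (X ^ r - 1 : F[X]) = 0 := by
  simp [hT]

/-- Stable subspaces of a map with `T ^ r = 1`: they are the sums of any subspace of the fixed
space and of a stable subspace of the complement, the dimension of which is a multiple of `i`. -/
theorem exists_pair_of_pow_eq_one (hF : Fintype.card F = q) [hr : Fact r.Prime] (hrp : r ≠ p)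
    (T : V →ₗ[F] V) (hT : T ^ r = 1) :
    ∃ a₁ t' : ℕ, finrank F V = a₁ + t' * orderOf (q : ZMod r) ∧
      ∀ α₁ α₂ β₁ β₂ : ℕ, α₁ ≤ α₂ → α₂ ≤ a₁ → β₁ ≤ β₂ → β₂ ≤ t' →
        ∃ U W : Submodule F V, U ≤ W ∧ TStable T U ∧ TStable T W ∧
          finrank F U = α₁ + β₁ * orderOf (q : ZMod r) ∧
          finrank F W = α₂ + β₂ * orderOf (q : ZMod r) := by
  classical
  set i := orderOf (q : ZMod r) with hi
  have hP1 : (X - 1 : F[X]) ≠ 0 := by
    have h1 : (X - 1 : F[X]) = X - C 1 := by simp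
    rw [h1]
    exact X_sub_C_ne_zero 1
  have hΦ0 := Phi_ne_zero (F := F) hr
  have hc := isCoprime_X_sub_one_Phi (F := F) (p := p) (r := r) hrp
  set V₁ : Submodule F V := LinearMap.ker (Polynomial.aeval T (X - 1 : F[X])) with hV₁
  set V₂ : Submodule F V := LinearMap.ker (Polynomial.aeval T (Phi F r)) with hV₂
  have hprod : ∀ w ∈ (⊤ : Submodule F V), Polynomial.aeval T ((X - 1 : F[X]) * Phi F r) w = 0 := by
    intro w _
    rw [X_sub_one_mul_Phi, aeval_X_pow_sub_one T hT]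
    rfl
  have hsplit := finrank_split T (tStable_top T) hc hprod
  rw [top_inf_eq, top_inf_eq, finrank_top] at hsplit
  have hV₁s : TStable T V₁ := tStable_ker_aeval T _
  have hV₂s : TStable T V₂ := tStable_ker_aeval T _
  have hdiv : ∀ g : F[X], Irreducible g → g ∣ Phi F r → g.natDegree = i :=
    fun g hg h => natDegree_of_dvd_Phi (p := p) hF hrp g hg h
  have h1deg : ∀ g : F[X], Irreducible g → g ∣ (X - 1 : F[X]) → g.natDegree = 1 :=
    fun g hg h => natDegree_of_dvd_X_sub_one g hg h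
  have hV₂ann : ∀ v ∈ V₂, Polynomial.aeval T (Phi F r) v = 0 := fun v hv => hv
  have hV₁ann : ∀ v ∈ V₁, Polynomial.aeval T (X - 1 : F[X]) v = 0 := fun v hv => hv
  obtain ⟨t', ht'⟩ := dvd_finrank_of_aeval_zero T (Phi F r) i hdiv hV₂s hΦ0 hV₂ann
  refine ⟨finrank F V₁, t', by rw [hsplit, ht', mul_comm], ?_⟩
  intro α₁ α₂ β₁ β₂ h1 h2 h3 h4
  obtain ⟨W₁, -, hW₁V, hW₁, hW₁r⟩ := exists_stable_between T (X - 1) 1 h1deg (tStable_bot T) hV₁s
    bot_le hP1 hV₁ann α₂ (by simpa using h2)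
  obtain ⟨U₁, -, hU₁W, hU₁, hU₁r⟩ := exists_stable_between T (X - 1) 1 h1deg (tStable_bot T) hW₁
    bot_le hP1 (fun v hv => hV₁ann v (hW₁V hv)) α₁ (by simp at hW₁r ⊢; omega)
  obtain ⟨W₂, -, hW₂V, hW₂, hW₂r⟩ := exists_stable_between T (Phi F r) i hdiv (tStable_bot T) hV₂s
    bot_le hΦ0 hV₂ann β₂ (by
      simp only [finrank_bot, zero_add]
      rw [ht', mul_comm i t']
      exact Nat.mul_le_mul_right _ h4)
  obtain ⟨U₂, -, hU₂W, hU₂, hU₂r⟩ := exists_stable_between T (Phi F r) i hdiv (tStable_bot T) hW₂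
    bot_le hΦ0 (fun v hv => hV₂ann v (hW₂V hv)) β₁ (by
      simp only [finrank_bot, zero_add] at hW₂r ⊢
      rw [hW₂r]
      exact Nat.mul_le_mul_right _ h3)
  simp only [finrank_bot, zero_add, mul_one] at hW₁r hU₁r hW₂r hU₂r
  have hdisj : Disjoint V₁ V₂ := Polynomial.disjoint_ker_aeval_of_isCoprime T hc
  have hinf : ∀ A B : Submodule F V, A ≤ V₁ → B ≤ V₂ → A ⊓ B = ⊥ := by
    intro A B hA hB
    exact disjoint_iff.1 (hdisj.mono hA hB)
  have hfin : ∀ A B : Submodule F V, A ≤ V₁ → B ≤ V₂ → finrank F (A ⊔ B : Submodule F V) =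
      finrank F A + finrank F B := by
    intro A B hA hB
    have h5 := Submodule.finrank_sup_add_finrank_inf_eq A B
    rw [hinf A B hA hB, finrank_bot, add_zero] at h5
    exact h5
  refine ⟨U₁ ⊔ U₂, W₁ ⊔ W₂, sup_le_sup hU₁W hU₂W, hU₁.sup hU₂, hW₁.sup hW₂, ?_, ?_⟩
  · rw [hfin _ _ (hU₁W.trans hW₁V) (hU₂W.trans hW₂V), hU₁r, hU₂r]
  · rw [hfin _ _ hW₁V hW₂V, hW₁r, hW₂r]

/-- When `r ∣ q - 1`, `X ^ r - 1` splits. -/
theorem natDegree_of_dvd_X_pow_sub_one (hF : Fintype.card F = q) [hr : Fact r.Prime] (hrp : r ≠ p)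
    (hi : orderOf (q : ZMod r) = 1) (g : F[X]) (hg : Irreducible g) (h : g ∣ (X ^ r - 1 : F[X])) :
    g.natDegree = 1 := by
  rw [← X_sub_one_mul_Phi (F := F) r] at h
  rcases hg.prime.dvd_or_dvd h with h | h
  · exact natDegree_of_dvd_X_sub_one g hg h
  · rw [natDegree_of_dvd_Phi (p := p) hF hrp g hg h, hi]

end PowOne

section Power

variable {F : Type*} [Field F] [Fintype F] {q r : ℕ}

/-- If `c` is not an `r`-th power and `c ^ s = 1` then the full power of `r` dividing `q - 1`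
divides `s`. -/
theorem pow_padic_dvd_of_not_pow (hF : Fintype.card F = q) [hr : Fact r.Prime] (c : F)
    (hc : ∀ b : F, b ^ r ≠ c) (s : ℕ) (hs : c ^ s = 1) :
    r ^ padicValNat r (q - 1) ∣ s := by
  classical
  have hc0 : c ≠ 0 := by
    intro h
    apply hc 0
    rw [h, zero_pow hr.out.ne_zero]
  obtain ⟨ξ, hξ⟩ := IsCyclic.exists_generator (α := Fˣ)
  obtain ⟨k, hk⟩ : ∃ k : ℕ, ξ ^ k = Units.mk0 c hc0 := by
    have := hξ (Units.mk0 c hc0)
    exact mem_powers_iff_mem_zpowers.2 this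
  have hkc : (ξ : F) ^ k = c := by
    have := congrArg Units.val hk
    simpa using this
  have hrk : ¬ r ∣ k := by
    rintro ⟨l, rfl⟩
    apply hc ((ξ : F) ^ l)
    rw [← hkc, ← pow_mul, mul_comm]
  have hord : orderOf ξ = q - 1 := by
    rw [orderOf_eq_card_of_forall_mem_zpowers hξ, Nat.card_eq_fintype_card, Fintype.card_units, hF]
  have h1 : ξ ^ (k * s) = 1 := by
    apply Units.ext
    rw [pow_mul, Units.val_pow_eq_pow_val, Units.val_pow_eq_pow_val, hkc, hs]
    rfl
  have h2 : q - 1 ∣ k * s := by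
    rw [← hord]
    exact orderOf_dvd_of_pow_eq_one h1
  have h3 : r ^ padicValNat r (q - 1) ∣ q - 1 := pow_padicValNat_dvd
  have h4 : r ^ padicValNat r (q - 1) ∣ k * s := h3.trans h2
  have hcop : Nat.Coprime (r ^ padicValNat r (q - 1)) k :=
    Nat.Coprime.pow_left _ ((Nat.Prime.coprime_iff_not_dvd hr.out).2 hrk)
  exact hcop.dvd_of_dvd_mul_left h4

/-- Existence of a non-`r`-th power `c` of `r`-power order, with exact determinant control. -/
theorem exists_not_pow_order (hF : Fintype.card F = q) [hr : Fact r.Prime] (hdvd : r ∣ q - 1) :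
    ∃ c : F, c ≠ 0 ∧ (∀ b : F, b ^ r ≠ c) ∧ c ^ r ^ padicValNat r (q - 1) = 1 := by
  classical
  have hq : 2 ≤ q := by
    rw [← hF]
    exact Fintype.one_lt_card
  obtain ⟨ξ, hξ⟩ := IsCyclic.exists_generator (α := Fˣ)
  have hord : orderOf ξ = q - 1 := by
    rw [orderOf_eq_card_of_forall_mem_zpowers hξ, Nat.card_eq_fintype_card, Fintype.card_units, hF]
  set e := padicValNat r (q - 1) with he
  have hpos : 0 < q - 1 := by omega
  obtain ⟨w, hw⟩ : r ^ e ∣ q - 1 := pow_padicValNat_dvd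
  have hrw : ¬ r ∣ w := by
    rintro ⟨l, rfl⟩
    have h1 : r ^ (e + 1) ∣ q - 1 := ⟨l, by rw [hw]; ring⟩
    have hne : q - 1 ≠ 0 := by omega
    have h2 := (padicValNat_dvd_iff_le (p := r) hne).1 h1
    omega
  have he1 : 1 ≤ e := by
    have h1 : r ^ 1 ∣ q - 1 := by simpa using hdvd
    exact (padicValNat_dvd_iff_le (p := r) (by omega)).1 h1
  refine ⟨((ξ ^ w : Fˣ) : F), Units.ne_zero _, ?_, ?_⟩
  · intro b hb
    have hb0 : b ≠ 0 := by
      rintro rfl
      rw [zero_pow hr.out.ne_zero] at hb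
      exact (Units.ne_zero _) hb.symm
    -- `c ^ ((q - 1) / r) = 1` while `c` has order `r ^ e`
    obtain ⟨l, hl⟩ : r ∣ q - 1 := hdvd
    have h1 : ((ξ ^ w : Fˣ) : F) ^ l = 1 := by
      rw [← hb, ← pow_mul, ← hl, ← hF]
      exact FiniteField.pow_card_sub_one_eq_one b hb0
    have h2 : ξ ^ (w * l) = 1 := by
      apply Units.ext
      rw [pow_mul, Units.val_pow_eq_pow_val, h1]
      rfl
    have h3 : q - 1 ∣ w * l := by
      rw [← hord]
      exact orderOf_dvd_of_pow_eq_one h2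
    -- cancel `w`
    have hw0 : w ≠ 0 := by
      rintro rfl
      simp at hw
      omega
    rw [hw, mul_comm (r ^ e) w] at h3
    have h4 : r ^ e ∣ l := Nat.dvd_of_mul_dvd_mul_left (Nat.pos_of_ne_zero hw0) h3
    have h5 : l * r = r ^ e * w := by rw [mul_comm, ← hl, hw]
    obtain ⟨u, hu⟩ := h4
    rw [hu] at h5
    have hre : 0 < r ^ e := pow_pos hr.out.pos _
    have h6 : u * r = w := by
      apply Nat.eq_of_mul_eq_mul_left hre
      rw [← h5]
      ring
    exact hrw ⟨u, by rw [← h6]; ring⟩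
  · have h1 : (ξ ^ w) ^ (r ^ e) = 1 := by
      rw [← pow_mul, mul_comm, ← hw, ← hord]
      exact pow_orderOf_eq_one ξ
    have h2 := congrArg Units.val h1
    simpa using h2

end Power

end Cfsg.Agent.H29
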