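/-
Elements of prime order of `PSL_n(q)` and their invariant subspaces: the elements used as
derangements, and the structure of a general element.
-/
import Cfsg.Agent.Lib.H29.PrimeStable

set_option autoImplicit false

namespace Cfsg.Agent.H29

open Polynomial Module Cfsg.Agent.H12.Singer Matrix

section General

variable {F : Type*} [Field F]
variable {n : ℕ}

theorem toLin'_pow_eq (x : Matrix (Fin n) (Fin n) F) (k : ℕ) :
    Matrix.toLin' (x ^ k) = (Matrix.toLin' x) ^ k := by
  have h := map_pow (Matrix.toLinAlgEquiv' (R := F) (n := Fin n)) x k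
  simpa using h

theorem toLin'_smul_one (c : F) :
    Matrix.toLin' (c • (1 : Matrix (Fin n) (Fin n) F)) = c • (1 : Module.End F (Fin n → F)) := by
  ext v
  simp [Matrix.smul_mulVec]

theorem aeval_smul_one {V : Type*} [AddCommGroup V] [Module F V] (c : F) (g : F[X]) (v : V) :
    Polynomial.aeval (c • (1 : Module.End F V)) g v = g.eval c • v := by
  have h1 : c • (1 : Module.End F V) = algebraMap F (Module.End F V) c := by
    ext u
    simp
  rw [h1, Polynomial.aeval_algebraMap_apply]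
  simp [Polynomial.aeval_def, Polynomial.eval₂_eq_eval_map]

end General

section Blocks

variable {F : Type*} [Field F] [Fintype F] {p : ℕ} [hp : Fact p.Prime] [CharP F p] {q r : ℕ}

/-- The derangements with a non-trivial fixed space, for `r ∤ q - 1`. -/
theorem exists_sl_block (hF : Fintype.card F = q) [hr : Fact r.Prime] (hrp : r ≠ p)
    (hi2 : 2 ≤ orderOf (q : ZMod r)) (n t a : ℕ) (hn : n = t * orderOf (q : ZMod r) + a)
    (ht : 1 ≤ t) :
    ∃ x : Matrix.SpecialLinearGroup (Fin n) F,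
      ((x ^ r : Matrix.SpecialLinearGroup (Fin n) F) : Matrix (Fin n) (Fin n) F) = 1 ∧
      (∀ c : F, (x : Matrix (Fin n) (Fin n) F) ≠ c • (1 : Matrix (Fin n) (Fin n) F)) ∧
      ∃ A B : Submodule F (Fin n → F), finrank F A ≤ a ∧
        ∀ W : Submodule F (Fin n → F), TStable (Matrix.toLin' (x : Matrix (Fin n) (Fin n) F)) W →
          finrank F W = finrank F (W ⊓ A : Submodule F (Fin n → F)) +
              finrank F (W ⊓ B : Submodule F (Fin n → F)) ∧
            orderOf (q : ZMod r) ∣ finrank F (W ⊓ B : Submodule F (Fin n → F)) := by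
  classical
  set i := orderOf (q : ZMod r) with hi
  have hq2 : 2 ≤ q := two_le_card hF
  have hr2 := hr.out.two_le
  have hΦ0 := Phi_ne_zero (F := F) hr
  have hΦu : ¬ IsUnit (Phi F r) := by
    intro hu
    have h1 := congrArg natDegree (X_sub_one_mul_Phi (F := F) r)
    have hX : (X - 1 : F[X]) = X - C 1 := by simp
    rw [natDegree_mul (by rw [hX]; exact X_sub_C_ne_zero 1) hΦ0,
      natDegree_eq_zero_of_isUnit hu, hX, natDegree_X_sub_C, ← C_1, natDegree_X_pow_sub_C] at h1
    omega
  obtain ⟨g, hg, hgΦ⟩ := WfDvdMonoid.exists_irreducible_factor hΦu hΦ0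
  have hgd : g.natDegree = i := natDegree_of_dvd_Phi (p := p) hF hrp g hg hgΦ
  obtain ⟨x, hx1, hx2⟩ := exists_block_matrix g hg t a n (by rw [hgd]; exact hn)
  set T := Matrix.toLin' x with hT
  have hTr : T ^ r = 1 := by
    obtain ⟨h, hh⟩ := hgΦ
    have h1 : Polynomial.aeval T (X ^ r - 1 : F[X]) = 0 := by
      rw [← X_sub_one_mul_Phi, hh, ← mul_assoc, map_mul, hx1, zero_mul]
    simp only [map_sub, map_pow, aeval_X, map_one] at h1
    exact sub_eq_zero.1 h1
  have hxr : x ^ r = 1 := by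
    apply Matrix.toLin'.injective
    rw [toLin'_pow_eq, ← hT, hTr]
    ext v
    simp
  have hrq : ¬ r ∣ q - 1 := by
    rw [dvd_sub_one_iff hq2]
    omega
  have hdet : x.det = 1 := by
    apply eq_one_of_pow_eq_one hF hrq
    rw [← Matrix.det_pow, hxr, Matrix.det_one]
  obtain ⟨xS, hX⟩ : ∃ xS : Matrix.SpecialLinearGroup (Fin n) F, (xS : Matrix (Fin n) (Fin n) F) = x :=
    ⟨⟨x, hdet⟩, rfl⟩
  refine ⟨xS, ?_, ?_, ?_⟩
  · rw [Matrix.SpecialLinearGroup.coe_pow, hX]
    exact hxr
  · intro c hc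
    have hc' : x = c • (1 : Matrix (Fin n) (Fin n) F) := by rw [← hX]; exact hc
    have hTc : T = c • (1 : Module.End F (Fin n → F)) := by
      rw [hT, hc', toLin'_smul_one]
    have hkpos : 0 < finrank F (LinearMap.ker (Polynomial.aeval T g)) := by
      have : 0 < t * g.natDegree := by rw [hgd]; positivity
      omega
    obtain ⟨v, hv⟩ := Submodule.exists_mem_ne_zero_of_ne_bot
      (fun h : LinearMap.ker (Polynomial.aeval T g) = ⊥ => by
        rw [h, finrank_bot] at hkpos
        exact lt_irrefl _ hkpos)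
    have h1 : Polynomial.aeval T g v = 0 := hv.1
    rw [hTc, aeval_smul_one] at h1
    have h2 : g.eval c = 0 := (smul_eq_zero.1 h1).resolve_right hv.2
    have h3 : (X - C c) ∣ g := dvd_iff_isRoot.2 h2
    have h4 := natDegree_of_dvd_irreducible g (X - C c) hg (irreducible_X_sub_C c) h3
    rw [natDegree_X_sub_C] at h4
    omega
  · have hc : IsCoprime (X - 1 : F[X]) g :=
      (isCoprime_X_sub_one_Phi (F := F) (p := p) (r := r) hrp).of_isCoprime_of_dvd_right hgΦ
    have hprod : ∀ w : Fin n → F, Polynomial.aeval T ((X - 1 : F[X]) * g) w = 0 := by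
      intro w
      rw [hx1]
      rfl
    refine ⟨LinearMap.ker (Polynomial.aeval T (X - 1 : F[X])), LinearMap.ker (Polynomial.aeval T g),
      ?_, ?_⟩
    · have hs := finrank_split T (tStable_top T) hc (fun w _ => hprod w)
      rw [top_inf_eq, top_inf_eq, finrank_top] at hs
      simp only [Module.finrank_fin_fun] at hs
      rw [hgd] at hx2
      have h3 : n = t * i + a := hn
      omega
    · intro W hW
      rw [hX] at hW
      refine ⟨finrank_split T hW hc (fun w _ => hprod w), ?_⟩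
      apply dvd_finrank_of_aeval_zero T g i _ (hW.inf (tStable_ker_aeval T g)) hg.ne_zero
      · intro v hv
        exact hv.2
      · intro g' hg' hd
        rw [natDegree_of_dvd_irreducible g g' hg hg' hd, hgd]

/-- The derangements in the case `r ∣ q - 1`: all invariant subspaces have dimension a multiple
of `r`. -/
theorem exists_sl_not_pow (n s : ℕ) (hn : n = s * r) (hs1 : 1 ≤ s) [hr : Fact r.Prime]
    (c : F) (hc : ∀ b : F, b ^ r ≠ c) (hdet : ((-1) ^ r * (-c)) ^ s = 1) :
    ∃ x : Matrix.SpecialLinearGroup (Fin n) F,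
      ((x ^ r : Matrix.SpecialLinearGroup (Fin n) F) : Matrix (Fin n) (Fin n) F) =
        c • (1 : Matrix (Fin n) (Fin n) F) ∧
      (∀ c : F, (x : Matrix (Fin n) (Fin n) F) ≠ c • (1 : Matrix (Fin n) (Fin n) F)) ∧
      ∀ W : Submodule F (Fin n → F), TStable (Matrix.toLin' (x : Matrix (Fin n) (Fin n) F)) W →
        r ∣ finrank F W := by
  classical
  have hrpos := hr.out.pos
  have hg : Irreducible (X ^ r - C c : F[X]) := X_pow_sub_C_irreducible_of_prime hr.out hc
  have hgd : (X ^ r - C c : F[X]).natDegree = r := natDegree_X_pow_sub_C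
  have hgm : (X ^ r - C c : F[X]).Monic := monic_X_pow_sub_C c hrpos.ne'
  obtain ⟨x, hx1, hx2⟩ := exists_block_matrix (X ^ r - C c) hg s 0 n (by rw [hgd, hn]; ring)
  set T := Matrix.toLin' x with hT
  have hker : Polynomial.aeval T (X ^ r - C c : F[X]) = 0 := by
    have h1 : finrank F (LinearMap.ker (Polynomial.aeval T (X ^ r - C c : F[X]))) = n := by
      apply le_antisymm
      · have := Submodule.finrank_le (LinearMap.ker (Polynomial.aeval T (X ^ r - C c : F[X])))
        simpa using this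
      · rw [hgd, ← hn] at hx2
        exact hx2
    have h2 : LinearMap.ker (Polynomial.aeval T (X ^ r - C c : F[X])) = ⊤ := by
      apply Submodule.eq_top_of_finrank_eq
      rw [h1]
      simp
    exact LinearMap.ker_eq_top.1 h2
  have hTr : T ^ r = c • (1 : Module.End F (Fin n → F)) := by
    have h1 := hker
    simp only [map_sub, map_pow, aeval_X, aeval_C] at h1
    rw [sub_eq_zero] at h1
    rw [h1]
    ext v
    simp
  have hxr : x ^ r = c • (1 : Matrix (Fin n) (Fin n) F) := by
    apply Matrix.toLin'.injective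
    rw [toLin'_pow_eq, ← hT, hTr, toLin'_smul_one]
  have hdetx : x.det = 1 := by
    rw [← LinearMap.det_toLin' x, ← hT, det_eq_norm_pow T _ hg hker s (by simp [hgd, hn, mul_comm]),
      norm_root_eq _ hg hgm, hgd]
    rw [coeff_sub, coeff_X_pow, coeff_C_zero, if_neg hrpos.ne, zero_sub]
    exact hdet
  obtain ⟨xS, hX⟩ : ∃ xS : Matrix.SpecialLinearGroup (Fin n) F, (xS : Matrix (Fin n) (Fin n) F) = x :=
    ⟨⟨x, hdetx⟩, rfl⟩
  refine ⟨xS, ?_, ?_, ?_⟩
  · rw [Matrix.SpecialLinearGroup.coe_pow, hX]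
    exact hxr
  · intro c₀ hc₀
    have hc' : x = c₀ • (1 : Matrix (Fin n) (Fin n) F) := by rw [← hX]; exact hc₀
    have hTc : T = c₀ • (1 : Module.End F (Fin n → F)) := by
      rw [hT, hc', toLin'_smul_one]
    have hn0 : 0 < n := by rw [hn]; positivity
    haveI : Nonempty (Fin n) := ⟨⟨0, hn0⟩⟩
    have h1 : Polynomial.aeval T (X ^ r - C c : F[X]) (fun _ => 1) = 0 := by rw [hker]; rfl
    rw [hTc, aeval_smul_one] at h1
    have h2 : (X ^ r - C c : F[X]).eval c₀ = 0 := by
      have h3 := congrFun h1 ⟨0, hn0⟩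
      simpa using h3
    apply hc c₀
    simpa [sub_eq_zero] using h2
  · intro W hW
    rw [hX] at hW
    apply dvd_finrank_of_aeval_zero T (X ^ r - C c) r _ hW hg.ne_zero
    · intro v _
      rw [hker]
      rfl
    · intro g' hg' hd
      rw [natDegree_of_dvd_irreducible _ g' hg hg' hd, hgd]

end Blocks

section General2

variable {F : Type*} [Field F] {V : Type*} [AddCommGroup V] [Module F V] [FiniteDimensional F V]

theorem tStable_of_smul {T : V →ₗ[F] V} (b : F) {W : Submodule F V} (h : TStable (b • T) W)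
    (hb : b ≠ 0) : TStable T W := by
  intro v hv
  have h1 := W.smul_mem b⁻¹ (h v hv)
  simpa [smul_smul, inv_mul_cancel₀ hb] using h1

end General2

section General3

variable {F : Type*} [Field F] [Fintype F] {V : Type*} [AddCommGroup V] [Module F V]
  [FiniteDimensional F V] {r : ℕ}

/-- Structure in the non-power case. -/
theorem det_of_not_pow (T : V →ₗ[F] V) [hr : Fact r.Prime] (c : F) (hc : ∀ b : F, b ^ r ≠ c)
    (hT : T ^ r = c • (1 : Module.End F V)) (hdet : LinearMap.det T = 1) :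
    ∃ s : ℕ, finrank F V = s * r ∧ ((-1) ^ r * (-c)) ^ s = 1 := by
  have hrpos := hr.out.pos
  have hg : Irreducible (X ^ r - C c : F[X]) := X_pow_sub_C_irreducible_of_prime hr.out hc
  have hgd : (X ^ r - C c : F[X]).natDegree = r := natDegree_X_pow_sub_C
  have hgm : (X ^ r - C c : F[X]).Monic := monic_X_pow_sub_C c hrpos.ne'
  have hker : Polynomial.aeval T (X ^ r - C c : F[X]) = 0 := by
    simp only [map_sub, map_pow, aeval_X, aeval_C, hT]
    rw [sub_eq_zero]
    ext v
    simp
  have hd : r ∣ finrank F V := by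
    have h1 := dvd_finrank_of_aeval_zero T (X ^ r - C c) r (fun g' hg' hd => by
      rw [natDegree_of_dvd_irreducible _ g' hg hg' hd, hgd]) (tStable_top T) hg.ne_zero
      (fun v _ => by rw [hker]; rfl)
    simpa using h1
  obtain ⟨s, hs⟩ := hd
  refine ⟨s, by rw [hs, mul_comm], ?_⟩
  have h1 := det_eq_norm_pow T _ hg hker s (by rw [hgd, hs])
  rw [hdet, norm_root_eq _ hg hgm, hgd, coeff_sub, coeff_X_pow, coeff_C_zero, if_neg hrpos.ne,
    zero_sub] at h1
  exact h1.symm

/-- Stable subspaces in the non-power case. -/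
theorem exists_stable_of_not_pow (T : V →ₗ[F] V) [hr : Fact r.Prime] (c : F)
    (hc : ∀ b : F, b ^ r ≠ c) (hT : T ^ r = c • (1 : Module.End F V)) (t₁ t₂ : ℕ) (h12 : t₁ ≤ t₂)
    (h2 : t₂ * r ≤ finrank F V) :
    ∃ U W : Submodule F V, U ≤ W ∧ TStable T U ∧ TStable T W ∧ finrank F U = t₁ * r ∧
      finrank F W = t₂ * r := by
  have hg : Irreducible (X ^ r - C c : F[X]) := X_pow_sub_C_irreducible_of_prime hr.out hc
  have hgd : (X ^ r - C c : F[X]).natDegree = r := natDegree_X_pow_sub_C
  have hker : Polynomial.aeval T (X ^ r - C c : F[X]) = 0 := by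
    simp only [map_sub, map_pow, aeval_X, aeval_C, hT]
    rw [sub_eq_zero]
    ext v
    simp
  have hd : ∀ g' : F[X], Irreducible g' → g' ∣ (X ^ r - C c : F[X]) → g'.natDegree = r :=
    fun g' hg' hd => by rw [natDegree_of_dvd_irreducible _ g' hg hg' hd, hgd]
  obtain ⟨W, -, -, hW, hWr⟩ := exists_stable_between T _ r hd (tStable_bot T) (tStable_top T) bot_le
    hg.ne_zero (fun v _ => by rw [hker]; rfl) t₂ (by simpa using h2)
  simp only [finrank_bot, zero_add] at hWr
  obtain ⟨U, -, hUW, hU, hUr⟩ := exists_stable_between T _ r hd (tStable_bot T) hW bot_le hg.ne_zero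
    (fun v _ => by rw [hker]; rfl) t₁ (by
      simp only [finrank_bot, zero_add]
      rw [hWr]
      exact Nat.mul_le_mul_right _ h12)
  simp only [finrank_bot, zero_add] at hUr
  exact ⟨U, W, hUW, hU, hW, hUr, hWr⟩

end General3

section CountDvd

variable {F : Type*} [Field F] [Fintype F] {p : ℕ} [hp : Fact p.Prime] [CharP F p] {q r : ℕ}
  {V : Type*} [AddCommGroup V] [Module F V] [FiniteDimensional F V]

theorem prod_pow_sub_eq (q n m : ℕ) (hq : 2 ≤ q) (hm : m ≤ n) :
    ∏ j : Fin m, (q ^ n - q ^ (j : ℕ)) =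
      (∏ j : Fin m, q ^ (j : ℕ)) * ∏ j : Fin m, (q ^ (n - j) - 1) := by
  rw [← Finset.prod_mul_distrib]
  apply Finset.prod_congr rfl
  intro j _
  have h1 : (j : ℕ) < n := lt_of_lt_of_le j.2 hm
  have h3 : q ^ n = q ^ (j : ℕ) * q ^ (n - (j : ℕ)) := by
    rw [← pow_add]
    congr 1
    omega
  rw [h3, Nat.mul_sub, mul_one]

/-- The number of `m`-dimensional subspaces, without the powers of `q`. -/
theorem card_subspaces_mul' (hF : Fintype.card F = q) (m : ℕ) (hm : m ≤ finrank F V) :
    Nat.card {W : Submodule F V // finrank F W = m} * ∏ j : Fin m, (q ^ (m - j) - 1) =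
      ∏ j : Fin m, (q ^ (finrank F V - j) - 1) := by
  have hq2 : 2 ≤ q := two_le_card hF
  have h1 := card_subspaces_mul (F := F) (V := V) m hm
  rw [hF, prod_pow_sub_eq q m m hq2 le_rfl, prod_pow_sub_eq q _ m hq2 hm] at h1
  have hpos : 0 < ∏ j : Fin m, q ^ (j : ℕ) := Finset.prod_pos fun j _ => by positivity
  apply Nat.eq_of_mul_eq_mul_left hpos
  rw [← h1]
  ring

/-- A prime dividing the number of `m`-dimensional subspaces divides some `q ^ (n - j) - 1`. -/
theorem exists_of_dvd_count (hF : Fintype.card F = q) (m : ℕ) (hm : m ≤ finrank F V) [hr : Fact r.Prime]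
    (h : r ∣ Nat.card {W : Submodule F V // finrank F W = m}) :
    ∃ j : ℕ, j < m ∧ r ∣ q ^ (finrank F V - j) - 1 := by
  have h1 := card_subspaces_mul' (F := F) (V := V) hF m hm
  have h2 : r ∣ ∏ j : Fin m, (q ^ (finrank F V - j) - 1) := by
    rw [← h1]
    exact h.mul_right _
  obtain ⟨j, -, hj⟩ := (Prime.dvd_finsetProd_iff (Nat.Prime.prime hr.out) _).1 h2
  exact ⟨j, j.2, hj⟩

theorem ne_char_of_dvd (hF : Fintype.card F = q) {l : ℕ} (hl : 0 < l) [hr : Fact r.Prime]
    (h : r ∣ q ^ l - 1) : r ≠ p := by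
  rintro rfl
  obtain ⟨f, hf, rfl⟩ := card_eq_pow_char (p := r) hF
  have h1 : r ∣ (r ^ f) ^ l := dvd_pow (dvd_pow_self r hf.ne') hl.ne'
  have h2 : 1 ≤ (r ^ f) ^ l := Nat.one_le_pow _ _ (by have := hr.out.pos; positivity)
  have h3 : r ∣ 1 := by
    have := (Nat.dvd_sub h1 h)
    rwa [Nat.sub_sub_self h2] at this
  exact hr.out.one_lt.ne' (Nat.dvd_one.1 h3)

end CountDvd

section IOne

variable {F : Type*} [Field F] [Fintype F] {p : ℕ} [hp : Fact p.Prime] [CharP F p] {q r : ℕ}

/-- The `r`-elusivity obstruction when `r ∣ q - 1`. -/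
theorem exists_sl_of_i_one (hF : Fintype.card F = q) [hr : Fact r.Prime] (hrp : r ≠ p)
    (hi1 : orderOf (q : ZMod r) = 1) (n : ℕ) (hn0 : n ≠ 0)
    (h : ¬ (padicValNat r n ≤ padicValNat r (q - 1) ∧ (r = 2 → Even n → q % 4 = 1))) :
    ∃ x : Matrix.SpecialLinearGroup (Fin n) F,
      (∃ c : F, ((x ^ r : Matrix.SpecialLinearGroup (Fin n) F) : Matrix (Fin n) (Fin n) F) =
        c • (1 : Matrix (Fin n) (Fin n) F)) ∧
      (∀ c : F, (x : Matrix (Fin n) (Fin n) F) ≠ c • (1 : Matrix (Fin n) (Fin n) F)) ∧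
      ∀ W : Submodule F (Fin n → F), TStable (Matrix.toLin' (x : Matrix (Fin n) (Fin n) F)) W →
        r ∣ finrank F W := by
  classical
  have hq2 : 2 ≤ q := two_le_card hF
  have hdvd : r ∣ q - 1 := (dvd_sub_one_iff hq2).2 hi1
  have hr2 := hr.out.two_le
  obtain ⟨c, hc0, hcnp, hcord⟩ := exists_not_pow_order hF hdvd
  set e := padicValNat r (q - 1) with he
  have hq0 : q - 1 ≠ 0 := by omega
  have he1 : 1 ≤ e := by
    have h1 : r ^ 1 ∣ q - 1 := by simpa using hdvd
    exact (padicValNat_dvd_iff_le (p := r) hq0).1 h1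
  suffices hs : ∃ s : ℕ, n = s * r ∧ ((-1) ^ r * (-c)) ^ s = 1 by
    obtain ⟨s, hns, hdet⟩ := hs
    have hs1 : 1 ≤ s := by
      rcases Nat.eq_zero_or_pos s with h0 | h0
      · rw [h0, zero_mul] at hns
        exact absurd hns hn0
      · exact h0
    obtain ⟨x, h1, h2, h3⟩ := exists_sl_not_pow n s hns hs1 c hcnp hdet
    exact ⟨x, ⟨c, h1⟩, h2, h3⟩
  by_cases hv : padicValNat r n ≤ e
  · have hcon : r = 2 ∧ Even n ∧ q % 4 ≠ 1 := by
      by_contra hcon
      apply h
      refine ⟨hv, ?_⟩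
      intro h1 h2
      by_contra h3
      exact hcon ⟨h1, h2, h3⟩
    obtain ⟨rfl, ⟨s, hs⟩, h4⟩ := hcon
    refine ⟨s, by omega, ?_⟩
    -- `q ≡ 3 [MOD 4]`, `e = 1`
    have hqodd : q % 2 = 1 := by
      obtain ⟨l, hl⟩ := hdvd
      omega
    have hq3 : q % 4 = 3 := by omega
    have he' : e = 1 := by
      apply le_antisymm _ he1
      by_contra hgt
      have h5 : 2 ^ 2 ∣ q - 1 := (padicValNat_dvd_iff_le (p := 2) hq0).2 (by omega)
      omega
    rw [he', pow_one] at hcord
    have hcm : c = -1 := by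
      have h5 : (c - 1) * (c + 1) = 0 := by linear_combination hcord
      rcases mul_eq_zero.1 h5 with h6 | h6
      · exact absurd (by simpa using (sub_eq_zero.1 h6).symm) (hcnp 1)
      · linear_combination h6
    rw [hcm]
    simp
  · have hv' : e + 1 ≤ padicValNat r n := by omega
    have h1 : r ^ (e + 1) ∣ n := (padicValNat_dvd_iff_le (p := r) hn0).2 hv'
    obtain ⟨w, hw⟩ := h1
    refine ⟨r ^ e * w, by rw [hw]; ring, ?_⟩
    rcases hr.out.eq_two_or_odd' with h2 | h2
    · subst h2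
      have h3 : Even (2 ^ e * w) := by
        apply Even.mul_right
        exact (Nat.even_pow.2 ⟨even_two, by omega⟩)
      have h6 : ((-1 : F) ^ 2 * -c) = -c := by ring
      rw [h6, h3.neg_pow, pow_mul, hcord, one_pow]
    · rw [h2.neg_one_pow]
      have h4 : (-1 : F) * -c = c := by ring
      rw [h4, pow_mul, hcord, one_pow]

/-- Conversely, an element `x ∈ SL_n` with `x ^ r = c` for `c` not an `r`-th power. -/
theorem padic_of_not_pow (hF : Fintype.card F = q) [hr : Fact r.Prime]
    (n : ℕ) (hn0 : n ≠ 0) (T : (Fin n → F) →ₗ[F] (Fin n → F)) (c : F) (hc : ∀ b : F, b ^ r ≠ c)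
    (hT : T ^ r = c • (1 : Module.End F (Fin n → F))) (hdet : LinearMap.det T = 1) :
    ¬ (padicValNat r n ≤ padicValNat r (q - 1) ∧ (r = 2 → Even n → q % 4 = 1)) := by
  rintro ⟨hv, h2⟩
  obtain ⟨s, hs, hdet'⟩ := det_of_not_pow T c hc hT hdet
  rw [Module.finrank_fin_fun] at hs
  have hnp : ∀ b : F, b ^ r ≠ (-1) ^ r * (-c) := by
    intro b hb
    rcases hr.out.eq_two_or_odd' with h3 | h3
    · subst h3
      have h4 : q % 4 = 1 := h2 rfl ⟨s, by omega⟩
      have h5 : IsSquare (-1 : F) := by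
        rw [FiniteField.isSquare_neg_one_iff, hF]
        omega
      obtain ⟨d, hd⟩ := h5
      apply hc (d * b)
      have h6 : (-1 : F) ^ 2 = 1 := by norm_num
      rw [h6, one_mul] at hb
      rw [mul_pow, hb, pow_two, ← hd]
      ring
    · rw [h3.neg_one_pow] at hb
      apply hc b
      rw [hb]
      ring
  have h3 := pow_padic_dvd_of_not_pow hF _ hnp s hdet'
  have h4 : r ^ (padicValNat r (q - 1) + 1) ∣ n := by
    rw [hs, pow_succ]
    exact Nat.mul_dvd_mul_right h3 r
  have h5 := (padicValNat_dvd_iff_le (p := r) hn0).1 h4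
  omega

end IOne

end Cfsg.Agent.H29
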