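/-
Cyclic vectors: vectors whose annihilator is exactly a squarefree polynomial killing the map,
conjugation of maps with a cyclic vector, commutants with prescribed determinant.
-/
import Cfsg.Agent.Lib.H29.PrimeStable
import Cfsg.Agent.Lib.H29.PSLSub
import Cfsg.Agent.Lib.H29.Diag

set_option autoImplicit false

open scoped MatrixGroups

namespace Cfsg.Agent.H29

open Polynomial Module

section Ann

variable {F V : Type*} [Field F] [AddCommGroup V] [Module F V]

/-- `f` generates the annihilator of `v`. -/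
def ExactAnn (T : V →ₗ[F] V) (v : V) (f : F[X]) : Prop :=
  Polynomial.aeval T f v = 0 ∧ ∀ h : F[X], Polynomial.aeval T h v = 0 → f ∣ h

theorem exactAnn_of_irreducible (T : V →ₗ[F] V) {v : V} {f : F[X]} (hf : Irreducible f) (hv : v ≠ 0)
    (h : Polynomial.aeval T f v = 0) : ExactAnn T v f := by
  refine ⟨h, fun g hg => ?_⟩
  by_contra hnd
  obtain ⟨a, b, hab⟩ := (hf.coprime_iff_not_dvd).2 hnd
  apply hv
  have h1 : Polynomial.aeval T (a * f + b * g) v = v := by
    rw [hab]
    simp
  rw [← h1, map_add, map_mul, map_mul]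
  simp [h, hg]

theorem ExactAnn.add {T : V →ₗ[F] V} {v₁ v₂ : V} {f₁ f₂ : F[X]} (h₁ : ExactAnn T v₁ f₁)
    (h₂ : ExactAnn T v₂ f₂) (hc : IsCoprime f₁ f₂) : ExactAnn T (v₁ + v₂) (f₁ * f₂) := by
  have hcomm : ∀ (a b : F[X]) (w : V), Polynomial.aeval T (a * b) w = Polynomial.aeval T a (Polynomial.aeval T b w) := by
    intro a b w
    rw [map_mul]
    rfl
  refine ⟨?_, fun h hh => ?_⟩
  · have h₁₁ : Polynomial.aeval T (f₁ * f₂) v₁ = 0 := by
      rw [mul_comm, hcomm, h₁.1, map_zero]
    have h₁₂ : Polynomial.aeval T (f₁ * f₂) v₂ = 0 := by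
      rw [hcomm, h₂.1, map_zero]
    rw [map_add, h₁₁, h₁₂, add_zero]
  · have h1 : f₁ ∣ h := by
      have h2 : Polynomial.aeval T (h * f₂) v₁ = 0 := by
        have h3 : Polynomial.aeval T (h * f₂) (v₁ + v₂) = 0 := by
          rw [mul_comm, hcomm, hh, map_zero]
        have h4 : Polynomial.aeval T (h * f₂) v₂ = 0 := by
          rw [hcomm, h₂.1, map_zero]
        rw [map_add, h4, add_zero] at h3
        exact h3
      exact hc.dvd_of_dvd_mul_right (h₁.2 _ h2)
    have h2' : f₂ ∣ h := by
      have h2 : Polynomial.aeval T (h * f₁) v₂ = 0 := by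
        have h3 : Polynomial.aeval T (h * f₁) (v₁ + v₂) = 0 := by
          rw [mul_comm, hcomm, hh, map_zero]
        have h4 : Polynomial.aeval T (h * f₁) v₁ = 0 := by
          rw [hcomm, h₁.1, map_zero]
        rw [map_add, h4, zero_add] at h3
        exact h3
      exact hc.symm.dvd_of_dvd_mul_right (h₂.2 _ h2)
    exact hc.mul_dvd h1 h2'

/-- A vector whose annihilator is exactly a squarefree polynomial, if that polynomial generates the
annihilator of the stable subspace `W`. -/
theorem exists_exactAnn [FiniteDimensional F V] (T : V →ₗ[F] V) (f : F[X]) (hf : Squarefree f) (W : Submodule F V)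
    (hW : TStable T W) (h1 : ∀ v ∈ W, Polynomial.aeval T f v = 0)
    (h2 : ∀ h : F[X], (∀ w ∈ W, Polynomial.aeval T h w = 0) → f ∣ h) :
    ∃ v ∈ W, ExactAnn T v f := by
  classical
  induction f using UniqueFactorizationMonoid.induction_on_prime generalizing W with
  | h₁ => exact absurd hf not_squarefree_zero
  | h₂ f hu =>
    refine ⟨0, W.zero_mem, by simp, fun h _ => hu.dvd⟩
  | h₃ a π ha hπ ih =>
    have hirr := hπ.irreducible
    have hsa : Squarefree a := hf.of_mul_right
    have hc : IsCoprime π a := by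
      rw [hirr.coprime_iff_not_dvd]
      intro hdvd
      have := hf π (mul_dvd_mul_left π hdvd)
      exact hπ.not_unit this
    have hcomm : ∀ (b c : F[X]) (w : V), Polynomial.aeval T (b * c) w = Polynomial.aeval T b (Polynomial.aeval T c w) := by
      intro b c w
      rw [map_mul]
      rfl
    obtain ⟨va, hva, hvaE⟩ := ih hsa (W ⊓ LinearMap.ker (Polynomial.aeval T a))
      (hW.inf (tStable_ker_aeval T a)) (fun v hv => hv.2) (by
        intro h hh
        have h3 : π * a ∣ h * π := by
          apply h2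
          · intro w hw
            rw [hcomm]
            apply hh
            refine ⟨hW.aeval π hw, ?_⟩
            show Polynomial.aeval T a (Polynomial.aeval T π w) = 0
            rw [← hcomm, mul_comm]
            exact h1 w hw
        rw [mul_comm h π] at h3
        exact (mul_dvd_mul_iff_left hπ.ne_zero).1 h3)
    have hne : W ⊓ LinearMap.ker (Polynomial.aeval T π) ≠ ⊥ := by
      intro hbot
      have h3 : π * a ∣ a := by
        apply h2
        intro w hw
        have h4 : Polynomial.aeval T a w ∈ W ⊓ LinearMap.ker (Polynomial.aeval T π) := by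
          refine ⟨hW.aeval a hw, ?_⟩
          show Polynomial.aeval T π (Polynomial.aeval T a w) = 0
          rw [← hcomm]
          exact h1 w hw
        rw [hbot, Submodule.mem_bot] at h4
        exact h4
      have h5 : π * a ∣ 1 * a := by rwa [one_mul]
      have h6 := (mul_dvd_mul_iff_right ha).1 h5
      exact hπ.not_unit (isUnit_of_dvd_one h6)
    obtain ⟨vp, hvp, hvp0⟩ := Submodule.exists_mem_ne_zero_of_ne_bot hne
    have hvpE := exactAnn_of_irreducible T hirr hvp0 hvp.2
    exact ⟨vp + va, W.add_mem hvp.1 hva.1, hvpE.add hvaE hc⟩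

end Ann

section CycVec

variable {F V : Type*} [Field F] [AddCommGroup V] [Module F V] [FiniteDimensional F V]

/-- A cyclic vector for a map `T` with `T ^ n = 1`, `n` invertible, without annihilators of degree
less than `n`. -/
theorem exists_cyclic_vector (T : V →ₗ[F] V) (n : ℕ) (hn0 : (n : F) ≠ 0) (hT : T ^ n = 1)
    (hno : ∀ h : F[X], h ≠ 0 → h.natDegree < n → Polynomial.aeval T h ≠ 0) :
    ∃ v : V, LinearIndependent F (fun i : Fin n => (T ^ (i : ℕ)) v) := by
  classical
  have hn : n ≠ 0 := by
    rintro rfl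
    exact hn0 (by simp)
  have hsep : (X ^ n - C (1 : F)).Separable := separable_X_pow_sub_C 1 hn0 one_ne_zero
  have hsq : Squarefree (X ^ n - C (1 : F)) := hsep.squarefree
  have hm : (X ^ n - C (1 : F)).Monic := monic_X_pow_sub_C _ hn
  have hd : (X ^ n - C (1 : F)).natDegree = n := natDegree_X_pow_sub_C
  obtain ⟨v, -, hv⟩ := exists_exactAnn T _ hsq ⊤ (tStable_top T)
    (by
      intro v _
      simp [hT]) (by
      intro h hh
      rw [← modByMonic_eq_zero_iff_dvd hm]
      by_contra hr
      have hlt : (h %ₘ (X ^ n - C (1 : F))).natDegree < n := by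
        have h1 := natDegree_modByMonic_lt h hm (by
          intro h1
          rw [h1] at hd
          rw [natDegree_one] at hd
          omega)
        rwa [hd] at h1
      apply hno _ hr hlt
      ext w
      have h3 : h = h %ₘ (X ^ n - C (1 : F)) + (X ^ n - C (1 : F)) * (h /ₘ (X ^ n - C (1 : F))) :=
        (modByMonic_add_div h (X ^ n - C (1 : F))).symm
      have h4 := hh w Submodule.mem_top
      rw [h3, map_add, map_mul] at h4
      have h5 : Polynomial.aeval T (X ^ n - C (1 : F)) = 0 := by simp [hT]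
      rw [h5, zero_mul, add_zero] at h4
      exact h4)
  refine ⟨v, ?_⟩
  rw [Fintype.linearIndependent_iff]
  intro g hg i
  set h : F[X] := ∑ j : Fin n, C (g j) * X ^ (j : ℕ) with hh
  have h1 : Polynomial.aeval T h v = 0 := by
    rw [hh, map_sum, LinearMap.sum_apply]
    rw [← hg]
    apply Finset.sum_congr rfl
    intro j _
    simp [Module.End.mul_apply]
  have hdeg : h.degree < n := by
    rw [hh]
    refine (degree_sum_le _ _).trans_lt ?_
    rw [Finset.sup_lt_iff (by exact WithBot.bot_lt_coe n)]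
    intro j _
    refine (degree_C_mul_X_pow_le _ _).trans_lt ?_
    exact_mod_cast j.2
  have h2 : h = 0 := by
    by_contra h0
    have h3 := degree_le_of_dvd (hv.2 h h1) h0
    rw [degree_eq_natDegree hm.ne_zero, hd] at h3
    exact absurd hdeg (not_lt.2 h3)
  have h3 : h.coeff (i : ℕ) = g i := by
    rw [hh, finsetSum_coeff]
    simp only [coeff_C_mul_X_pow]
    rw [Finset.sum_eq_single i]
    · simp
    · intro j _ hj
      rw [if_neg]
      intro h4
      exact hj (Fin.ext h4.symm)
    · simp
  rw [← h3, h2, coeff_zero]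

end CycVec

section Phi

variable {F V : Type*} [Field F] [Fintype F] [AddCommGroup V] [Module F V] [FiniteDimensional F V]
variable {p : ℕ} [hp : Fact p.Prime] [CharP F p]

open Cfsg.Agent.H12.Singer

/-- No annihilator of small degree when the cyclotomic polynomial is irreducible. -/
theorem noann_of_Phi_irreducible (n : ℕ) (h3 : 3 ≤ n) (hd : finrank F V = n)
    (hirr : Irreducible (Phi F n)) (hnd : (Phi F n).natDegree = n - 1) (T : V →ₗ[F] V)
    (hT : T ^ n = 1) (h1 : T ≠ 1) (h : F[X]) (hh0 : h ≠ 0) (hdh : h.natDegree < n) :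
    Polynomial.aeval T h ≠ 0 := by
  classical
  intro hzero
  set m := minpoly F T with hm
  have hint : IsIntegral F T := IsIntegral.of_finite F T
  have hmm : m.Monic := minpoly.monic hint
  have hm0 : Polynomial.aeval T m = 0 := minpoly.aeval F T
  have hmh : m ∣ h := minpoly.dvd F T hzero
  have hmX : m ∣ (X - 1 : F[X]) * Phi F n := by
    rw [X_sub_one_mul_Phi]
    apply minpoly.dvd
    simp [hT]
  have hdegm : m.natDegree < n := (natDegree_le_of_dvd hmh hh0).trans_lt hdh
  by_cases hΦ : Phi F n ∣ m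
  · obtain ⟨m', hm'⟩ := hΦ
    have hm'0 : m' ≠ 0 := by
      rintro rfl
      rw [mul_zero] at hm'
      exact hmm.ne_zero hm'
    have h4 : m.natDegree = n - 1 + m'.natDegree := by
      rw [hm', natDegree_mul hirr.ne_zero hm'0, hnd]
    have h5 : m'.natDegree = 0 := by omega
    obtain ⟨c, hc⟩ := natDegree_eq_zero.1 h5
    have hc0 : c ≠ 0 := by
      rintro rfl
      apply hm'0
      rw [← hc, C_0]
    have h6 : Polynomial.aeval T (Phi F n) = 0 := by
      have h7 : Phi F n = m * C c⁻¹ := by
        rw [hm', ← hc, mul_assoc, ← C_mul, mul_inv_cancel₀ hc0, C_1, mul_one]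
      rw [h7, map_mul, hm0, zero_mul]
    have h8 : n - 1 ∣ finrank F (⊤ : Submodule F V) := by
      apply dvd_finrank_of_aeval_zero T (Phi F n) (n - 1) _ (tStable_top T) hirr.ne_zero
      · intro v _
        rw [h6]
        rfl
      · intro g hg hdvd
        rw [natDegree_of_dvd_irreducible _ _ hirr hg hdvd, hnd]
    rw [finrank_top, hd] at h8
    have h9 : n - 1 ∣ 1 := by
      have h10 : n - 1 ∣ n - (n - 1) := Nat.dvd_sub h8 (dvd_refl _)
      rwa [show n - (n - 1) = 1 by omega] at h10
    have := Nat.le_of_dvd one_pos h9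
    omega
  · have hc : IsCoprime (Phi F n) m := (hirr.coprime_iff_not_dvd).2 hΦ
    have h4 : m ∣ (X - 1 : F[X]) := hc.symm.dvd_of_dvd_mul_right hmX
    obtain ⟨t, ht⟩ := h4
    apply h1
    have h5 : Polynomial.aeval T (X - 1 : F[X]) = 0 := by
      rw [ht, map_mul, hm0, zero_mul]
    simpa [sub_eq_zero] using h5

end Phi

section Conj

variable {F : Type*} [Field F] {n : ℕ}

/-- Commutants of determinant `δ` for a map with a cyclic vector. -/
theorem exists_commutant_det (hn0 : (n : F) ≠ 0) (y : Matrix (Fin n) (Fin n) F) (hy : y ^ n = 1)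
    (w : Fin n → F) (hw : LinearIndependent F (fun i : Fin n => (y ^ (i : ℕ)).mulVec w)) (δ : F) :
    ∃ C : Matrix (Fin n) (Fin n) F, C * y = y * C ∧ C.det = δ := by
  classical
  have hcard : Fintype.card (Fin n) = finrank F (Fin n → F) := by simp
  set b : Basis (Fin n) F (Fin n → F) := basisOfLinearIndependentOfCardEqFinrank' _ hw hcard with hb
  have hbi : ∀ i : Fin n, b i = (y ^ (i : ℕ)).mulVec w := fun i => by
    rw [hb, coe_basisOfLinearIndependentOfCardEqFinrank']
  obtain ⟨Q, hQ⟩ := exists_gl_of_basis b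
  set QM : Matrix (Fin n) (Fin n) F := (Q : Matrix (Fin n) (Fin n) F) with hQM
  set QI : Matrix (Fin n) (Fin n) F := ((Q⁻¹ : GL (Fin n) F) : Matrix (Fin n) (Fin n) F) with hQI
  have hQIQ : QI * QM = 1 := by
    have : ((Q⁻¹ * Q : GL (Fin n) F) : Matrix (Fin n) (Fin n) F) = 1 := by
      rw [inv_mul_cancel, Units.val_one]
    exact this
  have hQQI : QM * QI = 1 := mul_eq_one_comm.1 hQIQ
  -- the sum of the powers
  set S : Matrix (Fin n) (Fin n) F := ∑ i ∈ Finset.range n, y ^ i with hS
  have hyS : y * S = S := by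
    rw [hS, Finset.mul_sum]
    have h1 : ∑ i ∈ Finset.range n, y * y ^ i = ∑ i ∈ Finset.range n, y ^ (i + 1) := by
      apply Finset.sum_congr rfl
      intro i _
      rw [pow_succ']
    rw [h1]
    have h2 := Finset.sum_range_succ (fun i => y ^ i) n
    have h3 := Finset.sum_range_succ' (fun i => y ^ i) n
    rw [h2, hy] at h3
    simp only [pow_zero] at h3
    exact (add_right_cancel h3).symm
  have hSy : S * y = y * S := by
    rw [hS, Finset.sum_mul, Finset.mul_sum]
    apply Finset.sum_congr rfl
    intro i _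
    rw [← pow_succ, ← pow_succ']
  have hpowS : ∀ j : ℕ, y ^ j * S = S := by
    intro j
    induction j with
    | zero => simp
    | succ j ih => rw [pow_succ, mul_assoc, hyS, ih]
  have hSb : ∀ j : Fin n, S.mulVec (b j) = S.mulVec w := by
    intro j
    rw [hbi, Matrix.mulVec_mulVec]
    have h1 : S * y ^ (j : ℕ) = y ^ (j : ℕ) * S := by
      have : Commute S (y ^ (j : ℕ)) := Commute.pow_right hSy j
      exact this
    rw [h1, hpowS]
  have hSw : S.mulVec w = ∑ i, b i := by
    rw [hS, Matrix.sum_mulVec, Finset.sum_range]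
    apply Finset.sum_congr rfl
    intro i _
    rw [hbi]
  -- the conjugate of `S`
  set t : Fin n → F := fun _ => 1 with ht
  have hQS : QI * S * QM = Matrix.replicateCol Unit t * Matrix.replicateRow Unit t := by
    apply matrix_ext_single
    intro j
    rw [← Matrix.mulVec_mulVec, hQ, ← Matrix.mulVec_mulVec, hSb, hSw, Matrix.mulVec_sum]
    have h1 : ∀ i, QI.mulVec (b i) = Pi.single i 1 := by
      intro i
      rw [← hQ, Matrix.mulVec_mulVec, hQIQ, Matrix.one_mulVec]
    simp only [h1]
    ext i
    simp [Matrix.mul_apply, Matrix.mulVec, dotProduct, t, Finset.sum_apply, Pi.single_apply]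
  set β : F := (δ - 1) / n with hβ
  refine ⟨1 + β • S, ?_, ?_⟩
  · rw [add_mul, mul_add, one_mul, mul_one, Matrix.smul_mul, Matrix.mul_smul, hSy]
  · have h1 : (1 + β • S).det = (QI * (1 + β • S) * QM).det := by
      rw [Matrix.det_mul, Matrix.det_mul, mul_comm (QI.det), mul_assoc, ← Matrix.det_mul, hQIQ,
        Matrix.det_one, mul_one]
    have h2 : QI * (1 + β • S) * QM =
        1 + Matrix.replicateCol Unit (β • t) * Matrix.replicateRow Unit t := by
      have h3 : QI * (1 + β • S) * QM = QI * QM + β • (QI * S * QM) := by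
        rw [mul_add, add_mul, mul_one, Matrix.mul_smul, Matrix.smul_mul]
      rw [h3, hQIQ, hQS]
      congr 1
      ext i j
      simp [Matrix.mul_apply, t]
    rw [h1, h2, Matrix.det_one_add_replicateCol_mul_replicateRow]
    simp [dotProduct, t, hβ]
    field_simp
    ring

/-- Two maps with `n`-th power `1` with cyclic vectors are conjugate by a matrix of determinant one. -/
theorem exists_sl_conj_cyclic (hn0 : (n : F) ≠ 0) (x y : Matrix (Fin n) (Fin n) F) (hx : x ^ n = 1)
    (hy : y ^ n = 1) (u w : Fin n → F)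
    (hu : LinearIndependent F (fun i : Fin n => (x ^ (i : ℕ)).mulVec u))
    (hw : LinearIndependent F (fun i : Fin n => (y ^ (i : ℕ)).mulVec w)) :
    ∃ P : Matrix.SpecialLinearGroup (Fin n) F,
      x * (P : Matrix (Fin n) (Fin n) F) = (P : Matrix (Fin n) (Fin n) F) * y := by
  classical
  have hn : 0 < n := by
    rcases Nat.eq_zero_or_pos n with rfl | h
    · exact absurd (by simp) hn0
    · exact h
  have hcard : Fintype.card (Fin n) = finrank F (Fin n → F) := by simp
  set bx : Basis (Fin n) F (Fin n → F) := basisOfLinearIndependentOfCardEqFinrank' _ hu hcard with hbx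
  set by' : Basis (Fin n) F (Fin n → F) := basisOfLinearIndependentOfCardEqFinrank' _ hw hcard with hby
  have hbxi : ∀ i : Fin n, bx i = (x ^ (i : ℕ)).mulVec u := fun i => by
    rw [hbx, coe_basisOfLinearIndependentOfCardEqFinrank']
  have hbyi : ∀ i : Fin n, by' i = (y ^ (i : ℕ)).mulVec w := fun i => by
    rw [hby, coe_basisOfLinearIndependentOfCardEqFinrank']
  obtain ⟨Qx, hQx⟩ := exists_gl_of_basis bx
  obtain ⟨Qy, hQy⟩ := exists_gl_of_basis by'
  set QI : Matrix (Fin n) (Fin n) F := ((Qy⁻¹ : GL (Fin n) F) : Matrix (Fin n) (Fin n) F) with hQI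
  have hQIQ : QI * (Qy : Matrix (Fin n) (Fin n) F) = 1 := by
    have : ((Qy⁻¹ * Qy : GL (Fin n) F) : Matrix (Fin n) (Fin n) F) = 1 := by
      rw [inv_mul_cancel, Units.val_one]
    exact this
  obtain ⟨R, hR⟩ : ∃ R : Matrix (Fin n) (Fin n) F, R = (Qx : Matrix (Fin n) (Fin n) F) * QI := ⟨_, rfl⟩
  have hRb : ∀ i, R.mulVec (by' i) = bx i := by
    intro i
    rw [← hQy, Matrix.mulVec_mulVec, hR, mul_assoc, hQIQ, mul_one, hQx]
  have hRdet : R.det ≠ 0 := by
    intro h0
    have h1 : (R * (Qy : Matrix (Fin n) (Fin n) F)).det = (Qx : Matrix (Fin n) (Fin n) F).det := by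
      rw [hR, mul_assoc, hQIQ, mul_one]
    rw [Matrix.det_mul, h0, zero_mul] at h1
    exact (Matrix.isUnits_det_units Qx).ne_zero h1.symm
  have hxR : x * R = R * y := by
    apply Matrix.toLin'.injective
    apply by'.ext
    intro i
    have hL : (x * R).mulVec (by' i) = (x ^ ((i : ℕ) + 1)).mulVec u := by
      rw [← Matrix.mulVec_mulVec, hRb, hbxi, Matrix.mulVec_mulVec, ← pow_succ']
    have hR' : (R * y).mulVec (by' i) = R.mulVec ((y ^ ((i : ℕ) + 1)).mulVec w) := by
      rw [hbyi, ← Matrix.mulVec_mulVec, pow_succ', ← Matrix.mulVec_mulVec _ y]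
    rw [Matrix.toLin'_apply, Matrix.toLin'_apply, hL, hR']
    by_cases hi : (i : ℕ) + 1 < n
    · have h1 := hRb ⟨(i : ℕ) + 1, hi⟩
      rw [hbxi, hbyi] at h1
      exact h1.symm
    · have hi' : (i : ℕ) + 1 = n := by
        have := i.2
        omega
      have h1 := hRb ⟨0, hn⟩
      rw [hbxi, hbyi] at h1
      simp only [pow_zero, Matrix.one_mulVec] at h1
      rw [hi', hx, hy, Matrix.one_mulVec, Matrix.one_mulVec, h1]
  obtain ⟨C, hC, hCd⟩ := exists_commutant_det hn0 y hy w hw (R.det)⁻¹
  have hdet : (R * C).det = 1 := by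
    rw [Matrix.det_mul, hCd, mul_inv_cancel₀ hRdet]
  refine ⟨⟨R * C, hdet⟩, ?_⟩
  show x * (R * C) = (R * C) * y
  rw [← mul_assoc, hxR, mul_assoc, mul_assoc, hC]

end Conj

end Cfsg.Agent.H29
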