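/-
Field subalgebras of degree `n` of the `n × n` matrices: the Frobenius map on `F ^ n`, elements of the
normaliser have no annihilators of degree less than `n`.
-/
import Cfsg.Agent.Lib.H29.CycVec
import Cfsg.Prelude.Def_GeometricClasses

set_option autoImplicit false

open scoped MatrixGroups

namespace Cfsg.Agent.H29

open Polynomial Module

section Fld

variable {F : Type*} [Field F] {n k : ℕ} {K : Subalgebra F (Matrix (Fin n) (Fin n) F)}

theorem fld_mulVec_eq_zero (hK : Cfsg.Geo.IsFieldSubalgebra k K) {r : Matrix (Fin n) (Fin n) F}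
    (hr : r ∈ K) (h0 : r ≠ 0) {v : Fin n → F} (hv : r.mulVec v = 0) : v = 0 := by
  obtain ⟨y, hy, hry⟩ := hK.inv r hr h0
  have h1 : y * r = 1 := by rw [hK.comm y hy r hr, hry]
  have h2 : (y * r).mulVec v = y.mulVec (r.mulVec v) := by rw [Matrix.mulVec_mulVec]
  rw [h1, Matrix.one_mulVec, hv, Matrix.mulVec_zero] at h2
  exact h2

theorem fld_eq_of_mulVec (hK : Cfsg.Geo.IsFieldSubalgebra k K) {a b : Matrix (Fin n) (Fin n) F}
    (ha : a ∈ K) (hb : b ∈ K) {v : Fin n → F} (hv : v ≠ 0) (hab : a.mulVec v = b.mulVec v) : a = b := by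
  by_contra hne
  apply hv
  apply fld_mulVec_eq_zero hK (K.sub_mem ha hb) (sub_ne_zero.2 hne)
  rw [Matrix.sub_mulVec, hab, sub_self]

theorem fld_eq_zero_or (hK : Cfsg.Geo.IsFieldSubalgebra k K) {x y : Matrix (Fin n) (Fin n) F} (hx : x ∈ K)
    (hxy : x * y = 0) : x = 0 ∨ y = 0 := by
  by_cases h : x = 0
  · exact Or.inl h
  · right
    obtain ⟨w, hw, hxw⟩ := hK.inv x hx h
    have h1 : w * x = 1 := by rw [hK.comm w hw x hx, hxw]
    calc y = (w * x) * y := by rw [h1, one_mul]
      _ = 0 := by rw [mul_assoc, hxy, mul_zero]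

theorem fld_exists_mulVec [Finite F] (hK : Cfsg.Geo.IsFieldSubalgebra n K) {v₀ : Fin n → F} (h0 : v₀ ≠ 0)
    (v : Fin n → F) : ∃ a ∈ K, a.mulVec v₀ = v := by
  let L : K →ₗ[F] (Fin n → F) :=
    { toFun := fun a => (a : Matrix (Fin n) (Fin n) F).mulVec v₀
      map_add' := fun a b => by simp [Matrix.add_mulVec]
      map_smul' := fun c a => by simp [Matrix.smul_mulVec] }
  have hinj : Function.Injective L := by
    intro a b hab
    exact Subtype.ext (fld_eq_of_mulVec hK a.2 b.2 h0 hab)
  have hsurj : Function.Surjective L :=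
    (LinearMap.injective_iff_surjective_of_finrank_eq_finrank (by
      rw [hK.finrank_eq, Module.finrank_fin_fun])).1 hinj
  obtain ⟨a, ha⟩ := hsurj v
  exact ⟨a, a.2, ha⟩

/-- The field structure on `K`. -/
@[reducible] noncomputable def fldField (hK : Cfsg.Geo.IsFieldSubalgebra k K) (hn : n ≠ 0) : Field K :=
  haveI : Nonempty (Fin n) := ⟨⟨0, Nat.pos_of_ne_zero hn⟩⟩
  IsField.toField
    { exists_pair_ne := ⟨0, 1, fun h => by
        have h1 : (0 : Matrix (Fin n) (Fin n) F) = 1 := congrArg Subtype.val h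
        exact zero_ne_one h1⟩
      mul_comm := fun a b => Subtype.ext (hK.comm a a.2 b b.2)
      mul_inv_cancel := fun {a} ha => by
        obtain ⟨y, hy, hay⟩ := hK.inv a a.2 (fun h => ha (Subtype.ext h))
        exact ⟨⟨y, hy⟩, Subtype.ext hay⟩ }

theorem dedekind_aux {L : Type*} [Field L] {m : ℕ} (τ : Fin m → (L →* L)) (hτ : Function.Injective τ)
    (c : Fin m → L) (h : ∀ a, ∑ j, c j * τ j a = 0) : ∀ j, c j = 0 := by
  have hli := (linearIndependent_monoidHom L L).comp τ hτ
  rw [Fintype.linearIndependent_iff] at hli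
  apply hli
  ext a
  simpa using h a

theorem fld_pow_card [Fintype F] {q : ℕ} (hq : Fintype.card F = q) (hK : Cfsg.Geo.IsFieldSubalgebra n K)
    (hn : n ≠ 0) {a : Matrix (Fin n) (Fin n) F} (ha : a ∈ K) : a ^ (q ^ n) = a := by
  classical
  letI := fldField hK hn
  haveI : Finite K := Subtype.finite
  letI : Fintype K := Fintype.ofFinite K
  have hcard : Fintype.card K = q ^ n := by
    rw [Module.card_eq_pow_finrank (K := F) (V := K), hK.finrank_eq, hq]
  have h1 := FiniteField.pow_card (⟨a, ha⟩ : K)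
  rw [hcard] at h1
  exact congrArg Subtype.val h1

theorem fld_dedekind (hK : Cfsg.Geo.IsFieldSubalgebra k K) (hn : n ≠ 0) {m : ℕ} (τ : Fin m → (K →* K))
    (hτ : Function.Injective τ) (c : Fin m → K) (h : ∀ a, ∑ j, c j * τ j a = 0) : ∀ j, c j = 0 := by
  letI := fldField hK hn
  exact dedekind_aux τ hτ c h

theorem fld_aeval_mem {y : Matrix (Fin n) (Fin n) F} (hy : y ∈ K) (f : F[X]) : Polynomial.aeval y f ∈ K := by
  have h1 := Polynomial.aeval_subalgebra_coe f K (⟨y, hy⟩ : K)
  have h2 : ((Polynomial.aeval (⟨y, hy⟩ : K) f : K) : Matrix (Fin n) (Fin n) F) ∈ K := (Polynomial.aeval (⟨y, hy⟩ : K) f).2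
  rw [h1] at h2
  exact h2

theorem aeval_toLin' (x : Matrix (Fin n) (Fin n) F) (f : F[X]) :
    Polynomial.aeval (Matrix.toLin' x) f = Matrix.toLin' (Polynomial.aeval x f) := by
  have h := Polynomial.aeval_algHom_apply (Matrix.toLinAlgEquiv' (R := F) (n := Fin n)).toAlgHom x f
  exact h

/-- Non-scalar elements of a field subalgebra of prime degree `n` have no annihilator of degree
less than `n`. -/
theorem fld_le_natDegree (hnp : n.Prime) (hK : Cfsg.Geo.IsFieldSubalgebra n K) {y : Matrix (Fin n) (Fin n) F}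
    (hy : y ∈ K) (hns : ∀ c : F, y ≠ c • (1 : Matrix (Fin n) (Fin n) F)) (g : F[X]) (hg0 : g ≠ 0)
    (hg : Polynomial.aeval y g = 0) : n ≤ g.natDegree := by
  classical
  haveI : Nonempty (Fin n) := ⟨⟨0, hnp.pos⟩⟩
  have hint : IsIntegral F y := IsIntegral.of_finite F y
  set m := minpoly F y with hm
  have hmm : m.Monic := minpoly.monic hint
  have hm0 : Polynomial.aeval y m = 0 := minpoly.aeval F y
  have hirr : Irreducible m := by
    rw [hmm.irreducible_iff_natDegree]
    refine ⟨minpoly.ne_one F y, fun f₁ f₂ hf₁ hf₂ h12 => ?_⟩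
    have h1 : Polynomial.aeval y f₁ * Polynomial.aeval y f₂ = 0 := by
      rw [← map_mul, h12, hm0]
    rcases fld_eq_zero_or hK (fld_aeval_mem hy f₁) h1 with h2 | h2
    · right
      have h3 := natDegree_le_of_dvd (show m ∣ f₁ from minpoly.dvd F y h2) hf₁.ne_zero
      have h4 := congrArg natDegree h12
      rw [hf₁.natDegree_mul hf₂] at h4
      omega
    · left
      have h3 := natDegree_le_of_dvd (show m ∣ f₂ from minpoly.dvd F y h2) hf₂.ne_zero
      have h4 := congrArg natDegree h12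
      rw [hf₁.natDegree_mul hf₂] at h4
      omega
  have hd : m.natDegree ∣ finrank F (⊤ : Submodule F (Fin n → F)) := by
    apply dvd_finrank_of_aeval_zero (Matrix.toLin' y) m m.natDegree _ (tStable_top _) hmm.ne_zero
    · intro v _
      rw [aeval_toLin', hm0]
      simp
    · intro g' hg' hdvd
      rw [natDegree_of_dvd_irreducible _ _ hirr hg' hdvd]
  rw [finrank_top, Module.finrank_fin_fun] at hd
  rcases (Nat.dvd_prime hnp).1 hd with h1 | h1
  · exfalso
    have h2 := hmm.eq_X_add_C h1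
    apply hns (-(m.coeff 0))
    rw [h2] at hm0
    simp only [map_add, aeval_X, aeval_C] at hm0
    rw [neg_smul, eq_neg_iff_add_eq_zero, ← hm0]
    simp [Algebra.algebraMap_eq_smul_one]
  · rw [← h1]
    exact natDegree_le_of_dvd (minpoly.dvd F y hg) hg0

end Fld

section Frob

variable {F : Type*} [Field F] [Fintype F] {q n : ℕ}
  {K : Subalgebra F (Matrix (Fin n) (Fin n) F)}

/-- If conjugation by `g` preserves `K`, then `g` normalises `K`. -/
theorem mem_normalizer_of_forall (g : GL (Fin n) F)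
    (h : ∀ a ∈ K, (g : Matrix (Fin n) (Fin n) F) * a * ((g⁻¹ : GL (Fin n) F) : Matrix (Fin n) (Fin n) F) ∈ K) :
    g ∈ Cfsg.Geo.subalgebraNormalizer K := by
  classical
  set G : Matrix (Fin n) (Fin n) F := (g : Matrix (Fin n) (Fin n) F) with hG
  set GI : Matrix (Fin n) (Fin n) F := ((g⁻¹ : GL (Fin n) F) : Matrix (Fin n) (Fin n) F) with hGI
  have hGIG : GI * G = 1 := by
    have : ((g⁻¹ * g : GL (Fin n) F) : Matrix (Fin n) (Fin n) F) = 1 := by
      rw [inv_mul_cancel, Units.val_one]
    exact this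
  intro k
  refine ⟨fun hk => h k hk, fun hk => ?_⟩
  haveI : Finite K := Subtype.finite
  let f : K → K := fun a => ⟨G * a * GI, h a a.2⟩
  have hinj : Function.Injective f := by
    intro a b hab
    have h1 : G * (a : Matrix (Fin n) (Fin n) F) * GI = G * b * GI := congrArg Subtype.val hab
    apply Subtype.ext
    calc (a : Matrix (Fin n) (Fin n) F) = GI * (G * a * GI) * G := by
          calc (a : Matrix (Fin n) (Fin n) F) = (GI * G) * a * (GI * G) := by rw [hGIG, one_mul, mul_one]
            _ = _ := by simp only [mul_assoc]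
      _ = GI * (G * b * GI) * G := by rw [h1]
      _ = (GI * G) * b * (GI * G) := by simp only [mul_assoc]
      _ = b := by rw [hGIG, one_mul, mul_one]
  obtain ⟨a, ha⟩ := (Finite.injective_iff_surjective.1 hinj) ⟨G * k * GI, hk⟩
  have h1 : G * (a : Matrix (Fin n) (Fin n) F) * GI = G * k * GI := congrArg Subtype.val ha
  have h2 : k = a := by
    calc k = (GI * G) * k * (GI * G) := by rw [hGIG, one_mul, mul_one]
      _ = GI * (G * k * GI) * G := by simp only [mul_assoc]
      _ = GI * (G * a * GI) * G := by rw [h1]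
      _ = (GI * G) * a * (GI * G) := by simp only [mul_assoc]
      _ = a := by rw [hGIG, one_mul, mul_one]
  rw [h2]
  exact a.2

/-- The Frobenius map on `F ^ n`. -/
theorem exists_frobenius (hq : Fintype.card F = q) (hn : 2 ≤ n) (hK : Cfsg.Geo.IsFieldSubalgebra n K) :
    ∃ φ : GL (Fin n) F, (∀ a ∈ K, (φ : Matrix (Fin n) (Fin n) F) * a = a ^ q * φ) ∧
      (φ : Matrix (Fin n) (Fin n) F) ^ n = 1 ∧ ∀ c : F, (φ : Matrix (Fin n) (Fin n) F) ≠ c • 1 := by
  classical
  have hn0 : n ≠ 0 := by omega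
  haveI : Nonempty (Fin n) := ⟨⟨0, by omega⟩⟩
  obtain ⟨p, hchar⟩ := CharP.exists F
  haveI : Fact p.Prime := ⟨CharP.char_is_prime F p⟩
  haveI : CharP (Matrix (Fin n) (Fin n) F) p := Matrix.charP p
  obtain ⟨f, hf, hqf⟩ := card_eq_pow_char (p := p) hq
  have hq2 := two_le_card hq
  have hfr_add : ∀ a ∈ K, ∀ b ∈ K, (a + b) ^ q = a ^ q + b ^ q := by
    intro a ha b hb
    rw [hqf]
    exact add_pow_char_pow_of_commute p f (hK.comm a ha b hb)
  let i₀ : Fin n := ⟨0, by omega⟩
  set v₀ : Fin n → F := Pi.single i₀ 1 with hv₀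
  have hv₀0 : v₀ ≠ 0 := by
    intro h
    have := congrFun h i₀
    simp [hv₀] at this
  choose pre hpreK hpre using fld_exists_mulVec hK hv₀0
  have hpre_of : ∀ b ∈ K, pre (b.mulVec v₀) = b := fun b hb =>
    fld_eq_of_mulVec hK (hpreK _) hb hv₀0 (hpre _)
  let T : (Fin n → F) →ₗ[F] (Fin n → F) :=
    { toFun := fun v => ((pre v) ^ q).mulVec v₀
      map_add' := fun v w => by
        have h1 : pre (v + w) = pre v + pre w := by
          apply fld_eq_of_mulVec hK (hpreK _) (K.add_mem (hpreK _) (hpreK _)) hv₀0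
          rw [hpre, Matrix.add_mulVec, hpre, hpre]
        rw [h1, hfr_add _ (hpreK _) _ (hpreK _), Matrix.add_mulVec]
      map_smul' := fun c v => by
        have h1 : pre (c • v) = c • pre v := by
          apply fld_eq_of_mulVec hK (hpreK _) (K.smul_mem (hpreK _) _) hv₀0
          rw [hpre, Matrix.smul_mulVec, hpre]
        rw [h1, _root_.smul_pow, Matrix.smul_mulVec]
        have h2 : c ^ q = c := by
          rw [← hq]
          exact FiniteField.pow_card c
        rw [h2]
        rfl }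
  set M : Matrix (Fin n) (Fin n) F := LinearMap.toMatrix' T with hM
  have hMv : ∀ v, M.mulVec v = ((pre v) ^ q).mulVec v₀ := by
    intro v
    rw [hM, LinearMap.toMatrix'_mulVec]
    rfl
  have hMb : ∀ b ∈ K, M.mulVec (b.mulVec v₀) = (b ^ q).mulVec v₀ := by
    intro b hb
    rw [hMv, hpre_of b hb]
  have hMa : ∀ a ∈ K, M * a = a ^ q * M := by
    intro a ha
    apply Matrix.toLin'.injective
    apply LinearMap.ext
    intro v
    rw [Matrix.toLin'_apply, Matrix.toLin'_apply, ← hpre v]
    set b := pre v with hb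
    have hbK : b ∈ K := hpreK v
    have hL : (M * a).mulVec (b.mulVec v₀) = ((a * b) ^ q).mulVec v₀ := by
      rw [← Matrix.mulVec_mulVec, Matrix.mulVec_mulVec v₀ a b, hMb _ (K.mul_mem ha hbK)]
    have hR : (a ^ q * M).mulVec (b.mulVec v₀) = (a ^ q * b ^ q).mulVec v₀ := by
      rw [← Matrix.mulVec_mulVec, hMb _ hbK, Matrix.mulVec_mulVec]
    rw [hL, hR, (show Commute a b from hK.comm a ha b hbK).mul_pow]
  have hMj : ∀ j : ℕ, ∀ b ∈ K, (M ^ j).mulVec (b.mulVec v₀) = (b ^ (q ^ j)).mulVec v₀ := by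
    intro j
    induction j with
    | zero =>
      intro b hb
      simp
    | succ j ih =>
      intro b hb
      rw [pow_succ', ← Matrix.mulVec_mulVec, ih b hb, hMb _ (K.pow_mem hb _), ← pow_mul, ← pow_succ]
  have hMn : M ^ n = 1 := by
    apply matrix_ext_single
    intro i
    rw [Matrix.one_mulVec]
    have h1 := hpre (Pi.single i 1)
    rw [← h1, hMj n _ (hpreK _), fld_pow_card hq hK hn0 (hpreK _)]
  refine ⟨⟨M, M ^ (n - 1), ?_, ?_⟩, hMa, hMn, ?_⟩
  · rw [← pow_succ', show n - 1 + 1 = n by omega, hMn]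
  · rw [← pow_succ, show n - 1 + 1 = n by omega, hMn]
  · intro c hc
    have hc' : M = c • 1 := hc
    have h1 := hMb 1 K.one_mem
    rw [hc', Matrix.one_mulVec, one_pow, Matrix.one_mulVec, Matrix.smul_mulVec, Matrix.one_mulVec] at h1
    have hc1 : c = 1 := by
      have h2 := congrFun h1 i₀
      simpa [hv₀] using h2
    have hfix : ∀ b ∈ K, b ^ q = b := by
      intro b hb
      apply fld_eq_of_mulVec hK (K.pow_mem hb _) hb hv₀0
      rw [← hMb b hb, hc', hc1, one_smul, Matrix.one_mulVec]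
    letI := fldField hK hn0
    haveI : Finite K := Subtype.finite
    letI : Fintype K := Fintype.ofFinite K
    have hcard : Fintype.card K = q ^ n := by
      rw [Module.card_eq_pow_finrank (K := F) (V := K), hK.finrank_eq, hq]
    have hle := Polynomial.card_le_degree_of_subset_roots (p := (X ^ q - X : K[X])) (Z := Finset.univ) (by
      intro a _
      rw [mem_roots (FiniteField.X_pow_card_sub_X_ne_zero K (by omega))]
      simp only [IsRoot.def, eval_sub, eval_pow, eval_X]
      rw [sub_eq_zero]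
      exact Subtype.ext (hfix a a.2))
    rw [FiniteField.X_pow_card_sub_X_natDegree_eq K (by omega), Finset.card_univ, hcard] at hle
    have h3 : q ^ 2 ≤ q ^ n := Nat.pow_le_pow_right (by omega) hn
    nlinarith

/-- Elements of the normaliser of `K` whose `n`-th power is scalar and which are not scalar have no
annihilators of degree less than `n`, the prime degree of `K`. -/
theorem no_small_annihilator (hnp : n.Prime) (hK : Cfsg.Geo.IsFieldSubalgebra n K) (y : GL (Fin n) F)
    (hy : y ∈ Cfsg.Geo.subalgebraNormalizer K) (z : F)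
    (hyn : (y : Matrix (Fin n) (Fin n) F) ^ n = z • 1)
    (hns : ∀ c : F, (y : Matrix (Fin n) (Fin n) F) ≠ c • 1) (g : F[X])
    (hg : Polynomial.aeval (y : Matrix (Fin n) (Fin n) F) g = 0) (hd : g.natDegree < n) : g = 0 := by
  classical
  have hn0 := hnp.ne_zero
  haveI : Nonempty (Fin n) := ⟨⟨0, hnp.pos⟩⟩
  haveI : Fact n.Prime := ⟨hnp⟩
  obtain ⟨Y, hY⟩ : ∃ Y : Matrix (Fin n) (Fin n) F, Y = (y : Matrix (Fin n) (Fin n) F) := ⟨_, rfl⟩
  obtain ⟨YI, hYI⟩ : ∃ YI : Matrix (Fin n) (Fin n) F, YI = ((y⁻¹ : GL (Fin n) F) : Matrix (Fin n) (Fin n) F) := ⟨_, rfl⟩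
  have hYIY : YI * Y = 1 := by
    have : ((y⁻¹ * y : GL (Fin n) F) : Matrix (Fin n) (Fin n) F) = 1 := by
      rw [inv_mul_cancel, Units.val_one]
    rw [hY, hYI]
    exact this
  have hYYI : Y * YI = 1 := mul_eq_one_comm.1 hYIY
  have hy' : y⁻¹ ∈ Cfsg.Geo.subalgebraNormalizer K := inv_mem hy
  have hconj : ∀ a ∈ K, Y * a * YI ∈ K := by
    intro a ha
    rw [hY, hYI]
    exact (hy a).1 ha
  have hconj' : ∀ a ∈ K, YI * a * Y ∈ K := by
    intro a ha
    have h1 := (hy' a).1 ha
    rw [inv_inv] at h1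
    rw [hY, hYI]
    exact h1
  rw [← hY] at hyn hg
  have hns' : ∀ c : F, Y ≠ c • 1 := by
    rw [hY]
    exact hns
  by_contra hg0
  let i₀ : Fin n := ⟨0, hnp.pos⟩
  set v₀ : Fin n → F := Pi.single i₀ 1 with hv₀
  have hv₀0 : v₀ ≠ 0 := by
    intro h
    have := congrFun h i₀
    simp [hv₀] at this
  by_cases hτ : ∃ a ∈ K, Y * a ≠ a * Y
  · obtain ⟨a₁, ha₁, ha₁Y⟩ := hτ
    let τ : MulAut K :=
      { toFun := fun a => ⟨Y * a * YI, hconj a a.2⟩
        invFun := fun a => ⟨YI * a * Y, hconj' a a.2⟩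
        left_inv := fun a => by
          apply Subtype.ext
          show YI * (Y * a * YI) * Y = a
          calc YI * (Y * a * YI) * Y = (YI * Y) * a * (YI * Y) := by simp only [mul_assoc]
            _ = a := by rw [hYIY, one_mul, mul_one]
        right_inv := fun a => by
          apply Subtype.ext
          show Y * (YI * a * Y) * YI = a
          calc Y * (YI * a * Y) * YI = (Y * YI) * a * (Y * YI) := by simp only [mul_assoc]
            _ = a := by rw [hYYI, one_mul, mul_one]
        map_mul' := fun a b => by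
          apply Subtype.ext
          show Y * (a * b) * YI = (Y * a * YI) * (Y * b * YI)
          calc Y * ((a : Matrix (Fin n) (Fin n) F) * b) * YI = Y * a * (YI * Y) * b * YI := by
                rw [hYIY, mul_one]; simp only [mul_assoc]
            _ = (Y * a * YI) * (Y * b * YI) := by simp only [mul_assoc] }
    have hτa : ∀ a : K, ((τ a : K) : Matrix (Fin n) (Fin n) F) * Y = Y * a := by
      intro a
      show (Y * a * YI) * Y = Y * a
      rw [mul_assoc, hYIY, mul_one]
    have hform : ∀ (j : ℕ) (a : K), (((τ ^ j) a : K) : Matrix (Fin n) (Fin n) F) * Y ^ j = Y ^ j * a := by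
      intro j
      induction j with
      | zero =>
        intro a
        simp
      | succ j ih =>
        intro a
        have h1 : (τ ^ (j + 1)) a = τ ((τ ^ j) a) := by
          rw [pow_succ']
          rfl
        rw [h1, pow_succ', ← mul_assoc, hτa, mul_assoc, ih, ← mul_assoc]
    have hz0 : z ≠ 0 := by
      rintro rfl
      have h1 := congrArg Matrix.det hyn
      rw [zero_smul, Matrix.det_zero, Matrix.det_pow] at h1
      have h2 : Y.det * YI.det = 1 := by
        rw [← Matrix.det_mul, hYYI, Matrix.det_one]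
      have h3 : Y.det ≠ 0 := left_ne_zero_of_mul_eq_one h2
      exact pow_ne_zero _ h3 h1
    have hτn : τ ^ n = 1 := by
      ext a
      have h1 := hform n a
      rw [hyn, Matrix.mul_smul, Matrix.smul_mul, mul_one, one_mul] at h1
      have h2 := smul_right_injective _ hz0 h1
      rw [MulAut.one_apply]
      exact congrFun (congrFun h2 _) _
    have hτ1 : τ ≠ 1 := by
      intro h
      apply ha₁Y
      have h1 := hτa ⟨a₁, ha₁⟩
      rw [h, MulAut.one_apply] at h1
      exact h1.symm
    have hord : orderOf τ = n := orderOf_eq_prime hτn hτ1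
    have hinj : Function.Injective (fun j : Fin n => ((τ ^ (j : ℕ) : MulAut K) : K ≃* K).toMonoidHom) := by
      intro i j hij
      have h1 : (τ ^ (i : ℕ) : MulAut K) = τ ^ (j : ℕ) := MulEquiv.toMonoidHom_injective hij
      have h2 := pow_injOn_Iio_orderOf (x := τ) (by rw [Set.mem_Iio, hord]; exact i.2)
        (by rw [Set.mem_Iio, hord]; exact j.2) h1
      exact Fin.ext h2
    choose c hcK hc using fun j : Fin n => fld_exists_mulVec hK hv₀0 ((Y ^ (j : ℕ)).mulVec v₀)
    have hc0 : ∀ j, c j ≠ 0 := by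
      intro j h0
      have h1 := hc j
      rw [h0, Matrix.zero_mulVec] at h1
      apply hv₀0
      have h2 : (YI ^ (j : ℕ) * Y ^ (j : ℕ)) = 1 := by
        have : Commute YI Y := by
          show YI * Y = Y * YI
          rw [hYIY, hYYI]
        rw [← this.mul_pow, hYIY, one_pow]
      have h3 : (YI ^ (j : ℕ)).mulVec ((Y ^ (j : ℕ)).mulVec v₀) = v₀ := by
        rw [Matrix.mulVec_mulVec, h2, Matrix.one_mulVec]
      rw [← h3, ← h1, Matrix.mulVec_zero]
    have hded := fld_dedekind hK hn0 _ hinj (fun j => g.coeff (j : ℕ) • (⟨c j, hcK j⟩ : K)) (by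
      intro a
      apply Subtype.ext
      refine fld_eq_of_mulVec hK (SetLike.coe_mem _) K.zero_mem hv₀0 ?_
      have hterm : ∀ j : Fin n, (g.coeff (j : ℕ) • c j * (((τ ^ (j : ℕ)) a : K) : Matrix (Fin n) (Fin n) F)).mulVec v₀ =
          (g.coeff (j : ℕ) • Y ^ (j : ℕ) * a).mulVec v₀ := by
        intro j
        rw [Matrix.smul_mul, Matrix.smul_mul, Matrix.smul_mulVec, Matrix.smul_mulVec,
          hK.comm _ (hcK j) _ (SetLike.coe_mem _), ← Matrix.mulVec_mulVec, hc j, Matrix.mulVec_mulVec, hform j a]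
      have hsum : ((∑ j : Fin n, (g.coeff (j : ℕ) • (⟨c j, hcK j⟩ : K)) *
          ((τ ^ (j : ℕ) : MulAut K) : K ≃* K).toMonoidHom a : K) : Matrix (Fin n) (Fin n) F) =
          ∑ j : Fin n, g.coeff (j : ℕ) • c j * (((τ ^ (j : ℕ)) a : K) : Matrix (Fin n) (Fin n) F) := by
        rw [AddSubmonoidClass.coe_finsetSum]
        rfl
      rw [hsum, Matrix.sum_mulVec, Finset.sum_congr rfl (fun j _ => hterm j), ← Matrix.sum_mulVec, ← Finset.sum_mul,
        ← Finset.sum_range (fun i => g.coeff i • Y ^ i), ← aeval_eq_sum_range' hd, hg, zero_mul]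
      rfl)
    apply hg0
    ext i
    by_cases hi : i < n
    · have h1 := hded ⟨i, hi⟩
      simp only at h1
      rcases smul_eq_zero.1 h1 with h2 | h2
      · rw [h2, coeff_zero]
      · exact absurd (congrArg Subtype.val h2) (hc0 _)
    · rw [coeff_zero]
      exact coeff_eq_zero_of_natDegree_lt (by omega)
  · push Not at hτ
    obtain ⟨c, hcK, hc⟩ := fld_exists_mulVec hK hv₀0 (Y.mulVec v₀)
    have hYc : Y = c := by
      apply matrix_ext_single
      intro i
      obtain ⟨b, hbK, hb⟩ := fld_exists_mulVec hK hv₀0 (Pi.single i 1)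
      rw [← hb, Matrix.mulVec_mulVec, Matrix.mulVec_mulVec, hτ b hbK, hK.comm c hcK b hbK, ← Matrix.mulVec_mulVec,
        ← Matrix.mulVec_mulVec, hc]
    have hle := fld_le_natDegree hnp hK (hYc ▸ hcK) hns' g hg0 hg
    omega

/-- Multiples of maps with a cyclic vector and `n`-th power one are conjugate into the normaliser. -/
theorem exists_conj_into_normalizer (hq : Fintype.card F = q) (hnp : n.Prime)
    (hK : Cfsg.Geo.IsFieldSubalgebra n K) (hn0 : (n : F) ≠ 0) (x : Matrix.SpecialLinearGroup (Fin n) F)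
    (b : F) (Y : Matrix (Fin n) (Fin n) F) (hxY : (x : Matrix (Fin n) (Fin n) F) = b • Y) (hYn : Y ^ n = 1)
    (hYno : ∀ h : F[X], h ≠ 0 → h.natDegree < n → Polynomial.aeval (Matrix.toLin' Y) h ≠ 0) :
    ∃ P : Matrix.SpecialLinearGroup (Fin n) F, P⁻¹ * x * P ∈ (Cfsg.Geo.subalgebraNormalizer K).comap
      (Matrix.SpecialLinearGroup.toGL : Matrix.SpecialLinearGroup (Fin n) F →* GL (Fin n) F) := by
  classical
  obtain ⟨φ, hφa, hφn, hφns⟩ := exists_frobenius hq hnp.two_le hK
  set Φ : Matrix (Fin n) (Fin n) F := (φ : Matrix (Fin n) (Fin n) F) with hΦ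
  have hφφ : Φ * ((φ⁻¹ : GL (Fin n) F) : Matrix (Fin n) (Fin n) F) = 1 := by
    have : ((φ * φ⁻¹ : GL (Fin n) F) : Matrix (Fin n) (Fin n) F) = 1 := by
      rw [mul_inv_cancel, Units.val_one]
    exact this
  have hφN : φ ∈ Cfsg.Geo.subalgebraNormalizer K := by
    apply mem_normalizer_of_forall
    intro a ha
    rw [← hΦ, hφa a ha, mul_assoc, hφφ, mul_one]
    exact K.pow_mem ha _
  have hφno : ∀ h : F[X], h ≠ 0 → h.natDegree < n → Polynomial.aeval (Matrix.toLin' Φ) h ≠ 0 := by
    intro h h0 hd hz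
    apply h0
    apply no_small_annihilator hnp hK φ hφN 1 (by rw [hφn, one_smul]) hφns h _ hd
    rw [aeval_toLin'] at hz
    exact Matrix.toLin'.injective (by rw [hz, map_zero])
  have hT : ∀ A : Matrix (Fin n) (Fin n) F, A ^ n = 1 → (Matrix.toLin' A) ^ n = 1 := by
    intro A hA
    rw [← toLin'_pow_eq, hA]
    ext v
    simp
  obtain ⟨u, hu⟩ := exists_cyclic_vector (Matrix.toLin' Y) n hn0 (hT Y hYn) hYno
  obtain ⟨w, hw⟩ := exists_cyclic_vector (Matrix.toLin' Φ) n hn0 (hT Φ hφn) hφno
  have hu' : LinearIndependent F (fun i : Fin n => (Y ^ (i : ℕ)).mulVec u) := by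
    have h1 : (fun i : Fin n => (Y ^ (i : ℕ)).mulVec u) = fun i : Fin n => ((Matrix.toLin' Y) ^ (i : ℕ)) u := by
      funext i
      rw [← toLin'_pow_eq, Matrix.toLin'_apply]
    rw [h1]
    exact hu
  have hw' : LinearIndependent F (fun i : Fin n => (Φ ^ (i : ℕ)).mulVec w) := by
    have h1 : (fun i : Fin n => (Φ ^ (i : ℕ)).mulVec w) = fun i : Fin n => ((Matrix.toLin' Φ) ^ (i : ℕ)) w := by
      funext i
      rw [← toLin'_pow_eq, Matrix.toLin'_apply]
    rw [h1]
    exact hw
  obtain ⟨P, hP⟩ := exists_sl_conj_cyclic hn0 Y Φ hYn hφn u w hu' hw'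
  refine ⟨P, ?_⟩
  set g : GL (Fin n) F := Matrix.SpecialLinearGroup.toGL (P⁻¹ * x * P) with hg
  show g ∈ Cfsg.Geo.subalgebraNormalizer K
  have hgm : (g : Matrix (Fin n) (Fin n) F) = b • Φ := by
    have h1 : (g : Matrix (Fin n) (Fin n) F) = ((P⁻¹ : Matrix.SpecialLinearGroup (Fin n) F) : Matrix (Fin n) (Fin n) F) *
        (x : Matrix (Fin n) (Fin n) F) * (P : Matrix (Fin n) (Fin n) F) := by
      rw [hg, Matrix.SpecialLinearGroup.coe_GL_coe_matrix, Matrix.SpecialLinearGroup.coe_mul,
        Matrix.SpecialLinearGroup.coe_mul]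
    have hPIP : ((P⁻¹ : Matrix.SpecialLinearGroup (Fin n) F) : Matrix (Fin n) (Fin n) F) * (P : Matrix (Fin n) (Fin n) F) = 1 := by
      rw [← Matrix.SpecialLinearGroup.coe_mul, inv_mul_cancel, Matrix.SpecialLinearGroup.coe_one]
    rw [h1, hxY, Matrix.mul_smul, Matrix.smul_mul, mul_assoc, hP, ← mul_assoc, hPIP, one_mul]
  have hgg : (g : Matrix (Fin n) (Fin n) F) * ((g⁻¹ : GL (Fin n) F) : Matrix (Fin n) (Fin n) F) = 1 := by
    have : ((g * g⁻¹ : GL (Fin n) F) : Matrix (Fin n) (Fin n) F) = 1 := by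
      rw [mul_inv_cancel, Units.val_one]
    exact this
  apply mem_normalizer_of_forall
  intro a ha
  have h1 : (g : Matrix (Fin n) (Fin n) F) * a = a ^ q * (g : Matrix (Fin n) (Fin n) F) := by
    rw [hgm, Matrix.smul_mul, Matrix.mul_smul, hφa a ha]
  rw [h1, mul_assoc, hgg, mul_one]
  exact K.pow_mem ha _

end Frob

section Conj

variable {F : Type*} [Field F] {n : ℕ}

theorem conj_pow_matrix {PI PM : Matrix (Fin n) (Fin n) F} (h : PM * PI = 1)
    (x : Matrix (Fin n) (Fin n) F) (m : ℕ) : (PI * x * PM) ^ m = if m = 0 then 1 else PI * x ^ m * PM := by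
  induction m with
  | zero => simp
  | succ m ih =>
    rw [if_neg (by omega), pow_succ, ih]
    split_ifs with hm
    · subst hm
      simp
    · calc PI * x ^ m * PM * (PI * x * PM) = PI * x ^ m * (PM * PI) * x * PM := by simp only [mul_assoc]
        _ = PI * x ^ (m + 1) * PM := by rw [h, mul_one, pow_succ]; simp only [mul_assoc]

theorem aeval_conj_matrix {PI PM : Matrix (Fin n) (Fin n) F} (h : PM * PI = 1) (h' : PI * PM = 1)
    (x : Matrix (Fin n) (Fin n) F) (g : F[X]) :
    Polynomial.aeval (PI * x * PM) g = PI * Polynomial.aeval x g * PM := by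
  induction g using Polynomial.induction_on' with
  | add p q hp hq =>
    rw [map_add, map_add, hp, hq, mul_add, add_mul]
  | monomial m a =>
    rw [aeval_monomial, aeval_monomial, conj_pow_matrix h]
    split_ifs with hm
    · subst hm
      simp [Algebra.algebraMap_eq_smul_one, h']
    · simp only [Algebra.algebraMap_eq_smul_one, Matrix.smul_mul, Matrix.mul_smul, one_mul]

theorem aeval_diagonal_eq [DecidableEq F] (D : Fin n → F) (g : F[X]) :
    Polynomial.aeval (Matrix.diagonal D) g = Matrix.diagonal (fun i => g.eval (D i)) := by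
  induction g using Polynomial.induction_on' with
  | add p q hp hq =>
    rw [map_add, hp, hq, Matrix.diagonal_add]
    simp
  | monomial m a =>
    rw [aeval_monomial, Matrix.diagonal_pow, Matrix.algebraMap_eq_diagonal, Matrix.diagonal_mul_diagonal]
    congr 1
    ext i
    simp

end Conj

end Cfsg.Agent.H29
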