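/-
Ranks of Kronecker products.
-/
import Cfsg.Agent.Lib.H29.NormSinger

set_option autoImplicit false

open scoped MatrixGroups Kronecker

namespace Cfsg.Agent.H29

open Module

section Rank

variable {F : Type*} [Field F] {a b : ℕ}

theorem rank_one_kronecker_diagonal [DecidableEq F] (w : Fin b → F) :
    ((1 : Matrix (Fin a) (Fin a) F) ⊗ₖ Matrix.diagonal w).rank = a * (Matrix.diagonal w).rank := by
  classical
  have h1 : (1 : Matrix (Fin a) (Fin a) F) ⊗ₖ Matrix.diagonal w =
      Matrix.diagonal (fun p : Fin a × Fin b => w p.2) := by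
    rw [← Matrix.diagonal_one, Matrix.diagonal_kronecker_diagonal]
    simp
  rw [h1, Matrix.rank_diagonal, Matrix.rank_diagonal]
  have h2 : {p : Fin a × Fin b // w p.2 ≠ 0} ≃ Fin a × {j : Fin b // w j ≠ 0} :=
    { toFun := fun p => (p.1.1, ⟨p.1.2, p.2⟩)
      invFun := fun q => ⟨(q.1, q.2.1), q.2.2⟩
      left_inv := fun p => rfl
      right_inv := fun q => rfl }
  rw [Fintype.card_congr h2, Fintype.card_prod, Fintype.card_fin]

/-- The rank of `1 ⊗ G`. -/
theorem rank_one_kronecker (G : Matrix (Fin b) (Fin b) F) :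
    ((1 : Matrix (Fin a) (Fin a) F) ⊗ₖ G).rank = a * G.rank := by
  classical
  obtain ⟨V, U, e, hV, hU, h⟩ := Matrix.exists_rank_normal_form G
  set w : Fin b → F := fun j => if (e j).isLeft then 1 else 0 with hw
  have hD : V * G * U = Matrix.diagonal w := by
    rw [h]
    ext i j
    rcases hei : e i with x | x <;> rcases hej : e j with y | y
    · simp only [Matrix.submatrix_apply, hei, hej, Matrix.fromBlocks_apply₁₁, Matrix.one_apply]
      by_cases hxy : x = y
      · subst hxy
        have : i = j := e.injective (hei.trans hej.symm)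
        subst this
        simp [hw, hei]
      · have hij : i ≠ j := by
          rintro rfl
          rw [hei] at hej
          exact hxy (Sum.inl.inj hej)
        simp [hxy, hij]
    · have hij : i ≠ j := by
        rintro rfl
        rw [hei] at hej
        simp at hej
      simp [hei, hej, hij]
    · have hij : i ≠ j := by
        rintro rfl
        rw [hei] at hej
        simp at hej
      simp [hei, hej, hij]
    · by_cases hij : i = j
      · subst hij
        simp [hw, hei]
      · simp [hei, hej, hij]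
  have hunit : ∀ W : Matrix (Fin b) (Fin b) F, IsUnit W → IsUnit ((1 : Matrix (Fin a) (Fin a) F) ⊗ₖ W) := by
    intro W hW
    obtain ⟨W', hW'⟩ := hW
    refine IsUnit.of_mul_eq_one ((1 : Matrix (Fin a) (Fin a) F) ⊗ₖ (W'⁻¹ : (Matrix (Fin b) (Fin b) F)ˣ)) ?_
    rw [← Matrix.mul_kronecker_mul, one_mul, ← hW', Units.mul_inv, Matrix.one_kronecker_one]
  have hk : ((1 : Matrix (Fin a) (Fin a) F) ⊗ₖ V) * ((1 : Matrix (Fin a) (Fin a) F) ⊗ₖ G) *
      ((1 : Matrix (Fin a) (Fin a) F) ⊗ₖ U) = (1 : Matrix (Fin a) (Fin a) F) ⊗ₖ Matrix.diagonal w := by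
    rw [← Matrix.mul_kronecker_mul, ← Matrix.mul_kronecker_mul, one_mul, one_mul, hD]
  have h1 : ((1 : Matrix (Fin a) (Fin a) F) ⊗ₖ G).rank = ((1 : Matrix (Fin a) (Fin a) F) ⊗ₖ Matrix.diagonal w).rank := by
    rw [← hk]
    have h2 := Matrix.rank_mul_eq_left_of_isUnit_det (((1 : Matrix (Fin a) (Fin a) F) ⊗ₖ U))
      (((1 : Matrix (Fin a) (Fin a) F) ⊗ₖ V) * ((1 : Matrix (Fin a) (Fin a) F) ⊗ₖ G))
      ((Matrix.isUnit_iff_isUnit_det _).1 (hunit U hU))
    have h3 := Matrix.rank_mul_eq_right_of_isUnit_det (((1 : Matrix (Fin a) (Fin a) F) ⊗ₖ V))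
      (((1 : Matrix (Fin a) (Fin a) F) ⊗ₖ G))
      ((Matrix.isUnit_iff_isUnit_det _).1 (hunit V hV))
    rw [h2, h3]
  have h2 : G.rank = (Matrix.diagonal w).rank := by
    rw [← hD]
    have h3 := Matrix.rank_mul_eq_left_of_isUnit_det U (V * G) ((Matrix.isUnit_iff_isUnit_det _).1 hU)
    have h4 := Matrix.rank_mul_eq_right_of_isUnit_det V G ((Matrix.isUnit_iff_isUnit_det _).1 hV)
    rw [h3, h4]
  rw [h1, h2, rank_one_kronecker_diagonal]

/-- A non-scalar factor forces the rank to be at least `b`. -/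
theorem le_rank_kronecker_sub [Fintype F] (A : Matrix (Fin a) (Fin a) F)
    (hA : ∀ c : F, A ≠ c • (1 : Matrix (Fin a) (Fin a) F)) (B : Matrix (Fin b) (Fin b) F) (hB : IsUnit B) (c : F) :
    b ≤ (A ⊗ₖ B - c • (1 : Matrix (Fin a × Fin b) (Fin a × Fin b) F)).rank := by
  classical
  -- a vector which is not an eigenvector
  obtain ⟨v, hv⟩ : ∃ v : Fin a → F, A.mulVec v ∉ Submodule.span F {v} := by
    by_contra hcon
    push Not at hcon
    obtain ⟨c₀, hc₀⟩ := (Matrix.toLin' A).exists_eq_smul_id_of_forall_notLinearIndependent (by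
      intro v hli
      have hmem := hcon v
      obtain ⟨s, hs⟩ := Submodule.mem_span_singleton.1 hmem
      rw [LinearIndependent.pair_iff] at hli
      have h1 := hli s (-1) (by
        simp [Matrix.toLin'_apply, ← hs])
      simp at h1)
    apply hA c₀
    apply Matrix.toLin'.injective
    rw [hc₀, toLin'_smul_one]
  obtain ⟨f, hf, hf'⟩ := Submodule.exists_dual_map_eq_bot_of_notMem hv inferInstance
  have hfv : f v = 0 := by
    have h1 : f v ∈ (Submodule.span F {v}).map f := Submodule.mem_map_of_mem (Submodule.mem_span_singleton_self v)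
    rw [hf'] at h1
    exact h1
  set d := f (A.mulVec v) with hd
  let φ : Fin a → F := fun i => d⁻¹ * f (Pi.single i 1)
  have hφ : ∀ u : Fin a → F, ∑ i, φ i * u i = d⁻¹ * f u := by
    intro u
    have h1 : u = ∑ i, u i • (Pi.single i 1 : Fin a → F) := by
      ext j
      simp [Finset.sum_apply, Pi.single_apply]
    conv_rhs => rw [h1, map_sum, Finset.mul_sum]
    apply Finset.sum_congr rfl
    intro i _
    simp only [φ, map_smul, smul_eq_mul]
    ring
  have hφ0 : ∑ i, φ i * v i = 0 := by rw [hφ, hfv, mul_zero]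
  have hφ1 : ∑ i, φ i * (A.mulVec v) i = 1 := by
    rw [hφ, ← hd, inv_mul_cancel₀ hf]
  let R : Matrix (Fin b) (Fin a × Fin b) F := Matrix.of fun j p => φ p.1 * (if j = p.2 then 1 else 0)
  let S : Matrix (Fin a × Fin b) (Fin b) F := Matrix.of fun p j => v p.1 * (if p.2 = j then 1 else 0)
  have hT : R * (A ⊗ₖ B - c • (1 : Matrix (Fin a × Fin b) (Fin a × Fin b) F)) * S = B := by
    have hRS : ∀ (M : Matrix (Fin a × Fin b) (Fin a × Fin b) F) (j k : Fin b),
        (R * M * S) j k = ∑ i, ∑ i', φ i * M (i, j) (i', k) * v i' := by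
      intro M j k
      simp only [Matrix.mul_apply, R, S, Matrix.of_apply, Fintype.sum_prod_type, Finset.sum_mul, mul_ite, mul_one, mul_zero,
        ite_mul, zero_mul, Finset.sum_ite_eq, Finset.sum_ite_eq', Finset.mem_univ, if_true]
      rw [Finset.sum_comm]
    ext j k
    rw [hRS]
    have h1 : ∀ i i', φ i * ((A ⊗ₖ B - c • (1 : Matrix (Fin a × Fin b) (Fin a × Fin b) F)) (i, j) (i', k)) * v i' =
        B j k * (φ i * (A i i' * v i')) - c * (if j = k then 1 else 0) * (φ i * (if i = i' then v i' else 0)) := by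
      intro i i'
      simp only [Matrix.sub_apply, Matrix.kroneckerMap_apply, Matrix.smul_apply, smul_eq_mul, Matrix.one_apply,
        Prod.mk.injEq]
      by_cases hii : i = i' <;> by_cases hjk : j = k <;> simp [hii, hjk] <;> ring
    simp only [h1, Finset.sum_sub_distrib, ← Finset.mul_sum, Finset.sum_ite_eq, Finset.mem_univ, if_true]
    have h2 : ∑ i, φ i * ∑ i', A i i' * v i' = 1 := hφ1
    rw [h2, hφ0]
    ring
  have h1 : (R * (A ⊗ₖ B - c • (1 : Matrix (Fin a × Fin b) (Fin a × Fin b) F)) * S).rank ≤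
      (A ⊗ₖ B - c • (1 : Matrix (Fin a × Fin b) (Fin a × Fin b) F)).rank :=
    (Matrix.rank_mul_le_left _ _).trans (Matrix.rank_mul_le_right _ _)
  rw [hT, Matrix.rank_of_isUnit B hB, Fintype.card_fin] at h1
  exact h1

theorem kron_smul_sub (α c : F) (B : Matrix (Fin b) (Fin b) F) :
    (α • (1 : Matrix (Fin a) (Fin a) F)) ⊗ₖ B - c • (1 : Matrix (Fin a × Fin b) (Fin a × Fin b) F) =
      (1 : Matrix (Fin a) (Fin a) F) ⊗ₖ (α • B - c • (1 : Matrix (Fin b) (Fin b) F)) := by
  ext ⟨i, j⟩ ⟨i', j'⟩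
  simp only [Matrix.sub_apply, Matrix.kroneckerMap_apply, Matrix.smul_apply, smul_eq_mul, Matrix.one_apply,
    Prod.mk.injEq]
  by_cases hii : i = i' <;> by_cases hjj : j = j' <;> simp [hii, hjj]

theorem kron_pow (A : Matrix (Fin a) (Fin a) F) (B : Matrix (Fin b) (Fin b) F) (m : ℕ) :
    (A ⊗ₖ B) ^ m = (A ^ m) ⊗ₖ (B ^ m) := by
  induction m with
  | zero => simp
  | succ m ih => rw [pow_succ, ih, ← Matrix.mul_kronecker_mul, ← pow_succ, ← pow_succ]

/-- If a Kronecker product is scalar, then so is the first factor. -/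
theorem exists_smul_of_kron_eq (A : Matrix (Fin a) (Fin a) F) (B : Matrix (Fin b) (Fin b) F) (hB : B ≠ 0)
    (hA : A ≠ 0) (z : F) (h : A ⊗ₖ B = z • (1 : Matrix (Fin a × Fin b) (Fin a × Fin b) F)) :
    ∃ α : F, A = α • (1 : Matrix (Fin a) (Fin a) F) := by
  obtain ⟨j, j', hjj⟩ : ∃ j j', B j j' ≠ 0 := by
    by_contra hcon
    push Not at hcon
    apply hB
    ext j j'
    exact hcon j j'
  have h1 : ∀ i i', A i i' * B j j' = z * (if i = i' ∧ j = j' then 1 else 0) := by
    intro i i'
    have := congrFun (congrFun h (i, j)) (i', j')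
    simp only [Matrix.kroneckerMap_apply, Matrix.smul_apply, smul_eq_mul, Matrix.one_apply, Prod.mk.injEq] at this
    exact this
  refine ⟨z / B j j', ?_⟩
  by_cases hne : j = j'
  · subst hne
    ext i i'
    have h2 := h1 i i'
    simp only [Matrix.smul_apply, smul_eq_mul, Matrix.one_apply]
    by_cases hii : i = i'
    · simp only [hii, and_self, if_true, mul_one] at h2 ⊢
      field_simp
      exact h2
    · simp only [hii, false_and, if_false, mul_zero] at h2 ⊢
      exact (mul_eq_zero.1 h2).resolve_right hjj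
  · exfalso
    apply hA
    ext i i'
    have h2 := h1 i i'
    simp only [hne, and_false, if_false, mul_zero] at h2
    exact (mul_eq_zero.1 h2).resolve_right hjj

end Rank

section Subgroup

variable {F : Type*} [Field F] {n a b : ℕ}

theorem tensor_mem_iff (e : Fin n ≃ Fin a × Fin b) (P : GL (Fin n) F) (y : GL (Fin n) F) :
    y ∈ Cfsg.Geo.tensorProductSubgroup a b e P ↔
      ∃ (A : GL (Fin a) F) (B : GL (Fin b) F), (y : Matrix (Fin n) (Fin n) F) * (P : Matrix (Fin n) (Fin n) F) =
        (P : Matrix (Fin n) (Fin n) F) * (((A : Matrix (Fin a) (Fin a) F) ⊗ₖ (B : Matrix (Fin b) (Fin b) F)).submatrix e e) := by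
  constructor
  · rintro ⟨k, ⟨k₀, ⟨A, B, hAB⟩, rfl⟩, rfl⟩
    refine ⟨A, B, ?_⟩
    have h1 : ((MulAut.conj P).toMonoidHom ((Cfsg.Geo.glReindex e.symm).toMonoidHom k₀) : GL (Fin n) F) =
        P * (Cfsg.Geo.glReindex e.symm k₀) * P⁻¹ := rfl
    rw [h1, Units.val_mul, Units.val_mul, mul_assoc, ← Units.val_mul P⁻¹, inv_mul_cancel, Units.val_one, mul_one, ← hAB]
    rfl
  · rintro ⟨A, B, hAB⟩
    let k₀ : GL (Fin a × Fin b) F :=
      ⟨(A : Matrix (Fin a) (Fin a) F) ⊗ₖ (B : Matrix (Fin b) (Fin b) F),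
        ((A⁻¹ : GL (Fin a) F) : Matrix (Fin a) (Fin a) F) ⊗ₖ ((B⁻¹ : GL (Fin b) F) : Matrix (Fin b) (Fin b) F),
        by rw [← Matrix.mul_kronecker_mul, ← Units.val_mul, ← Units.val_mul, mul_inv_cancel, mul_inv_cancel,
            Units.val_one, Units.val_one, Matrix.one_kronecker_one],
        by rw [← Matrix.mul_kronecker_mul, ← Units.val_mul, ← Units.val_mul, inv_mul_cancel, inv_mul_cancel,
            Units.val_one, Units.val_one, Matrix.one_kronecker_one]⟩
    refine ⟨(Cfsg.Geo.glReindex e.symm).toMonoidHom k₀, ⟨k₀, ⟨A, B, rfl⟩, rfl⟩, ?_⟩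
    apply Units.ext
    have h1 : ((MulAut.conj P).toMonoidHom ((Cfsg.Geo.glReindex e.symm).toMonoidHom k₀) : GL (Fin n) F) =
        P * (Cfsg.Geo.glReindex e.symm k₀) * P⁻¹ := rfl
    rw [h1, Units.val_mul, Units.val_mul]
    have h2 : ((Cfsg.Geo.glReindex e.symm k₀ : GL (Fin n) F) : Matrix (Fin n) (Fin n) F) =
        ((A : Matrix (Fin a) (Fin a) F) ⊗ₖ (B : Matrix (Fin b) (Fin b) F)).submatrix e e := rfl
    rw [h2, ← hAB, mul_assoc, ← Units.val_mul P, mul_inv_cancel, Units.val_one, mul_one]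

/-- The data attached to a conjugate of `x` in the stabiliser of a tensor decomposition. -/
theorem tensor_witness (e : Fin n ≃ Fin a × Fin b) (P x g : GL (Fin n) F)
    (hg : g⁻¹ * x * g ∈ Cfsg.Geo.tensorProductSubgroup a b e P) :
    ∃ (A : GL (Fin a) F) (B : GL (Fin b) F),
      (∀ c : F, ((x : Matrix (Fin n) (Fin n) F) - c • 1).rank =
        ((A : Matrix (Fin a) (Fin a) F) ⊗ₖ (B : Matrix (Fin b) (Fin b) F) - c • 1).rank) ∧
      ∀ (m : ℕ) (z : F), (x : Matrix (Fin n) (Fin n) F) ^ m = z • 1 →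
        ((A : Matrix (Fin a) (Fin a) F) ⊗ₖ (B : Matrix (Fin b) (Fin b) F)) ^ m = z • 1 := by
  classical
  obtain ⟨A, B, hAB⟩ := (tensor_mem_iff e P _).1 hg
  refine ⟨A, B, ?_⟩
  set K := (A : Matrix (Fin a) (Fin a) F) ⊗ₖ (B : Matrix (Fin b) (Fin b) F) with hK
  set Q : GL (Fin n) F := g * P with hQ
  have hxQ : (x : Matrix (Fin n) (Fin n) F) * (Q : Matrix (Fin n) (Fin n) F) =
      (Q : Matrix (Fin n) (Fin n) F) * K.submatrix e e := by
    have h1 : ((g * (g⁻¹ * x * g) * P : GL (Fin n) F) : Matrix (Fin n) (Fin n) F) = ((x * Q : GL (Fin n) F) : Matrix (Fin n) (Fin n) F) := by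
      congr 1
      rw [hQ]
      group
    rw [← Units.val_mul, ← h1, Units.val_mul, Units.val_mul g, mul_assoc, hAB, ← mul_assoc, hQ, Units.val_mul]
  set QI : Matrix (Fin n) (Fin n) F := ((Q⁻¹ : GL (Fin n) F) : Matrix (Fin n) (Fin n) F) with hQI
  have hQQI : (Q : Matrix (Fin n) (Fin n) F) * QI = 1 := by
    rw [hQI, ← Units.val_mul, mul_inv_cancel, Units.val_one]
  have hQIQ : QI * (Q : Matrix (Fin n) (Fin n) F) = 1 := by
    rw [hQI, ← Units.val_mul, inv_mul_cancel, Units.val_one]
  have hdetQ : IsUnit (Q : Matrix (Fin n) (Fin n) F).det := Matrix.isUnits_det_units Q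
  constructor
  · intro c
    have h1 : ((x : Matrix (Fin n) (Fin n) F) - c • 1) * Q = Q * (K - c • 1).submatrix e e := by
      have h2 : (K - c • 1).submatrix e e = K.submatrix e e - c • 1 := by
        ext i j
        simp [Matrix.one_apply, Matrix.sub_apply, Matrix.smul_apply, e.injective.eq_iff]
      rw [h2, sub_mul, mul_sub, hxQ, Matrix.smul_mul, Matrix.mul_smul, one_mul, mul_one]
    rw [← Matrix.rank_mul_eq_left_of_isUnit_det _ ((x : Matrix (Fin n) (Fin n) F) - c • 1) hdetQ, h1,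
      Matrix.rank_mul_eq_right_of_isUnit_det _ _ hdetQ, Matrix.rank_submatrix]
  · intro m z hm
    have hpow : ∀ m : ℕ, (x : Matrix (Fin n) (Fin n) F) ^ m * Q = Q * (K ^ m).submatrix e e := by
      intro m
      induction m with
      | zero =>
        simp [Matrix.submatrix_one_equiv]
      | succ m ih =>
        rw [pow_succ', mul_assoc, ih, ← mul_assoc, hxQ, mul_assoc, pow_succ', Matrix.submatrix_mul_equiv]
    have h1 := hpow m
    rw [hm, Matrix.smul_mul, one_mul] at h1
    have h2 : (K ^ m).submatrix e e = z • 1 := by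
      calc (K ^ m).submatrix e e = QI * (Q * (K ^ m).submatrix e e) := by rw [← mul_assoc, hQIQ, one_mul]
        _ = z • 1 := by rw [← h1, Matrix.mul_smul, hQIQ]
    ext p p'
    have h3 := congrFun (congrFun h2 (e.symm p)) (e.symm p')
    simpa [Matrix.one_apply, e.symm.injective.eq_iff] using h3

end Subgroup

section Block

open Polynomial Cfsg.Agent.H12.Singer

variable {F : Type*} [Field F] [Fintype F] {p : ℕ} [hp : Fact p.Prime] [CharP F p] {q r : ℕ}

/-- The order of `q` divides the rank of `g - 1` for `g` of order `r`. -/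
theorem dvd_rank_of_pow_eq_one (hF : Fintype.card F = q) [hr : Fact r.Prime] (hrp : r ≠ p) {m : ℕ}
    (g : Matrix (Fin m) (Fin m) F) (hg : g ^ r = 1) : orderOf (q : ZMod r) ∣ (g - 1).rank := by
  classical
  set T := Matrix.toLin' g with hT
  have hTr : T ^ r = 1 := by
    rw [hT, ← toLin'_pow_eq, hg]
    ext v
    simp
  set W : Submodule F (Fin m → F) := LinearMap.range (Matrix.toLin' (g - 1)) with hW
  have hWst : TStable T W := by
    rintro _ ⟨u, rfl⟩
    refine ⟨g.mulVec u, ?_⟩
    simp only [hT, Matrix.toLin'_apply, Matrix.mulVec_mulVec, sub_mul, mul_sub, one_mul, mul_one]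
  have hP : ∀ w ∈ W, Polynomial.aeval T (Phi F r) w = 0 := by
    rintro _ ⟨u, rfl⟩
    have h1 : Matrix.toLin' (g - 1) = Polynomial.aeval T (X - 1 : F[X]) := by
      simp only [map_sub, aeval_X, map_one, hT]
      ext v
      simp [Matrix.sub_mulVec]
    rw [h1]
    have h2 : Polynomial.aeval T (Phi F r) (Polynomial.aeval T (X - 1 : F[X]) u) =
        Polynomial.aeval T ((X - 1 : F[X]) * Phi F r) u := by
      rw [mul_comm, map_mul]
      rfl
    rw [h2, X_sub_one_mul_Phi]
    simp [hTr]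
  have h1 := dvd_finrank_of_aeval_zero T (Phi F r) (orderOf (q : ZMod r)) (fun g' hg' hd =>
    natDegree_of_dvd_Phi (p := p) hF hrp g' hg' hd) hWst (Phi_ne_zero hr) hP
  have h2 : (g - 1).rank = finrank F W := by
    rw [Matrix.rank, hW]
    rfl
  rw [h2]
  exact h1

/-- A block of order `r` in dimension the order of `q`, plus an identity block. -/
theorem exists_block_sum (hF : Fintype.card F = q) [hr : Fact r.Prime] (hrp : r ≠ p)
    (hi2 : 2 ≤ orderOf (q : ZMod r)) (n : ℕ) (hin : orderOf (q : ZMod r) ≤ n) :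
    ∃ x : Matrix (Fin n) (Fin n) F, x.det = 1 ∧ x ^ r = 1 ∧ (∀ c : F, x ≠ c • 1) ∧
      (x - 1).rank ≤ orderOf (q : ZMod r) := by
  classical
  set i := orderOf (q : ZMod r) with hi
  have hq2 : 2 ≤ q := two_le_card hF
  have hr2 := hr.out.two_le
  have hΦ0 := Phi_ne_zero (F := F) hr
  have hΦu : ¬ IsUnit (Phi F r) := by
    intro hu
    have h1 := congrArg natDegree (X_sub_one_mul_Phi (F := F) r)
    have hX : (X - 1 : F[X]) = X - C 1 := by simp
    rw [natDegree_mul (by rw [hX]; exact X_sub_C_ne_zero 1) hΦ0,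
      natDegree_eq_zero_of_isUnit hu, hX, natDegree_X_sub_C, ← C_1, natDegree_X_pow_sub_C] at h1
    omega
  obtain ⟨g, hg, hgΦ⟩ := WfDvdMonoid.exists_irreducible_factor hΦu hΦ0
  have hgd : g.natDegree = i := natDegree_of_dvd_Phi (p := p) hF hrp g hg hgΦ
  obtain ⟨C₀, hx1, hx2⟩ := exists_block_matrix g hg 1 0 i (by rw [hgd]; omega)
  have hker : LinearMap.ker (Polynomial.aeval (Matrix.toLin' C₀) g) = ⊤ := by
    apply Submodule.eq_top_of_finrank_eq
    have h1 := Submodule.finrank_le (LinearMap.ker (Polynomial.aeval (Matrix.toLin' C₀) g))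
    simp only [Module.finrank_fin_fun] at h1 ⊢
    rw [hgd] at hx2
    omega
  have hCg : Polynomial.aeval (Matrix.toLin' C₀) g = 0 := LinearMap.ker_eq_top.1 hker
  have hCg' : Polynomial.aeval C₀ g = 0 := by
    rw [aeval_toLin'] at hCg
    exact Matrix.toLin'.injective (by rw [hCg, map_zero])
  have hCr : C₀ ^ r = 1 := by
    obtain ⟨h, hh⟩ := hgΦ
    have h1 : Polynomial.aeval C₀ (X ^ r - 1 : F[X]) = 0 := by
      rw [← X_sub_one_mul_Phi, hh, mul_comm, mul_assoc, map_mul, hCg', zero_mul]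
    simp only [map_sub, map_pow, aeval_X, map_one] at h1
    exact sub_eq_zero.1 h1
  have hCns : ∀ c : F, C₀ ≠ c • 1 := by
    intro c hc
    have h1 : Polynomial.aeval (c • (1 : Module.End F (Fin i → F))) g = 0 := by
      rw [← toLin'_smul_one, ← hc]
      exact hCg
    have hi0 : 0 < i := by omega
    have hv := aeval_smul_one (V := Fin i → F) c g (Pi.single ⟨0, hi0⟩ 1)
    rw [h1] at hv
    have hne : (Pi.single ⟨0, hi0⟩ 1 : Fin i → F) ≠ 0 := by
      intro h
      have := congrFun h ⟨0, hi0⟩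
      simp at this
    have h2 : g.eval c = 0 := (smul_eq_zero.1 hv.symm).resolve_right hne
    have h3 : (X - C c) ∣ g := dvd_iff_isRoot.2 h2
    have h4 := natDegree_of_dvd_irreducible g (X - C c) hg (irreducible_X_sub_C c) h3
    rw [natDegree_X_sub_C] at h4
    omega
  have hrq : ¬ r ∣ q - 1 := by
    rw [dvd_sub_one_iff hq2]
    omega
  let e : Fin n ≃ Fin i ⊕ Fin (n - i) := (finCongr (by omega)).trans finSumFinEquiv.symm
  set B : Matrix (Fin i ⊕ Fin (n - i)) (Fin i ⊕ Fin (n - i)) F := Matrix.fromBlocks C₀ 0 0 1 with hB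
  have hBm : ∀ m : ℕ, B ^ m = Matrix.fromBlocks (C₀ ^ m) 0 0 1 := by
    intro m
    induction m with
    | zero => simp
    | succ m ih =>
      rw [pow_succ, ih, hB, Matrix.fromBlocks_multiply]
      simp [pow_succ]
  have hBr : B ^ r = 1 := by
    rw [hBm, hCr, Matrix.fromBlocks_one]
  have hxm : ∀ m : ℕ, (B.submatrix e e) ^ m = (B ^ m).submatrix e e := by
    intro m
    induction m with
    | zero => simp [Matrix.submatrix_one_equiv]
    | succ m ih =>
      rw [pow_succ, ih, pow_succ, Matrix.submatrix_mul_equiv]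
  have hxr : (B.submatrix e e) ^ r = 1 := by
    rw [hxm, hBr, Matrix.submatrix_one_equiv]
  refine ⟨B.submatrix e e, ?_, hxr, ?_, ?_⟩
  · apply eq_one_of_pow_eq_one hF hrq
    rw [← Matrix.det_pow, hxr, Matrix.det_one]
  · intro c hc
    apply hCns c
    ext a b'
    have h1 := congrFun (congrFun hc (e.symm (Sum.inl a))) (e.symm (Sum.inl b'))
    simpa [hB, Matrix.one_apply, e.symm.injective.eq_iff] using h1
  · have h1 : B.submatrix e e - 1 = (B - 1).submatrix e e := by
      ext a b'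
      simp [Matrix.one_apply, e.injective.eq_iff]
    rw [h1, Matrix.rank_submatrix]
    let U : Matrix (Fin i ⊕ Fin (n - i)) (Fin i) F := Matrix.of fun s t => Sum.elim (fun a => (1 : Matrix (Fin i) (Fin i) F) a t) (fun _ => 0) s
    let V : Matrix (Fin i) (Fin i ⊕ Fin (n - i)) F := Matrix.of fun t s => Sum.elim (fun a => (C₀ - 1) t a) (fun _ => 0) s
    have h2 : B - 1 = U * V := by
      ext s s'
      rcases s with s | s <;> rcases s' with s' | s' <;>
        simp [hB, U, V, Matrix.mul_apply, Matrix.one_apply, Matrix.sub_apply]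
    rw [h2]
    refine (Matrix.rank_mul_le_left _ _).trans ?_
    simpa using Matrix.rank_le_card_width U

end Block

end Cfsg.Agent.H29
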