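/-
Symplectic forms: ranks of isometries of odd order, eigenvector patterns of similarities,
embedding of the standard symplectic group into the isometries of a symplectic form.
-/
import Cfsg.Agent.Lib.H29.Planes
import Cfsg.Agent.Lib.H29.TensorRank
import Cfsg.Agent.Lib.Lead.SpOrder
import Cfsg.Agent.Lib.Lead.SpGen

set_option autoImplicit false

open scoped MatrixGroups

namespace Cfsg.Agent.H29

open Module

section Even

variable {F V : Type*} [Field F] [AddCommGroup V] [Module F V] [FiniteDimensional F V]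

theorem even_finrank_of_nondegOn {ω : V →ₗ[F] V →ₗ[F] F} (halt : ∀ v, ω v v = 0) (W : Submodule F V)
    (hnd : NondegOn ω W) : Even (finrank F W) := by
  classical
  obtain ⟨S, _, _, b, -, hsys, -, -⟩ := exists_plane_sys halt (LinearMap.id) 1 one_ne_zero
    (fun _ _ => rfl) (by simp) _ W rfl (fun _ h => h) hnd
  have hli := planeSys_linearIndependent halt hsys
  have h1 := finrank_span_eq_card hli
  rw [hsys.span, Fintype.card_prod, Fintype.card_bool] at h1
  rw [h1]
  exact ⟨Fintype.card S, by ring⟩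

end Even

section Form

variable {F : Type*} [Field F] {n : ℕ}

/-- The bilinear map attached to a symplectic form. -/
def formLin (f : (Fin n → F) → (Fin n → F) → F) (hf : Cfsg.Geo.IsSymplecticForm f) :
    (Fin n → F) →ₗ[F] (Fin n → F) →ₗ[F] F :=
  LinearMap.mk₂ F f hf.bilinear.add_left
    (fun c x v => by rw [hf.bilinear.smul_left, smul_eq_mul]) hf.bilinear.add_right
    (fun c v x => by rw [hf.bilinear.smul_right, smul_eq_mul])

theorem formLin_apply (f : (Fin n → F) → (Fin n → F) → F) (hf : Cfsg.Geo.IsSymplecticForm f) (u v : Fin n → F) :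
    formLin f hf u v = f u v := rfl

/-- An isometry of order `r`, invertible in `F`, moves an even dimensional subspace. -/
theorem even_rank_of_isometry (f : (Fin n → F) → (Fin n → F) → F) (hf : Cfsg.Geo.IsSymplecticForm f)
    (y : Matrix (Fin n) (Fin n) F) (hy : ∀ u v, f (y.mulVec u) (y.mulVec v) = f u v) (r : ℕ) (hr : y ^ r = 1)
    (hr0 : (r : F) ≠ 0) : Even (y - 1).rank := by
  classical
  set ω := formLin f hf with hω
  have hω' : ∀ u v, ω u v = f u v := fun _ _ => rfl
  have halt : ∀ v, ω v v = 0 := hf.alternating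
  set L := Matrix.toLin' (y - 1) with hL
  set W : Submodule F (Fin n → F) := LinearMap.range L with hW
  set V₁ : Submodule F (Fin n → F) := LinearMap.ker L with hV₁
  have hV₁y : ∀ v ∈ V₁, y.mulVec v = v := by
    intro v hv
    have h1 : L v = 0 := hv
    rw [hL, Matrix.toLin'_apply, Matrix.sub_mulVec, Matrix.one_mulVec] at h1
    exact sub_eq_zero.1 h1
  have hdisj : W ⊓ V₁ = ⊥ := by
    rw [eq_bot_iff]
    rintro w ⟨⟨s, hs⟩, hw⟩
    have hyw := hV₁y w hw
    have hpow : ∀ j : ℕ, (y ^ j).mulVec w = w := by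
      intro j
      induction j with
      | zero => simp
      | succ j ih => rw [pow_succ, ← Matrix.mulVec_mulVec, hyw, ih]
    have h1 : (∑ j ∈ Finset.range r, y ^ j).mulVec w = (r : F) • w := by
      rw [Matrix.sum_mulVec, Finset.sum_congr rfl (fun j _ => hpow j)]
      ext i
      simp
    have h2 : (∑ j ∈ Finset.range r, y ^ j).mulVec w = 0 := by
      rw [← hs, hL, Matrix.toLin'_apply, Matrix.mulVec_mulVec, geom_sum_mul, hr, sub_self, Matrix.zero_mulVec]
    rw [h1] at h2
    exact (smul_eq_zero.1 h2).resolve_left hr0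
  have horth : ∀ w ∈ W, ∀ v ∈ V₁, ω w v = 0 := by
    rintro w ⟨s, rfl⟩ v hv
    have h1 : L s = y.mulVec s - s := by
      rw [hL, Matrix.toLin'_apply, Matrix.sub_mulVec, Matrix.one_mulVec]
    rw [h1, map_sub, LinearMap.sub_apply, hω', hω']
    have h2 := hy s v
    rw [hV₁y v hv] at h2
    rw [h2, sub_self]
  have htop : W ⊔ V₁ = ⊤ := by
    apply Submodule.eq_top_of_finrank_eq
    have h1 := Submodule.finrank_sup_add_finrank_inf_eq W V₁
    rw [hdisj, finrank_bot, add_zero] at h1
    rw [h1, hW, hV₁]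
    exact LinearMap.finrank_range_add_finrank_ker L
  have hnd : NondegOn ω W := by
    intro u hu hu0
    obtain ⟨x, hx⟩ := (hf.nondegenerate u hu0).2
    have hx' : x ∈ W ⊔ V₁ := by rw [htop]; exact Submodule.mem_top
    obtain ⟨w, hw, v, hv, rfl⟩ := Submodule.mem_sup.1 hx'
    refine ⟨w, hw, ?_⟩
    intro h0
    apply hx
    rw [← hω', map_add, h0]
    simp [horth u hu v hv]
  have h1 := even_finrank_of_nondegOn halt W hnd
  have h2 : (y - 1).rank = finrank F W := by
    rw [Matrix.rank, hW]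
    rfl
  rw [h2]
  exact h1

/-- A Hall type condition for eigenvectors of a similarity. -/
theorem hall_form (f : (Fin n → F) → (Fin n → F) → F) (hf : Cfsg.Geo.IsSymplecticForm f)
    (b : Basis (Fin n) F (Fin n → F)) (D : Fin n → F) (c : F)
    (hrel : ∀ i j, (D i * D j - c) * f (b i) (b j) = 0) (T N : Finset (Fin n))
    (hN : ∀ i ∈ T, ∀ j, j ≠ i → D i * D j = c → j ∈ N) : T.card ≤ N.card := by
  classical
  by_contra hlt
  push Not at hlt
  set ω := formLin f hf with hω
  have hω' : ∀ u v, ω u v = f u v := fun _ _ => rfl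
  let L : (T → F) →ₗ[F] (N → F) :=
    { toFun := fun a j => ∑ i : T, a i * ω (b i) (b j)
      map_add' := fun a a' => by
        ext j
        simp [add_mul, Finset.sum_add_distrib]
      map_smul' := fun s a => by
        ext j
        simp [Finset.mul_sum, mul_assoc] }
  have hker : LinearMap.ker L ≠ ⊥ := by
    intro h0
    have h1 := LinearMap.finrank_range_add_finrank_ker L
    rw [h0, finrank_bot, add_zero] at h1
    have h2 := (LinearMap.range L).finrank_le
    simp only [Module.finrank_fintype_fun_eq_card, Fintype.card_coe] at h1 h2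
    omega
  obtain ⟨a, ha, ha0⟩ := Submodule.exists_mem_ne_zero_of_ne_bot hker
  set v : Fin n → F := ∑ i : T, a i • b i with hv
  have hli : LinearIndependent F (fun i : T => b i) := b.linearIndependent.comp _ Subtype.val_injective
  have hv0 : v ≠ 0 := by
    intro h
    apply ha0
    funext i
    exact (Fintype.linearIndependent_iff.1 hli) a h i
  have hvb : ∀ j, ω v (b j) = 0 := by
    intro j
    rw [hv, map_sum, LinearMap.sum_apply]
    simp only [map_smul, LinearMap.smul_apply, smul_eq_mul]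
    by_cases hj : j ∈ N
    · have h1 : L a ⟨j, hj⟩ = 0 := by
        have h2 : L a = 0 := ha
        rw [h2]
        rfl
      exact h1
    · apply Finset.sum_eq_zero
      intro i _
      by_cases hji : j = (i : Fin n)
      · rw [hji, show ω (b i) (b i) = 0 from hf.alternating _, mul_zero]
      · have h1 : D i * D j ≠ c := fun h => hj (hN i i.2 j hji h)
        have h2 := hrel i j
        rw [hω', (mul_eq_zero.1 h2).resolve_left (sub_ne_zero.2 h1), mul_zero]
  obtain ⟨x, hx⟩ := (hf.nondegenerate v hv0).2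
  apply hx
  rw [← hω']
  have h1 : ω v = 0 := by
    apply b.ext
    intro j
    rw [hvb]
    rfl
  rw [h1]
  rfl

end Form

section Embed

variable {F : Type*} [Field F] {n : ℕ}

/-- The standard symplectic group acts on any symplectic space of the same dimension. -/
theorem exists_sp_embed (d : ℕ) (hnd : n = 2 * d) (f : (Fin n → F) → (Fin n → F) → F)
    (hf : Cfsg.Geo.IsSymplecticForm f) :
    ∃ ψ : Matrix.symplecticGroup (Fin d) F →* Matrix.SpecialLinearGroup (Fin n) F, Function.Injective ψ ∧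
      ∀ g u v, f ((ψ g : Matrix (Fin n) (Fin n) F).mulVec u) ((ψ g : Matrix (Fin n) (Fin n) F).mulVec v) = f u v := by
  classical
  obtain ⟨S, _, _, H₀, hself, horth⟩ := exists_hyp_basis f hf
  have hcard : Fintype.card S = d := by
    have h1 := Module.finrank_eq_card_basis H₀
    rw [Module.finrank_fin_fun, Fintype.card_prod, Fintype.card_fin] at h1
    omega
  let e₀ : Fin d ≃ S := (Fintype.equivFinOfCardEq hcard).symm
  have hFalt : ∀ v, f v v = 0 := hf.alternating
  have hskew := hf.skew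
  have hsmulL : ∀ (c : F) (u v : Fin n → F), f (c • u) v = c * f u v := fun c u v => by
    rw [hf.bilinear.smul_left]
  let a : Fin d → F := fun k => f (H₀ (0, e₀ k)) (H₀ (1, e₀ k))
  have ha : ∀ k, a k ≠ 0 := fun k => hself _
  let w : Fin d ⊕ Fin d → (Fin n → F) :=
    Sum.elim (fun k => H₀ (1, e₀ k)) (fun k => (a k)⁻¹ • H₀ (0, e₀ k))
  have horth' : ∀ k l i j, k ≠ l → f (H₀ (i, e₀ k)) (H₀ (j, e₀ l)) = 0 := fun k l i j h =>
    horth _ _ _ _ (fun h' => h (e₀.injective h'))
  let ω := formLin f hf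
  have hω : ∀ u v, ω u v = f u v := fun _ _ => rfl
  let Bs : (Fin d ⊕ Fin d → F) →ₗ[F] (Fin d ⊕ Fin d → F) →ₗ[F] F :=
    LinearMap.mk₂ F Cfsg.Agent.Lead.sympForm Cfsg.Agent.Lead.sympForm_add_left
      (fun c x y => by rw [Cfsg.Agent.Lead.sympForm_smul_left, smul_eq_mul])
      Cfsg.Agent.Lead.sympForm_add_right
      (fun c x y => by rw [Cfsg.Agent.Lead.sympForm_smul_right, smul_eq_mul])
  have hBs : ∀ u v, Bs u v = Cfsg.Agent.Lead.sympForm u v := fun _ _ => rfl
  let bas := Pi.basisFun F (Fin d ⊕ Fin d)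
  let Λ₀ : (Fin d ⊕ Fin d → F) →ₗ[F] (Fin n → F) := bas.constr F w
  have hΛ₀ : ∀ x, Λ₀ (bas x) = w x := fun x => bas.constr_basis F w x
  have hw : ∀ x y, f (w x) (w y) = Bs (bas x) (bas y) := by
    intro x y
    rw [hBs, Cfsg.Agent.Lead.sympForm_apply]
    simp only [bas, Pi.basisFun_apply]
    rcases x with k | k <;> rcases y with l | l
    · simp only [w, Sum.elim_inl]
      by_cases hkl : k = l
      · subst hkl
        simp [hFalt]
      · rw [horth' k l 1 1 hkl]
        simp [Pi.single_apply]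
    · simp only [w, Sum.elim_inl, Sum.elim_inr]
      by_cases hkl : k = l
      · subst hkl
        rw [hf.bilinear.smul_right, hskew]
        simp only [Pi.single_apply, Sum.inr.injEq, Sum.inl.injEq, reduceCtorEq, if_false, mul_zero, zero_mul,
          sub_self, zero_sub]
        simp only [Finset.sum_neg_distrib]
        have hha := ha k
        have : f (H₀ (0, e₀ k)) (H₀ (1, e₀ k)) = a k := rfl
        rw [this]
        simp [hha]
      · rw [hf.bilinear.smul_right, horth' k l 1 0 hkl]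
        simp [Pi.single_apply, hkl, Ne.symm hkl]
    · simp only [w, Sum.elim_inl, Sum.elim_inr]
      by_cases hkl : k = l
      · subst hkl
        rw [hf.bilinear.smul_left]
        simp only [Pi.single_apply, Sum.inr.injEq, Sum.inl.injEq, reduceCtorEq, if_false, mul_zero, zero_mul,
          sub_self, sub_zero]
        have hha := ha k
        have : f (H₀ (0, e₀ k)) (H₀ (1, e₀ k)) = a k := rfl
        rw [this]
        simp [hha]
      · rw [hf.bilinear.smul_left, horth' k l 0 1 hkl]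
        simp [Pi.single_apply, hkl, Ne.symm hkl]
    · simp only [w, Sum.elim_inr]
      rw [hf.bilinear.smul_left, hf.bilinear.smul_right]
      by_cases hkl : k = l
      · subst hkl
        simp [hFalt]
      · rw [horth' k l 0 0 hkl]
        simp [Pi.single_apply]
  have hform : ∀ u v, f (Λ₀ u) (Λ₀ v) = Cfsg.Agent.Lead.sympForm u v := by
    have h1 : ω.compl₁₂ Λ₀ Λ₀ = Bs := by
      apply bas.ext
      intro x
      apply bas.ext
      intro y
      rw [LinearMap.compl₁₂_apply, hΛ₀, hΛ₀, hω]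
      exact hw x y
    intro u v
    rw [← hBs, ← h1, LinearMap.compl₁₂_apply, hω]
  have hinj : Function.Injective Λ₀ := by
    rw [← LinearMap.ker_eq_bot, LinearMap.ker_eq_bot']
    intro u hu
    by_contra hu0
    obtain ⟨z, hz⟩ := Cfsg.Agent.Lead.sympForm_nondeg hu0
    apply hz
    rw [← hform, hu]
    have := hf.bilinear.smul_left 0 (0 : Fin n → F) (Λ₀ z)
    simpa using this
  have hdim : finrank F (Fin d ⊕ Fin d → F) = finrank F (Fin n → F) := by
    simp [hnd]
    omega
  let Λ : (Fin d ⊕ Fin d → F) ≃ₗ[F] (Fin n → F) := LinearMap.linearEquivOfInjective Λ₀ hinj hdim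
  have hΛ : ∀ u, Λ u = Λ₀ u := fun u => LinearMap.linearEquivOfInjective_apply hinj hdim u
  let mat : Matrix.symplecticGroup (Fin d) F → Matrix (Fin n) (Fin n) F := fun g =>
    LinearMap.toMatrix' (Λ.toLinearMap ∘ₗ Matrix.toLin' g.1 ∘ₗ Λ.symm.toLinearMap)
  have hmat : ∀ g u, (mat g).mulVec u = Λ (g.1.mulVec (Λ.symm u)) := by
    intro g u
    rw [← Matrix.toLin'_apply, Matrix.toLin'_toMatrix']
    simp [Matrix.toLin'_apply]
  have hdet : ∀ g, (mat g).det = 1 := by
    intro g
    have h1 : (mat g).det = LinearMap.det (Matrix.toLin' g.1) := by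
      rw [LinearMap.det_toMatrix']
      exact LinearMap.det_conj _ Λ
    rw [h1, LinearMap.det_toLin']
    exact SymplecticGroup.det_eq_one g.2
  have hext : ∀ A B : Matrix (Fin n) (Fin n) F, (∀ u, A.mulVec u = B.mulVec u) → A = B := by
    intro A B h
    apply Matrix.toLin'.injective
    apply LinearMap.ext
    intro u
    rw [Matrix.toLin'_apply, Matrix.toLin'_apply, h]
  let ψ : Matrix.symplecticGroup (Fin d) F →* Matrix.SpecialLinearGroup (Fin n) F :=
    MonoidHom.mk' (fun g => ⟨mat g, hdet g⟩) (by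
      intro a b
      apply Subtype.ext
      apply hext
      intro u
      change (mat (a * b)).mulVec u = (mat a * mat b).mulVec u
      rw [← Matrix.mulVec_mulVec, hmat, hmat, hmat]
      simp [Matrix.mulVec_mulVec])
  have hψ : ∀ g, ((ψ g : Matrix.SpecialLinearGroup (Fin n) F) : Matrix (Fin n) (Fin n) F) = mat g := fun _ => rfl
  refine ⟨ψ, ?_, ?_⟩
  · intro a b hab
    apply Subtype.ext
    have h1 : mat a = mat b := by rw [← hψ, ← hψ, hab]
    have h2 : ∀ v, a.1.mulVec v = b.1.mulVec v := by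
      intro v
      have h3 := congrArg (fun M => M.mulVec (Λ v)) h1
      simp only [hmat, LinearEquiv.symm_apply_apply] at h3
      exact Λ.injective h3
    apply Matrix.toLin'.injective
    apply LinearMap.ext
    intro u
    rw [Matrix.toLin'_apply, Matrix.toLin'_apply, h2]
  · intro g u v
    rw [hψ, hmat, hmat, hΛ, hΛ, hform, Cfsg.Agent.Lead.sympForm_mulVec g.2, ← hform, ← hΛ, ← hΛ]
    simp

end Embed

section Numeric

theorem prod_range_two_mul (q d : ℕ) :
    ∏ j ∈ Finset.range (2 * d), (q ^ (j + 1) - 1) =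
      (∏ m ∈ Finset.range d, (q ^ (2 * m + 1) - 1)) * ∏ m ∈ Finset.range d, (q ^ (2 * (m + 1)) - 1) := by
  induction d with
  | zero => simp
  | succ d ih =>
    rw [show 2 * (d + 1) = 2 * d + 1 + 1 by ring, Finset.prod_range_succ, Finset.prod_range_succ, ih,
      Finset.prod_range_succ, Finset.prod_range_succ]
    rw [show 2 * d + 1 + 1 = 2 * (d + 1) by ring]
    ring

variable {F : Type*} [Field F] [Fintype F] {p : ℕ} [Fact p.Prime] [CharP F p] {q : ℕ}

/-- Primes dividing the index of a group containing `Sp_{2d}(q)` in `SL_{2d}(q)`. -/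
theorem exists_odd_of_dvd_index (hq : Fintype.card F = q) (n d : ℕ) (hn0 : 1 ≤ n) (hnd : n = 2 * d)
    (H : Subgroup (Matrix.SpecialLinearGroup (Fin n) F))
    (ψ : Matrix.symplecticGroup (Fin d) F →* Matrix.SpecialLinearGroup (Fin n) F)
    (hinj : Function.Injective ψ) (hψ : ∀ g, ψ g ∈ H) (r : ℕ) [hr : Fact r.Prime] (hrp : r ≠ p) (hΩ : r ∣ H.index) :
    ∃ m < d, r ∣ q ^ (2 * m + 1) - 1 := by
  classical
  have hq2 := two_le_card hq
  let ψ' : Matrix.symplecticGroup (Fin d) F →* H := ψ.codRestrict H hψ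
  have hinj' : Function.Injective ψ' := by
    intro a b hab
    apply hinj
    exact congrArg Subtype.val hab
  have h1 : Nat.card (Matrix.symplecticGroup (Fin d) F) ∣ Nat.card H := Subgroup.card_dvd_of_injective ψ' hinj'
  rw [Cfsg.Agent.Lead.card_Sp hq d] at h1
  have h2 := H.card_mul_index
  obtain ⟨k, hk⟩ := h1
  obtain ⟨l, hl⟩ := hΩ
  have h3 := Cfsg.Agent.Lead.card_SL (F := F) n hn0
  rw [← h2, hk, hl, hq, prod_pow_sub_eq q n n hq2 le_rfl] at h3
  have h4 : ∏ j : Fin n, (q ^ (n - (j : ℕ)) - 1) =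
      (∏ m ∈ Finset.range d, (q ^ (2 * m + 1) - 1)) * ∏ m ∈ Finset.range d, (q ^ (2 * (m + 1)) - 1) := by
    rw [← prod_range_two_mul, ← hnd, Fin.prod_univ_eq_prod_range (fun j => q ^ (n - j) - 1) n,
      ← Finset.prod_range_reflect]
    apply Finset.prod_congr rfl
    intro j hj
    have := Finset.mem_range.1 hj
    congr 2
    omega
  rw [h4] at h3
  set E := ∏ m ∈ Finset.range d, (q ^ (2 * (m + 1)) - 1) with hE
  set O := ∏ m ∈ Finset.range d, (q ^ (2 * m + 1) - 1) with hO
  set Q := ∏ j : Fin n, q ^ (j : ℕ) with hQ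
  have hE0 : E ≠ 0 := by
    rw [hE, Finset.prod_ne_zero_iff]
    intro m _
    have : 1 < q ^ (2 * (m + 1)) := Nat.one_lt_pow (by omega) (by omega)
    omega
  have h5 : r ∣ Q * O := by
    have h6 : ((q - 1) * (q ^ d ^ 2 * k * (r * l))) * E = (Q * O) * E := by
      rw [mul_assoc Q O E, ← h3]
      ring
    have h7 := Nat.eq_of_mul_eq_mul_right (Nat.pos_of_ne_zero hE0) h6
    rw [← h7]
    exact Dvd.intro_left _ (by ring : ((q - 1) * (q ^ d ^ 2 * k * l)) * r = _)
  have hrq : ¬ r ∣ q := by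
    intro h
    obtain ⟨f, _, rfl⟩ := card_eq_pow_char (p := p) hq
    have := hr.out.dvd_of_dvd_pow h
    exact hrp ((Nat.prime_dvd_prime_iff_eq hr.out Fact.out).1 this)
  have hrQ : ¬ r ∣ Q := by
    intro h
    obtain ⟨j, _, hj⟩ := (hr.out.prime.dvd_finset_prod_iff _).1 h
    exact hrq (hr.out.dvd_of_dvd_pow hj)
  have hrO : r ∣ O := (hr.out.dvd_mul.1 h5).resolve_left hrQ
  obtain ⟨m, hm, hm'⟩ := (hr.out.prime.dvd_finset_prod_iff _).1 hrO
  exact ⟨m, Finset.mem_range.1 hm, hm'⟩

end Numeric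

section Main

variable {F : Type*} [Field F] {n : ℕ}

theorem matrix_eq_zero_of_rank {M : Matrix (Fin n) (Fin n) F} (h : M.rank = 0) : M = 0 := by
  have h1 : LinearMap.range M.mulVecLin = ⊥ := by
    apply Submodule.finrank_eq_zero.1
    exact h
  have h2 : M.mulVecLin = 0 := LinearMap.range_eq_bot.1 h1
  ext i j
  have h3 := congrFun (LinearMap.congr_fun h2 (Pi.single j 1)) i
  simpa using h3

theorem sim_pow (f : (Fin n → F) → (Fin n → F) → F) (hf : Cfsg.Geo.IsSymplecticForm f)
    (y : Matrix (Fin n) (Fin n) F) (c : F) (hy : ∀ u v, f (y.mulVec u) (y.mulVec v) = c * f u v) (r : ℕ)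
    (hr : y ^ r = 1) (hn : 0 < n) : c ^ r = 1 := by
  classical
  have h1 : ∀ k : ℕ, ∀ u v, f ((y ^ k).mulVec u) ((y ^ k).mulVec v) = c ^ k * f u v := by
    intro k
    induction k with
    | zero => simp
    | succ k ih =>
      intro u v
      rw [pow_succ, ← Matrix.mulVec_mulVec, ← Matrix.mulVec_mulVec, ih, hy]
      ring
  have hu0 : (Pi.single ⟨0, hn⟩ 1 : Fin n → F) ≠ 0 := by
    intro h
    have := congrFun h ⟨0, hn⟩
    simp at this
  obtain ⟨v, hv⟩ := (hf.nondegenerate _ hu0).2
  have h2 := h1 r (Pi.single ⟨0, hn⟩ 1) v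
  rw [hr, Matrix.one_mulVec, Matrix.one_mulVec] at h2
  have h3 : (c ^ r - 1) * f (Pi.single ⟨0, hn⟩ 1) v = 0 := by
    rw [sub_mul, ← h2]
    ring
  exact sub_eq_zero.1 ((mul_eq_zero.1 h3).resolve_right hv)

theorem mk_no_conj (f : (Fin n → F) → (Fin n → F) → F) (r : ℕ) (x : Matrix (Fin n) (Fin n) F) (hdet : x.det = 1)
    (hr : x ^ r = 1) (hns : ∀ z : F, x ≠ z • 1)
    (hno : ∀ (PM PI : Matrix (Fin n) (Fin n) F) (c : F), PM * PI = 1 → PI * PM = 1 →
      (∀ u v, f ((PI * x * PM).mulVec u) ((PI * x * PM).mulVec v) = c * f u v) → False) :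
    ∃ x : Matrix.SpecialLinearGroup (Fin n) F,
      (∃ z : F, ((x ^ r : Matrix.SpecialLinearGroup (Fin n) F) : Matrix (Fin n) (Fin n) F) = z • (1 : Matrix (Fin n) (Fin n) F)) ∧
      (∀ z : F, (x : Matrix (Fin n) (Fin n) F) ≠ z • (1 : Matrix (Fin n) (Fin n) F)) ∧
      ∀ P : Matrix.SpecialLinearGroup (Fin n) F, P⁻¹ * x * P ∉ ((Cfsg.Geo.similarityGroup f).comap (Matrix.SpecialLinearGroup.toGL : Matrix.SpecialLinearGroup (Fin n) F →* GL (Fin n) F)) := by
  obtain ⟨xS, hxS⟩ : ∃ xS : Matrix.SpecialLinearGroup (Fin n) F, (xS : Matrix (Fin n) (Fin n) F) = x :=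
    ⟨⟨x, hdet⟩, rfl⟩
  subst hxS
  refine ⟨xS, ⟨1, ?_⟩, hns, ?_⟩
  · rw [Matrix.SpecialLinearGroup.coe_pow, one_smul]
    exact hr
  · intro P hP
    obtain ⟨c, hc⟩ := hP
    refine hno (P : Matrix (Fin n) (Fin n) F) ((P⁻¹ : Matrix.SpecialLinearGroup (Fin n) F) : Matrix (Fin n) (Fin n) F)
      c ?_ ?_ ?_
    · rw [← Matrix.SpecialLinearGroup.coe_mul, mul_inv_cancel, Matrix.SpecialLinearGroup.coe_one]
    · rw [← Matrix.SpecialLinearGroup.coe_mul, inv_mul_cancel, Matrix.SpecialLinearGroup.coe_one]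
    · intro u v
      have := hc u v
      rw [Matrix.SpecialLinearGroup.coe_GL_coe_matrix] at this
      exact this

/-- Odd prime order elements with odd dimensional commutator. -/
theorem no_conj_odd_rank {p q : ℕ} [Fintype F] [Fact p.Prime] [CharP F p] (hq : Fintype.card F = q)
    (hn0 : 0 < n) (f : (Fin n → F) → (Fin n → F) → F) (hf : Cfsg.Geo.IsSymplecticForm f)
    (r : ℕ) [hr : Fact r.Prime] (hrp : r ≠ p)
    (hodd : Odd (orderOf (q : ZMod r))) (hi2 : 2 ≤ orderOf (q : ZMod r)) (hin : orderOf (q : ZMod r) ≤ n) :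
    ∃ x : Matrix.SpecialLinearGroup (Fin n) F,
      (∃ z : F, ((x ^ r : Matrix.SpecialLinearGroup (Fin n) F) : Matrix (Fin n) (Fin n) F) = z • (1 : Matrix (Fin n) (Fin n) F)) ∧
      (∀ z : F, (x : Matrix (Fin n) (Fin n) F) ≠ z • (1 : Matrix (Fin n) (Fin n) F)) ∧
      ∀ P : Matrix.SpecialLinearGroup (Fin n) F, P⁻¹ * x * P ∉ ((Cfsg.Geo.similarityGroup f).comap (Matrix.SpecialLinearGroup.toGL : Matrix.SpecialLinearGroup (Fin n) F →* GL (Fin n) F)) := by
  classical
  have hq2 := two_le_card hq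
  obtain ⟨x, hdet, hxr, hns, hrk⟩ := exists_block_sum (p := p) hq hrp hi2 n hin
  refine mk_no_conj f r x hdet hxr hns ?_
  intro PM PI c hPP hPI hc
  have hdvd := dvd_rank_of_pow_eq_one (p := p) hq hrp x hxr
  have hrk0 : (x - 1).rank ≠ 0 := by
    intro h0
    have h1 := matrix_eq_zero_of_rank h0
    exact hns 1 (by rw [one_smul]; exact sub_eq_zero.1 h1)
  have hrk2 : (x - 1).rank = orderOf (q : ZMod r) := le_antisymm hrk (Nat.le_of_dvd (Nat.pos_of_ne_zero hrk0) hdvd)
  set y := PI * x * PM with hy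
  have hyr : y ^ r = 1 := by
    have h1 : ∀ k : ℕ, y ^ k = PI * x ^ k * PM := by
      intro k
      induction k with
      | zero => simp [hPI]
      | succ k ih =>
        rw [pow_succ, ih, hy, pow_succ]
        calc PI * x ^ k * PM * (PI * x * PM) = PI * x ^ k * (PM * PI) * x * PM := by
              simp only [Matrix.mul_assoc]
          _ = _ := by rw [hPP, Matrix.mul_one]; simp only [Matrix.mul_assoc]
    rw [h1, hxr, Matrix.mul_one, hPI]
  have hc1 : c ^ r = 1 := sim_pow f hf y c hc r hyr hn0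
  have hdvd1 : ¬ r ∣ q - 1 := by
    rw [dvd_sub_one_iff hq2]
    omega
  have hc2 : c = 1 := eq_one_of_pow_eq_one hq hdvd1 c hc1
  have hyiso : ∀ u v, f (y.mulVec u) (y.mulVec v) = f u v := by
    intro u v
    rw [hc, hc2, one_mul]
  have hr0 : (r : F) ≠ 0 := by
    intro h
    have h1 : p ∣ r := (CharP.cast_eq_zero_iff F p r).1 h
    exact hrp ((Nat.prime_dvd_prime_iff_eq Fact.out hr.out).1 h1).symm
  have heven := even_rank_of_isometry f hf y hyiso r hyr hr0
  have hrky : (y - 1).rank = (x - 1).rank := by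
    have h1 : y - 1 = PI * (x - 1) * PM := by
      rw [Matrix.mul_sub, Matrix.sub_mul, Matrix.mul_one, hPI]
    have hdPM : IsUnit PM.det := by
      rw [← Matrix.isUnit_iff_isUnit_det]
      exact IsUnit.of_mul_eq_one _ hPP
    have hdPI : IsUnit PI.det := by
      rw [← Matrix.isUnit_iff_isUnit_det]
      exact IsUnit.of_mul_eq_one _ hPI
    rw [h1, Matrix.rank_mul_eq_left_of_isUnit_det _ _ hdPM, Matrix.rank_mul_eq_right_of_isUnit_det _ _ hdPI]
  rw [hrky, hrk2] at heven
  exact (Nat.not_even_iff_odd.2 hodd) heven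

/-- Diagonal elements of prime order when `r` divides `q - 1`. -/
theorem no_conj_split {q : ℕ} [Fintype F] (hq : Fintype.card F = q)
    (hn : 4 ≤ n) (f : (Fin n → F) → (Fin n → F) → F) (hf : Cfsg.Geo.IsSymplecticForm f)
    (r : ℕ) [hr : Fact r.Prime] (hr2 : r ≠ 2) (hgap : ¬ (n = 6 ∧ r = 3)) (hrq : r ∣ q - 1) :
    ∃ x : Matrix.SpecialLinearGroup (Fin n) F,
      (∃ z : F, ((x ^ r : Matrix.SpecialLinearGroup (Fin n) F) : Matrix (Fin n) (Fin n) F) = z • (1 : Matrix (Fin n) (Fin n) F)) ∧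
      (∀ z : F, (x : Matrix (Fin n) (Fin n) F) ≠ z • (1 : Matrix (Fin n) (Fin n) F)) ∧
      ∀ P : Matrix.SpecialLinearGroup (Fin n) F, P⁻¹ * x * P ∉ ((Cfsg.Geo.similarityGroup f).comap (Matrix.SpecialLinearGroup.toGL : Matrix.SpecialLinearGroup (Fin n) F →* GL (Fin n) F)) := by
  classical
  have hrp := hr.out
  have hr3 : 3 ≤ r := by
    have := hrp.two_le
    omega
  have hcardU : Fintype.card Fˣ = q - 1 := by
    rw [Fintype.card_units, hq]
  obtain ⟨ζ₀, hζ₀⟩ := exists_prime_orderOf_dvd_card (G := Fˣ) r (by rw [hcardU]; exact hrq)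
  set ζ : F := (ζ₀ : F) with hζ
  have hζ0 : ζ ≠ 0 := ζ₀.ne_zero
  have hpow : ∀ k : ℕ, ζ ^ k = 1 ↔ r ∣ k := by
    intro k
    rw [hζ, ← Units.val_pow_eq_pow_val, Units.val_eq_one, ← hζ₀, orderOf_dvd_iff_pow_eq_one]
  have hζr : ζ ^ r = 1 := (hpow r).2 dvd_rfl
  have hζ1 : ζ ≠ 1 := by
    intro h
    have := (hpow 1).1 (by rw [pow_one, h])
    have := Nat.le_of_dvd one_pos this
    omega
  obtain ⟨u, hinv⟩ : ∃ u : F, u * ζ = 1 := ⟨ζ⁻¹, inv_mul_cancel₀ hζ0⟩
  have hur : u ^ r = 1 := by
    have h5 : (u * ζ) ^ r = 1 := by rw [hinv, one_pow]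
    rwa [mul_pow, hζr, mul_one] at h5
  let i₀ : Fin n := ⟨0, by omega⟩
  let i₁ : Fin n := ⟨1, by omega⟩
  let i₂ : Fin n := ⟨2, by omega⟩
  let i₃ : Fin n := ⟨3, by omega⟩
  have h01 : i₀ ≠ i₁ := by simp [i₀, i₁, Fin.ext_iff]
  have h02 : i₀ ≠ i₂ := by simp [i₀, i₂, Fin.ext_iff]
  have h03 : i₀ ≠ i₃ := by simp [i₀, i₃, Fin.ext_iff]
  have h12 : i₁ ≠ i₂ := by simp [i₁, i₂, Fin.ext_iff]
  have h13 : i₁ ≠ i₃ := by simp [i₁, i₃, Fin.ext_iff]
  have h23 : i₂ ≠ i₃ := by simp [i₂, i₃, Fin.ext_iff]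
  let D : Fin n → F := fun j =>
    (if j = i₀ then ζ else 1) * (if j = i₁ then ζ else 1) * (if j = i₂ then u ^ 2 else 1)
  have hD0 : D i₀ = ζ := by simp [D, h01, h02]
  have hD1 : D i₁ = ζ := by simp [D, h01.symm, h12]
  have hD2 : D i₂ = u ^ 2 := by simp [D, h02.symm, h12.symm]
  have hDo : ∀ j, j ≠ i₀ → j ≠ i₁ → j ≠ i₂ → D j = 1 := by
    intro j h0 h1 h2
    simp [D, h0, h1, h2]
  have hD3 : D i₃ = 1 := hDo _ h03.symm h13.symm h23.symm
  have hprod : ∏ j, D j = 1 := by
    simp only [D, Finset.prod_mul_distrib, Finset.prod_ite_eq', Finset.mem_univ, if_true]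
    linear_combination (u * ζ + 1) * hinv
  have hDr : ∀ j, D j ^ r = 1 := by
    intro j
    have h5 : (u ^ 2) ^ r = 1 := by
      rw [← pow_mul, mul_comm, pow_mul, hur, one_pow]
    simp only [D, mul_pow, ite_pow, hζr, one_pow, h5, ite_self, mul_one]
  have hdiag : ∀ k : ℕ, (Matrix.diagonal D) ^ k = Matrix.diagonal (fun j => D j ^ k) := by
    intro k
    rw [Matrix.diagonal_pow]
    rfl
  have hi01 : i₀ ≠ i₁ := h01
  have hns : ∀ z : F, Matrix.diagonal D ≠ z • 1 := by
    intro z hz
    have h5 := congrFun (congrFun hz i₀) i₀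
    have h6 := congrFun (congrFun hz i₃) i₃
    simp only [Matrix.diagonal_apply_eq, Matrix.smul_apply, Matrix.one_apply_eq, smul_eq_mul, mul_one] at h5 h6
    rw [hD0] at h5
    rw [hD3] at h6
    exact hζ1 (h5.trans h6.symm)
  refine mk_no_conj f r (Matrix.diagonal D) (by rw [Matrix.det_diagonal, hprod]) ?_ hns ?_
  · rw [hdiag]
    simp [hDr]
  intro PM PI c hPP hPI hc
  -- the eigenbasis
  set y := PI * Matrix.diagonal D * PM with hy
  let b : Basis (Fin n) F (Fin n → F) := (Pi.basisFun F (Fin n)).map (Matrix.toLin'OfInv hPP hPI)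
  have hbi : ∀ i, b i = PI.mulVec (Pi.single i 1) := by
    intro i
    simp only [b, Basis.map_apply, Pi.basisFun_apply]
    rfl
  have hyb : ∀ i, y.mulVec (b i) = D i • b i := by
    intro i
    rw [hbi, hy, Matrix.mulVec_mulVec, Matrix.mul_assoc, Matrix.mul_assoc, hPP, Matrix.mul_one,
      ← Matrix.mulVec_mulVec, ← Matrix.mulVec_smul]
    congr 1
    funext j
    rw [Matrix.mulVec_diagonal, Pi.smul_apply, smul_eq_mul, Pi.single_apply]
    by_cases hj : j = i
    · subst hj
      simp
    · simp [hj]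
  have hrel : ∀ i j, (D i * D j - c) * f (b i) (b j) = 0 := by
    intro i j
    have h5 := hc (b i) (b j)
    rw [hyb, hyb, hf.bilinear.smul_left, hf.bilinear.smul_right] at h5
    rw [sub_mul, mul_assoc, h5, sub_self]
  have hall := hall_form f hf b D c hrel
  -- the values of `D`
  have hcases : ∀ j, (j = i₀ ∨ j = i₁) ∨ j = i₂ ∨ (D j = 1 ∧ j ≠ i₀ ∧ j ≠ i₁ ∧ j ≠ i₂) := by
    intro j
    by_cases h0 : j = i₀
    · exact Or.inl (Or.inl h0)
    by_cases h1 : j = i₁
    · exact Or.inl (Or.inr h1)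
    by_cases h2 : j = i₂
    · exact Or.inr (Or.inl h2)
    exact Or.inr (Or.inr ⟨hDo j h0 h1 h2, h0, h1, h2⟩)
  by_cases hr3' : r = 3
  · -- `u² = ζ`
    subst hr3'
    have huz : u ^ 2 = ζ := by
      linear_combination (-u ^ 2) * hζr + ζ * (u * ζ + 1) * hinv
    have hD2' : D i₂ = ζ := by rw [hD2, huz]
    have hz2 : ζ ^ 2 ≠ 1 := by
      intro h
      have := Nat.le_of_dvd (by norm_num) ((hpow 2).1 h)
      omega
    have hzz : ζ * ζ ≠ ζ := by
      intro h
      exact hζ1 (mul_right_cancel₀ hζ0 (by rw [h, one_mul]))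
    let S : Finset (Fin n) := {i₀, i₁, i₂}
    have hS : ∀ j, j ∈ S → D j = ζ := by
      intro j hj
      simp only [S, Finset.mem_insert, Finset.mem_singleton] at hj
      rcases hj with rfl | rfl | rfl
      · exact hD0
      · exact hD1
      · exact hD2'
    have hSc : ∀ j, j ∉ S → D j = 1 := by
      intro j hj
      simp only [S, Finset.mem_insert, Finset.mem_singleton] at hj
      push Not at hj
      exact hDo j hj.1 hj.2.1 hj.2.2
    have hScard : S.card = 3 := by
      simp only [S]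
      rw [Finset.card_insert_of_notMem (by simp [h01, h02]), Finset.card_pair h12]
    have hk1 : ∃ j, j ≠ i₀ ∧ D i₀ * D j = c := by
      by_contra hno
      push Not at hno
      have h5 := hall {i₀} ∅ (by
        intro i hi j hj hij
        rw [Finset.mem_singleton] at hi
        subst hi
        exact absurd hij (hno j hj))
      simp at h5
    have hk2 : ∃ j, j ≠ i₃ ∧ D i₃ * D j = c := by
      by_contra hno
      push Not at hno
      have h5 := hall {i₃} ∅ (by
        intro i hi j hj hij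
        rw [Finset.mem_singleton] at hi
        subst hi
        exact absurd hij (hno j hj))
      simp at h5
    obtain ⟨j₁, -, hj₁⟩ := hk1
    obtain ⟨j₂, -, hj₂⟩ := hk2
    rw [hD0] at hj₁
    rw [hD3, one_mul] at hj₂
    have hc' : c = ζ := by
      by_cases h1 : j₁ ∈ S
      · rw [hS j₁ h1] at hj₁
        by_cases h2 : j₂ ∈ S
        · rw [hS j₂ h2] at hj₂
          exact hj₂.symm
        · rw [hSc j₂ h2] at hj₂
          rw [← hj₂] at hj₁
          exfalso
          exact hz2 (by rw [pow_two]; exact hj₁)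
      · rw [hSc j₁ h1, mul_one] at hj₁
        exact hj₁.symm
    subst hc'
    have h5 := hall S Sᶜ (by
      intro i hi j _ hij
      rw [hS i hi] at hij
      rw [Finset.mem_compl]
      intro hjS
      rw [hS j hjS] at hij
      exact hzz hij)
    have h6 := hall Sᶜ S (by
      intro i hi j _ hij
      rw [Finset.mem_compl] at hi
      rw [hSc i hi, one_mul] at hij
      by_contra hjS
      rw [hSc j hjS] at hij
      exact hζ1 hij.symm)
    rw [Finset.card_compl, Fintype.card_fin, hScard] at h5 h6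
    exact hgap ⟨by omega, rfl⟩
  · have hr5 : 5 ≤ r := by
      by_contra h
      have h4 : r ≠ 4 := by
        rintro rfl
        exact absurd hrp (by norm_num)
      omega
    have hz3 : ζ ^ 3 ≠ 1 := by
      intro h
      have := Nat.le_of_dvd (by norm_num) ((hpow 3).1 h)
      omega
    have hz4 : ζ ^ 4 ≠ 1 := by
      intro h
      have := Nat.le_of_dvd (by norm_num) ((hpow 4).1 h)
      omega
    have hz2 : ζ ^ 2 ≠ 1 := by
      intro h
      have := Nat.le_of_dvd (by norm_num) ((hpow 2).1 h)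
      omega
    have hkey : ∃ j, j ≠ i₂ ∧ D i₂ * D j = c := by
      by_contra hno
      push Not at hno
      have h5 := hall {i₂} ∅ (by
        intro i hi j hj hij
        rw [Finset.mem_singleton] at hi
        subst hi
        exact absurd hij (hno j hj))
      simp at h5
    obtain ⟨j₀, hj₀, hj₀c⟩ := hkey
    rw [hD2] at hj₀c
    have hc' : c = u ∨ c = u ^ 2 := by
      rcases hcases j₀ with (rfl | rfl) | rfl | ⟨h5, -⟩
      · left
        rw [← hj₀c, hD0]
        linear_combination u * hinv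
      · left
        rw [← hj₀c, hD1]
        linear_combination u * hinv
      · exact absurd rfl hj₀
      · right
        rw [← hj₀c, h5, mul_one]
    rcases hc' with rfl | rfl
    · have h5 := hall {i₀, i₁} {i₂} (by
        have key : ∀ j, ζ * D j = c → j = i₂ := by
          intro j hj
          rcases hcases j with (rfl | rfl) | rfl | ⟨h6, -⟩
          · rw [hD0] at hj
            exact absurd (by linear_combination ζ * hj + hinv) hz3
          · rw [hD1] at hj
            exact absurd (by linear_combination ζ * hj + hinv) hz3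
          · rfl
          · rw [h6, mul_one] at hj
            exact absurd (by linear_combination ζ * hj + hinv) hz2
        intro i hi j _ hij
        rw [Finset.mem_singleton]
        rw [Finset.mem_insert, Finset.mem_singleton] at hi
        rcases hi with rfl | rfl
        · rw [hD0] at hij
          exact key j hij
        · rw [hD1] at hij
          exact key j hij)
      rw [Finset.card_pair h01, Finset.card_singleton] at h5
      omega
    · have h5 := hall {i₀} ∅ (by
        intro i hi j _ hij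
        rw [Finset.mem_singleton] at hi
        subst hi
        rw [hD0] at hij
        exfalso
        rcases hcases j with (rfl | rfl) | rfl | ⟨h6, -⟩
        · rw [hD0] at hij
          exact hz4 (by linear_combination ζ ^ 2 * hij + (ζ * u + 1) * hinv)
        · rw [hD1] at hij
          exact hz4 (by linear_combination ζ ^ 2 * hij + (ζ * u + 1) * hinv)
        · rw [hD2] at hij
          exact hζ1 (by linear_combination ζ ^ 2 * hij - (ζ - 1) * (u * ζ + 1) * hinv)
        · rw [h6, mul_one] at hij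
          exact hz3 (by linear_combination ζ ^ 2 * hij + (u * ζ + 1) * hinv))
      simp at h5

/-- A unipotent element with a single Jordan block of size three. -/
theorem no_conj_char {p : ℕ} [hp : Fact p.Prime] [CharP F p] (hp2 : p ≠ 2)
    (hn : 3 ≤ n) (f : (Fin n → F) → (Fin n → F) → F) (hf : Cfsg.Geo.IsSymplecticForm f) :
    ∃ x : Matrix.SpecialLinearGroup (Fin n) F,
      (∃ z : F, ((x ^ p : Matrix.SpecialLinearGroup (Fin n) F) : Matrix (Fin n) (Fin n) F) = z • (1 : Matrix (Fin n) (Fin n) F)) ∧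
      (∀ z : F, (x : Matrix (Fin n) (Fin n) F) ≠ z • (1 : Matrix (Fin n) (Fin n) F)) ∧
      ∀ P : Matrix.SpecialLinearGroup (Fin n) F, P⁻¹ * x * P ∉ ((Cfsg.Geo.similarityGroup f).comap (Matrix.SpecialLinearGroup.toGL : Matrix.SpecialLinearGroup (Fin n) F →* GL (Fin n) F)) := by
  classical
  have hp3 : 3 ≤ p := by
    have := hp.out.two_le
    omega
  have hne : Nonempty (Fin n) := ⟨⟨0, by omega⟩⟩
  let i₀ : Fin n := ⟨0, by omega⟩
  let i₁ : Fin n := ⟨1, by omega⟩
  let i₂ : Fin n := ⟨2, by omega⟩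
  have h01 : i₀ ≠ i₁ := by simp [i₀, i₁, Fin.ext_iff]
  have h02 : i₀ ≠ i₂ := by simp [i₀, i₂, Fin.ext_iff]
  have h12 : i₁ ≠ i₂ := by simp [i₁, i₂, Fin.ext_iff]
  obtain ⟨N, hN⟩ : ∃ N : Matrix (Fin n) (Fin n) F,
      N = Matrix.single i₀ i₁ 1 + Matrix.single i₁ i₂ 1 + Matrix.single i₀ i₂ 1 := ⟨_, rfl⟩
  have hxt : 1 + N = Matrix.transvection i₀ i₁ (1 : F) * Matrix.transvection i₁ i₂ (1 : F) := by
    rw [hN]
    simp only [Matrix.transvection, Matrix.mul_add, Matrix.add_mul, Matrix.one_mul, Matrix.mul_one,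
      Matrix.single_mul_single_same, mul_one]
    abel
  have hdet : (1 + N).det = 1 := by
    rw [hxt, Matrix.det_mul, Matrix.det_transvection_of_ne _ _ h01, Matrix.det_transvection_of_ne _ _ h12, one_mul]
  have hN2 : N * N = Matrix.single i₀ i₂ 1 := by
    rw [hN]
    simp only [Matrix.mul_add, Matrix.add_mul, Matrix.single_mul_single_same, mul_one]
    simp [Matrix.single_mul_single_of_ne, h01, h01.symm, h02, h02.symm, h12, h12.symm]
  have hN3 : N * N * N = 0 := by
    rw [hN2, hN]
    simp [Matrix.mul_add, Matrix.single_mul_single_of_ne, h01, h01.symm, h02, h02.symm, h12, h12.symm]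
  have hNp : N ^ p = 0 := by
    obtain ⟨k, rfl⟩ := Nat.exists_eq_add_of_le hp3
    rw [pow_add, show N ^ 3 = N * N * N by rw [pow_succ, pow_two], hN3, zero_mul]
  have hxp : (1 + N) ^ p = 1 := by
    have := Matrix.charP (n := Fin n) (R := F) p
    rw [add_pow_char_of_commute p (Commute.one_left N), one_pow, hNp, add_zero]
  have hns : ∀ z : F, (1 + N) ≠ z • 1 := by
    intro z hz
    have h5 := congrFun (congrFun hz i₀) i₁
    have h6 : (Matrix.single i₁ i₂ (1 : F)) i₀ i₁ = 0 := by
      simp [Matrix.single_apply, h01, h01.symm, h12.symm]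
    have h7 : (Matrix.single i₀ i₂ (1 : F)) i₀ i₁ = 0 := by
      simp [Matrix.single_apply, h12, h12.symm]
    rw [hN] at h5
    simp only [Matrix.add_apply, h6, h7, Matrix.smul_apply, Matrix.one_apply_ne h01, smul_zero] at h5
    simp at h5
  refine mk_no_conj f p (1 + N) hdet hxp hns ?_
  intro PM PI c hPP hPI hc
  obtain ⟨A, hA⟩ : ∃ A, A = PI * N * PM := ⟨_, rfl⟩
  have hyA : PI * (1 + N) * PM = 1 + A := by
    rw [Matrix.mul_add, Matrix.add_mul, Matrix.mul_one, hPI, hA]
  rw [hyA] at hc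
  have hA2 : A * A = PI * Matrix.single i₀ i₂ 1 * PM := by
    rw [hA, ← hN2]
    calc PI * N * PM * (PI * N * PM) = PI * N * (PM * PI) * N * PM := by
          simp only [Matrix.mul_assoc]
      _ = _ := by rw [hPP, Matrix.mul_one]; simp only [Matrix.mul_assoc]
  have hA3 : A * A * A = 0 := by
    rw [hA2, hA]
    calc PI * Matrix.single i₀ i₂ 1 * PM * (PI * N * PM) = PI * Matrix.single i₀ i₂ 1 * (PM * PI) * N * PM := by
          simp only [Matrix.mul_assoc]
      _ = PI * (N * N * N) * PM := by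
          rw [hPP, Matrix.mul_one, ← hN2]
          simp only [Matrix.mul_assoc]
      _ = 0 := by rw [hN3]; simp
  have hA3' : A * (A * A) = 0 := by rw [← Matrix.mul_assoc]; exact hA3
  have hAp : (1 + A) ^ p = 1 := by
    have hAp' : A ^ p = 0 := by
      obtain ⟨k, rfl⟩ := Nat.exists_eq_add_of_le hp3
      rw [pow_add, show A ^ 3 = A * A * A by rw [pow_succ, pow_two], hA3, zero_mul]
    have := Matrix.charP (n := Fin n) (R := F) p
    rw [add_pow_char_of_commute p (Commute.one_left A), one_pow, hAp', add_zero]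
  have hcp : c ^ p = 1 := sim_pow f hf (1 + A) c hc p hAp (by omega)
  have hc1 : c = 1 := by
    have h5 : (c - 1) ^ p = 0 := by rw [sub_pow_char, hcp, one_pow, sub_self]
    exact sub_eq_zero.1 ((pow_eq_zero_iff hp.out.ne_zero).1 h5)
  subst hc1
  simp only [one_mul] at hc
  obtain ⟨B, hB⟩ : ∃ B, B = -A + A * A := ⟨_, rfl⟩
  have hyB : (1 + A) * (1 + B) = 1 := by
    rw [hB]
    simp only [Matrix.mul_add, Matrix.add_mul, Matrix.one_mul, Matrix.mul_one, Matrix.mul_neg, Matrix.neg_mul, hA3']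
    abel
  have hadj : ∀ u v, f (A.mulVec u) v = f u (B.mulVec v) := by
    intro u v
    have h5 := hc u ((1 + B).mulVec v)
    rw [Matrix.mulVec_mulVec, hyB, Matrix.one_mulVec, Matrix.add_mulVec, Matrix.add_mulVec, Matrix.one_mulVec,
      Matrix.one_mulVec, hf.bilinear.add_left, hf.bilinear.add_right] at h5
    exact add_left_cancel h5
  have hBB : B * B = A * A := by
    rw [hB]
    simp only [Matrix.mul_add, Matrix.add_mul, Matrix.mul_neg, Matrix.neg_mul, neg_neg, hA3', hA3, Matrix.zero_mul,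
      Matrix.mul_zero, neg_zero, add_zero, zero_add]
    have : A * A * (A * A) = 0 := by rw [← Matrix.mul_assoc, hA3, Matrix.zero_mul]
    rw [this, add_zero]
  have hadj2 : ∀ u v, f ((A * A).mulVec u) v = f u ((A * A).mulVec v) := by
    intro u v
    rw [← Matrix.mulVec_mulVec, hadj, hadj, ← hBB, Matrix.mulVec_mulVec]
  have h20 : (2 : F) ≠ 0 := by
    intro h
    have h5 : ((2 : ℕ) : F) = 0 := by exact_mod_cast h
    have h6 : p ∣ 2 := (CharP.cast_eq_zero_iff F p 2).1 h5
    exact hp2 ((Nat.prime_dvd_prime_iff_eq hp.out Nat.prime_two).1 h6)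
  have hzero : ∀ u, f ((A * A).mulVec u) u = 0 := by
    intro u
    have h5 := hadj2 u u
    have h7 := hf.skew u ((A * A).mulVec u)
    have h6 : (2 : F) * f ((A * A).mulVec u) u = 0 := by
      linear_combination h5 + h7
    exact (mul_eq_zero.1 h6).resolve_left h20
  obtain ⟨w, hw⟩ : ∃ w, w = PI.mulVec (Pi.single i₀ (1 : F)) := ⟨_, rfl⟩
  have hM : ∀ u, (A * A).mulVec u = (PM.mulVec u) i₂ • w := by
    intro u
    rw [hA2, ← Matrix.mulVec_mulVec, ← Matrix.mulVec_mulVec, Matrix.single_mulVec_eq, one_mul, Matrix.mulVec_smul, hw]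
  have hw0 : w ≠ 0 := by
    intro h
    have h5 : PM.mulVec w = Pi.single i₀ (1 : F) := by
      rw [hw, Matrix.mulVec_mulVec, hPP, Matrix.one_mulVec]
    rw [h, Matrix.mulVec_zero] at h5
    have h6 := congrFun h5 i₀
    simp at h6
  have hprod : ∀ u, (PM.mulVec u) i₂ * f w u = 0 := by
    intro u
    have h5 := hzero u
    rwa [hM, hf.bilinear.smul_left] at h5
  obtain ⟨u₂, hu₂⟩ := (hf.nondegenerate w hw0).2
  obtain ⟨u₁, hu₁⟩ : ∃ u₁, u₁ = PI.mulVec (Pi.single i₂ (1 : F)) := ⟨_, rfl⟩
  have hl1 : (PM.mulVec u₁) i₂ = 1 := by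
    rw [hu₁, Matrix.mulVec_mulVec, hPP, Matrix.one_mulVec]
    simp
  have hf1 : f w u₁ = 0 := by
    have h5 := hprod u₁
    rwa [hl1, one_mul] at h5
  have hl2 : (PM.mulVec u₂) i₂ = 0 := (mul_eq_zero.1 (hprod u₂)).resolve_right hu₂
  have h5 := hprod (u₁ + u₂)
  rw [Matrix.mulVec_add, Pi.add_apply, hl1, hl2, add_zero, one_mul, hf.bilinear.add_right, hf1, zero_add] at h5
  exact hu₂ h5

end Main

end Cfsg.Agent.H29
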