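import Mathlib

/-! Fixed-point-free automorphisms of order three: splitting and class at most two. -/

set_option autoImplicit false

namespace Cfsg.Agent.H29.Fpf3

open scoped commutatorElement

variable {Q : Type*} [Group Q]

/-- The splitting identity of a fixed-point-free automorphism of order three. -/
theorem split_of_fpf [Finite Q] (σ : Q ≃* Q) (h3 : ∀ x, σ (σ (σ x)) = x)
    (hf : ∀ x, σ x = x → x = 1) (x : Q) : x * σ x * σ (σ x) = 1 := by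
  have hinj : Function.Injective (fun a : Q => a⁻¹ * σ a) := by
    intro a b h
    have h1 : a⁻¹ * σ a = b⁻¹ * σ b := h
    have h2 : σ (b * a⁻¹) = b * a⁻¹ := by
      rw [map_mul, map_inv]
      have h3 : σ a = a * (b⁻¹ * σ b) := by
        rw [← h1]; group
      rw [h3]
      group
    have h4 := hf _ h2
    have h5 : b = a := by
      have := mul_inv_eq_one.1 h4
      exact this
    exact h5.symm
  obtain ⟨a, rfl⟩ := (Finite.surjective_of_injective hinj) x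
  simp only [map_mul, map_inv, h3]
  group

/-- Elements commute with their images. -/
theorem comm_of_split (σ : Q ≃* Q) (hs : ∀ x : Q, x * σ x * σ (σ x) = 1)
    (h3 : ∀ x, σ (σ (σ x)) = x) (x : Q) : x * σ x = σ x * x := by
  have h1 := hs (x * σ x)
  simp only [map_mul, h3] at h1
  have h2 := hs x
  have h2' := hs (σ x)
  have h2'' := hs (σ (σ x))
  simp only [h3] at h2' h2''
  -- x σx · σx σ²x · σ²x x = 1
  have e1 : σ x * σ (σ x) = x⁻¹ := by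
    have : σ x * σ (σ x) * x = 1 := h2'
    exact eq_inv_of_mul_eq_one_left this
  have e2 : σ (σ x) * x = (σ x)⁻¹ := by
    have : σ (σ x) * x * σ x = 1 := h2''
    exact eq_inv_of_mul_eq_one_left this
  have e3 : x * σ x = (σ (σ x))⁻¹ := by
    exact eq_inv_of_mul_eq_one_left h2
  have h4 : x * σ x * (σ x * σ (σ x)) * (σ (σ x) * x) = 1 := h1
  rw [e1, e2, e3] at h4
  -- (σ²x)⁻¹ x⁻¹ (σx)⁻¹ = 1
  have h5 : σ x * x * σ (σ x) = 1 := by
    have h6 : (σ x * x * σ (σ x))⁻¹ = 1 := by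
      rw [mul_inv_rev, mul_inv_rev]
      have : (σ (σ x))⁻¹ * (x⁻¹ * (σ x)⁻¹) = (σ (σ x))⁻¹ * x⁻¹ * (σ x)⁻¹ := by group
      rw [this]
      exact h4
    exact inv_eq_one.1 h6
  have h7 : x * σ x * σ (σ x) = σ x * x * σ (σ x) := by rw [h2, h5]
  exact mul_right_cancel h7

section Class3

lemma comm_mul_left (a b z : Q) (h : ⁅b, z⁆ ∈ Subgroup.center Q) : ⁅a * b, z⁆ = ⁅b, z⁆ * ⁅a, z⁆ := by
  have h' := (Subgroup.mem_center_iff.1 h a).symm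
  simp only [commutatorElement_def] at h' ⊢
  calc a * b * z * (a * b)⁻¹ * z⁻¹ = (a * (b * z * b⁻¹ * z⁻¹)) * z * a⁻¹ * z⁻¹ := by group
    _ = ((b * z * b⁻¹ * z⁻¹) * a) * z * a⁻¹ * z⁻¹ := by rw [h']
    _ = _ := by group

lemma comm_central_left (p q z : Q) (hp : p ∈ Subgroup.center Q) : ⁅p * q, z⁆ = ⁅q, z⁆ := by
  have h1 := (Subgroup.mem_center_iff.1 hp q).symm
  have h2 := (Subgroup.mem_center_iff.1 hp z).symm
  simp only [commutatorElement_def]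
  calc p * q * z * (p * q)⁻¹ * z⁻¹ = p * (q * z) * q⁻¹ * p⁻¹ * z⁻¹ := by group
    _ = q * (p * z) * q⁻¹ * p⁻¹ * z⁻¹ := by rw [← mul_assoc p, h1]; group
    _ = q * (z * p) * q⁻¹ * p⁻¹ * z⁻¹ := by rw [h2]
    _ = q * z * q⁻¹ * (q * p * q⁻¹) * p⁻¹ * z⁻¹ := by group
    _ = q * z * q⁻¹ * ((p * q) * q⁻¹) * p⁻¹ * z⁻¹ := by rw [h1]
    _ = _ := by group

lemma comm_inv_left_of (a z : Q) (h : ⁅a, z⁆ ∈ Subgroup.center Q) : ⁅a⁻¹, z⁆ = ⁅a, z⁆⁻¹ := by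
  have h1 := comm_mul_left a⁻¹ a z h
  rw [inv_mul_cancel, commutatorElement_one_left] at h1
  exact (eq_inv_of_mul_eq_one_right h1.symm)

lemma T_one_left (y z : Q) : ⁅⁅(1 : Q), y⁆, z⁆ = 1 := by
  simp

variable (hcen : ∀ x y z : Q, ⁅⁅x, y⁆, z⁆ ∈ Subgroup.center Q)
include hcen

lemma T_comm (x y z u v : Q) : ⁅⁅x, y⁆, z⁆ * ⁅⁅u, v⁆, x⁆ = ⁅⁅u, v⁆, x⁆ * ⁅⁅x, y⁆, z⁆ :=
  (Subgroup.mem_center_iff.1 (hcen x y z) _).symm

lemma T_mul_left (x y w z : Q) : ⁅⁅x * y, w⁆, z⁆ = ⁅⁅x, w⁆, z⁆ * ⁅⁅y, w⁆, z⁆ := by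
  have h1 : ⁅x * y, w⁆ = ⁅x, ⁅y, w⁆⁆ * (⁅y, w⁆ * ⁅x, w⁆) := by
    simp only [commutatorElement_def]
    group
  have h2 : ⁅x, ⁅y, w⁆⁆ = (⁅⁅y, w⁆, x⁆)⁻¹ := by
    simp only [commutatorElement_def]
    group
  rw [h1, comm_central_left _ _ _ (by rw [h2]; exact Subgroup.inv_mem _ (hcen y w x)),
    comm_mul_left _ _ _ (hcen x w z)]

lemma T_swap (x y z : Q) : ⁅⁅y, x⁆, z⁆ = (⁅⁅x, y⁆, z⁆)⁻¹ := by
  have h1 : ⁅y, x⁆ = ⁅x, y⁆⁻¹ := (commutatorElement_inv x y).symm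
  rw [h1]
  exact comm_inv_left_of _ _ (hcen x y z)

lemma T_mul_mid (w x y z : Q) : ⁅⁅w, x * y⁆, z⁆ = ⁅⁅w, x⁆, z⁆ * ⁅⁅w, y⁆, z⁆ := by
  rw [T_swap hcen (x * y) w z, T_mul_left hcen, mul_inv_rev, ← T_swap hcen x w z, ← T_swap hcen y w z]
  exact (Subgroup.mem_center_iff.1 (hcen w y z) _).symm

lemma T_inv_left (x y z : Q) : ⁅⁅x⁻¹, y⁆, z⁆ = (⁅⁅x, y⁆, z⁆)⁻¹ := by
  have h1 := T_mul_left hcen x⁻¹ x y z
  rw [inv_mul_cancel, T_one_left] at h1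
  exact (eq_inv_of_mul_eq_one_left h1.symm)

/-- The Jacobi identity in class three. -/
lemma jacobi (a b c : Q) : ⁅⁅a, b⁆, c⁆ * ⁅⁅b, c⁆, a⁆ * ⁅⁅c, a⁆, b⁆ = 1 := by
  have h := conj_commutatorElement_left_commutatorElement_mul a b c
  have e : ∀ (u v w t : Q), t * ⁅⁅u, v⁆, w⁆ * t⁻¹ = ⁅⁅u, v⁆, w⁆ := by
    intro u v w t
    rw [(Subgroup.mem_center_iff.1 (hcen u v w) t)]
    group
  have h2 : (a * ⁅⁅a⁻¹, b⁆, c⁆ * a⁻¹) * (c * ⁅⁅c⁻¹, a⁆, b⁆ * c⁻¹) * (b * ⁅⁅b⁻¹, c⁆, a⁆ * b⁻¹) = 1 := by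
    rw [← h]; group
  rw [e, e, e, T_inv_left hcen, T_inv_left hcen, T_inv_left hcen] at h2
  have h3 : (⁅⁅a, b⁆, c⁆ * ⁅⁅b, c⁆, a⁆ * ⁅⁅c, a⁆, b⁆)⁻¹ = 1 := by
    rw [mul_inv_rev, mul_inv_rev]
    have hc1 := (Subgroup.mem_center_iff.1 (hcen c a b) (⁅⁅b, c⁆, a⁆)⁻¹)
    have hc2 : (⁅⁅c, a⁆, b⁆)⁻¹ * ((⁅⁅b, c⁆, a⁆)⁻¹ * (⁅⁅a, b⁆, c⁆)⁻¹) = (⁅⁅a, b⁆, c⁆)⁻¹ * (⁅⁅c, a⁆, b⁆)⁻¹ * (⁅⁅b, c⁆, a⁆)⁻¹ := by
      have c1 := Subgroup.mem_center_iff.1 (Subgroup.inv_mem _ (hcen a b c))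
      have c2 := Subgroup.mem_center_iff.1 (Subgroup.inv_mem _ (hcen b c a))
      rw [← mul_assoc, c1, mul_assoc]
    rw [hc2]
    exact h2
  exact inv_eq_one.1 h3

variable (σ : Q ≃* Q) (h3 : ∀ x, σ (σ (σ x)) = x) (hsc : ∀ x : Q, x * σ x = σ x * x)
  (hf : ∀ x, σ x = x → x = 1)
include hsc

/-- Polarised commuting relation in the third term. -/
lemma T_sigma_mid (x y z : Q) : ⁅⁅σ x, y⁆, z⁆ = ⁅⁅x, σ y⁆, z⁆ := by
  have h1 : ⁅x * y, σ (x * y)⁆ = 1 := by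
    rw [commutatorElement_eq_one_iff_mul_comm]
    exact hsc _
  have h2 : ⁅⁅x * y, σ (x * y)⁆, z⁆ = 1 := by rw [h1]; simp
  have zero : ∀ u : Q, ⁅⁅u, σ u⁆, z⁆ = 1 := by
    intro u
    have : ⁅u, σ u⁆ = 1 := by
      rw [commutatorElement_eq_one_iff_mul_comm]
      exact hsc _
    rw [this]; simp
  rw [map_mul, T_mul_left hcen, T_mul_mid hcen, T_mul_mid hcen, zero x, zero y, one_mul, mul_one] at h2
  have h3' : ⁅⁅y, σ x⁆, z⁆ = (⁅⁅σ x, y⁆, z⁆)⁻¹ := T_swap hcen _ _ _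
  rw [h3'] at h2
  have h4 := mul_inv_eq_one.1 h2
  exact h4.symm

/-- The third slot relation. -/
lemma T_sigma_last (x y z : Q) : ⁅⁅x, y⁆, σ z⁆ = ⁅σ ⁅x, y⁆, z⁆ := by
  set a := ⁅x, y⁆ with ha
  have h0 : a * σ a = σ a * a := hsc a
  have h1 : (a * z) * σ (a * z) = σ (a * z) * (a * z) := hsc _
  rw [map_mul] at h1
  have c1 : ⁅z, σ a⁆ ∈ Subgroup.center Q := by
    have : σ a = ⁅σ x, σ y⁆ := by rw [ha, map_commutatorElement]
    rw [this]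
    have e : ⁅z, ⁅σ x, σ y⁆⁆ = (⁅⁅σ x, σ y⁆, z⁆)⁻¹ := (commutatorElement_inv _ _).symm
    rw [e]
    exact Subgroup.inv_mem _ (hcen _ _ _)
  have c2 : ⁅σ z, a⁆ ∈ Subgroup.center Q := by
    have e : ⁅σ z, a⁆ = (⁅a, σ z⁆)⁻¹ := (commutatorElement_inv _ _).symm
    rw [e]
    exact Subgroup.inv_mem _ (hcen _ _ _)
  -- expand
  have e1 : z * σ a = ⁅z, σ a⁆ * (σ a * z) := by
    simp only [commutatorElement_def]; group
  have e2 : σ z * a = ⁅σ z, a⁆ * (a * σ z) := by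
    simp only [commutatorElement_def]; group
  have h2 : a * z * (σ a * σ z) = ⁅z, σ a⁆ * (a * σ a * (z * σ z)) := by
    calc a * z * (σ a * σ z) = a * (z * σ a) * σ z := by group
      _ = a * (⁅z, σ a⁆ * (σ a * z)) * σ z := by rw [e1]
      _ = (a * ⁅z, σ a⁆) * (σ a * z) * σ z := by group
      _ = (⁅z, σ a⁆ * a) * (σ a * z) * σ z := by rw [Subgroup.mem_center_iff.1 c1 a]
      _ = _ := by group
  have h3' : σ a * σ z * (a * z) = ⁅σ z, a⁆ * (a * σ a * (z * σ z)) := by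
    calc σ a * σ z * (a * z) = σ a * (σ z * a) * z := by group
      _ = σ a * (⁅σ z, a⁆ * (a * σ z)) * z := by rw [e2]
      _ = (σ a * ⁅σ z, a⁆) * (a * σ z) * z := by group
      _ = (⁅σ z, a⁆ * σ a) * (a * σ z) * z := by rw [Subgroup.mem_center_iff.1 c2 (σ a)]
      _ = ⁅σ z, a⁆ * ((σ a * a) * (σ z * z)) := by group
      _ = _ := by rw [← h0, ← hsc z]
  rw [h2, h3'] at h1
  have h4 : ⁅z, σ a⁆ = ⁅σ z, a⁆ := mul_right_cancel h1
  -- invert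
  have h5 : ⁅a, σ z⁆ = (⁅σ z, a⁆)⁻¹ := (commutatorElement_inv _ _).symm
  have h6 : ⁅σ a, z⁆ = (⁅z, σ a⁆)⁻¹ := (commutatorElement_inv _ _).symm
  rw [h5, h6, h4]

include h3

/-- The action on the third term. -/
lemma T_sigma (x y z : Q) : σ ⁅⁅x, y⁆, z⁆ = ⁅⁅σ x, y⁆, z⁆ := by
  have h1 : σ ⁅⁅x, y⁆, z⁆ = ⁅⁅σ x, σ y⁆, σ z⁆ := by
    rw [map_commutatorElement, map_commutatorElement]
  rw [h1, T_sigma_last hcen σ hsc, map_commutatorElement]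
  rw [← T_sigma_mid hcen σ hsc (σ (σ x)) (σ y) z, h3, ← T_sigma_mid hcen σ hsc x y z]

include hf

/-- The third term is trivial. -/
theorem T_eq_one (x y z : Q) : ⁅⁅y, z⁆, x⁆ = 1 := by
  apply hf
  set A := ⁅⁅x, y⁆, z⁆ with hA
  set B := ⁅⁅y, z⁆, x⁆ with hB
  set C := ⁅⁅z, x⁆, y⁆ with hC
  have hJ : A * B * C = 1 := jacobi hcen x y z
  have hJ1 : ⁅⁅σ x, y⁆, z⁆ * ⁅⁅y, z⁆, σ x⁆ * ⁅⁅z, σ x⁆, y⁆ = 1 := jacobi hcen (σ x) y z
  have e1 : ⁅⁅σ x, y⁆, z⁆ = σ A := (T_sigma hcen σ h3 hsc x y z).symm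
  have e2 : ⁅⁅y, z⁆, σ x⁆ = σ (σ B) := by
    rw [T_sigma_last hcen σ hsc, map_commutatorElement, ← T_sigma_mid hcen σ hsc (σ y) z x,
      ← T_sigma hcen σ h3 hsc, ← T_sigma hcen σ h3 hsc]
  have e3 : ⁅⁅z, σ x⁆, y⁆ = σ C := by
    rw [← T_sigma_mid hcen σ hsc z x y, T_sigma hcen σ h3 hsc]
  rw [e1, e2, e3] at hJ1
  have hJ2 : σ A * σ B * σ C = 1 := by
    rw [← map_mul, ← map_mul, hJ, map_one]
  have h4 : σ A * σ (σ B) * σ C = σ A * σ B * σ C := by rw [hJ1, hJ2]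
  have h5 := mul_left_cancel (mul_right_cancel h4)
  exact σ.injective h5

end Class3

/-- Class at most two for a fixed-point-free automorphism of order three of a nilpotent group. -/
theorem class_two [Finite Q] [hnil : Group.IsNilpotent Q] (σ : Q ≃* Q) (h3 : ∀ x, σ (σ (σ x)) = x)
    (hf : ∀ x, σ x = x → x = 1) (x y z : Q) : ⁅⁅x, y⁆, z⁆ = 1 := by
  classical
  have hs := split_of_fpf σ h3 hf
  have hsc := comm_of_split σ hs h3
  have hinv : ∀ i : ℕ, (Subgroup.upperCentralSeries Q i).map σ.toMonoidHom = Subgroup.upperCentralSeries Q i := by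
    intro i
    exact Subgroup.characteristic_iff_map_eq.1 inferInstance σ
  have hstep : ∀ i : ℕ, (∀ x y z : Q, ⁅⁅x, y⁆, z⁆ ∈ Subgroup.upperCentralSeries Q (i + 1)) →
      ∀ x y z : Q, ⁅⁅x, y⁆, z⁆ ∈ Subgroup.upperCentralSeries Q i := by
    intro i hi
    let N : Subgroup Q := Subgroup.upperCentralSeries Q i
    haveI hNn : N.Normal := inferInstanceAs (Subgroup.upperCentralSeries Q i).Normal
    let σb : (Q ⧸ N) ≃* (Q ⧸ N) := QuotientGroup.congr N N σ (hinv i)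
    have hσb : ∀ a : Q, σb (a : Q ⧸ N) = (σ a : Q ⧸ N) := fun a => rfl
    have h3b : ∀ a : Q ⧸ N, σb (σb (σb a)) = a := by
      intro a
      obtain ⟨a, rfl⟩ := QuotientGroup.mk_surjective a
      rw [hσb, hσb, hσb, h3]
    have hscb : ∀ a : Q ⧸ N, a * σb a = σb a * a := by
      intro a
      obtain ⟨a, rfl⟩ := QuotientGroup.mk_surjective a
      rw [hσb, ← QuotientGroup.mk_mul, ← QuotientGroup.mk_mul, hsc]
    have hσN : ∀ n ∈ N, σ n ∈ N := by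
      intro n hn
      have : σ n ∈ N.map σ.toMonoidHom := ⟨n, hn, rfl⟩
      rwa [hinv i] at this
    have hfb : ∀ a : Q ⧸ N, σb a = a → a = 1 := by
      intro a
      obtain ⟨a, rfl⟩ := QuotientGroup.mk_surjective a
      intro h
      rw [hσb, QuotientGroup.eq] at h
      have hinj : Function.Injective (fun m : N => (⟨(m : Q)⁻¹ * σ (m : Q), N.mul_mem (N.inv_mem m.2) (hσN _ m.2)⟩ : N)) := by
        intro m m' h'
        have h1 : (m : Q)⁻¹ * σ (m : Q) = (m' : Q)⁻¹ * σ (m' : Q) := congrArg Subtype.val h'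
        have h2 : σ ((m' : Q) * (m : Q)⁻¹) = (m' : Q) * (m : Q)⁻¹ := by
          rw [map_mul, map_inv]
          have h4 : σ (m : Q) = (m : Q) * ((m' : Q)⁻¹ * σ (m' : Q)) := by
            rw [← h1]; group
          rw [h4]
          group
        have h5 := hf _ h2
        apply Subtype.ext
        have := mul_inv_eq_one.1 h5
        exact this.symm
      -- solve `m⁻¹ σ m = (σ a)⁻¹ a`
      obtain ⟨m, hm⟩ := (Finite.surjective_of_injective hinj) ⟨_, N.inv_mem h⟩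
      have hm' : (m : Q)⁻¹ * σ (m : Q) = ((σ a)⁻¹ * a)⁻¹ := congrArg Subtype.val hm
      have hfix : σ (a * (m : Q)⁻¹) = a * (m : Q)⁻¹ := by
        rw [map_mul, map_inv]
        have h4 : σ (m : Q) = (m : Q) * ((σ a)⁻¹ * a)⁻¹ := by
          rw [← hm']; group
        rw [h4]
        group
      have h5 := hf _ hfix
      have h6 : a = m := mul_inv_eq_one.1 h5
      rw [QuotientGroup.eq_one_iff, h6]
      exact m.2
    have hcenb : ∀ a b c : Q ⧸ N, ⁅⁅a, b⁆, c⁆ ∈ Subgroup.center (Q ⧸ N) := by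
      intro a b c
      obtain ⟨a, rfl⟩ := QuotientGroup.mk_surjective a
      obtain ⟨b, rfl⟩ := QuotientGroup.mk_surjective b
      obtain ⟨c, rfl⟩ := QuotientGroup.mk_surjective c
      rw [Subgroup.mem_center_iff]
      intro d
      obtain ⟨d, rfl⟩ := QuotientGroup.mk_surjective d
      have h1 := Subgroup.mem_upperCentralSeries_succ_iff.1 (hi a b c) d
      have h2 : ((⁅(⁅⁅a, b⁆, c⁆ : Q), d⁆ : Q) : Q ⧸ N) = 1 := (QuotientGroup.eq_one_iff _).2 h1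
      have h3' : ⁅((⁅⁅a, b⁆, c⁆ : Q) : Q ⧸ N), (d : Q ⧸ N)⁆ = 1 := h2
      rw [commutatorElement_eq_one_iff_mul_comm] at h3'
      exact h3'.symm
    intro x y z
    have h1 := T_eq_one hcenb σb h3b hscb hfb (z : Q ⧸ N) (x : Q ⧸ N) (y : Q ⧸ N)
    have h2 : ((⁅⁅x, y⁆, z⁆ : Q) : Q ⧸ N) = 1 := h1
    exact (QuotientGroup.eq_one_iff _).1 h2
  obtain ⟨n, hn⟩ := hnil.nilpotent
  have hall : ∀ k : ℕ, k ≤ n → ∀ x y z : Q, ⁅⁅x, y⁆, z⁆ ∈ Subgroup.upperCentralSeries Q (n - k) := by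
    intro k
    induction k with
    | zero => intro _ x y z; simp [hn]
    | succ k ih =>
      intro hk x y z
      have h1 := ih (by omega)
      have h2 : n - k = (n - (k + 1)) + 1 := by omega
      rw [h2] at h1
      exact hstep _ h1 x y z
  have h0 := hall n le_rfl x y z
  simpa using h0

end Cfsg.Agent.H29.Fpf3
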