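import Mathlib
import Cfsg.Agent.Lib.H29.FpfThree
import Cfsg.Agent.Lib.H01.Hall
import Cfsg.Agent.Lib.H15.Cyc2
import Cfsg.Agent.Lib.H19.SameOrder
import Cfsg.Agent.Lib.Lead.CardSL

/-! Groups of order 64 with a fixed-point-free automorphism of order three. -/

set_option autoImplicit false

namespace Cfsg.Agent.H29.Ord64

open scoped commutatorElement

variable {T : Type*} [Group T]

/-- A fixed-point-free automorphism of order three of a group of class at most two. -/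
structure FpfData (σ : T ≃* T) : Prop where
  h3 : ∀ y, σ (σ (σ y)) = y
  hf : ∀ y, σ y = y → y = 1
  hs : ∀ y, y * σ y * σ (σ y) = 1
  hsc : ∀ y, y * σ y = σ y * y
  hcl : ∀ a b c : T, ⁅⁅a, b⁆, c⁆ = 1

theorem FpfData.of_fin [Finite T] [Group.IsNilpotent T] (σ : T ≃* T) (h3 : ∀ y, σ (σ (σ y)) = y)
    (hf : ∀ y, σ y = y → y = 1) : FpfData σ :=
  ⟨h3, hf, Fpf3.split_of_fpf σ h3 hf, Fpf3.comm_of_split σ (Fpf3.split_of_fpf σ h3 hf) h3,
    fun a b c => Fpf3.class_two σ h3 hf a b c⟩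

namespace FpfData

variable {σ : T ≃* T} (D : FpfData σ)
include D

theorem cen (a b : T) : ⁅a, b⁆ ∈ Subgroup.center T := by
  rw [Subgroup.mem_center_iff]
  intro c
  have := D.hcl a b c
  rw [commutatorElement_eq_one_iff_mul_comm] at this
  exact this.symm

theorem ml (a b c : T) : ⁅a * b, c⁆ = ⁅a, c⁆ * ⁅b, c⁆ := by
  rw [Fpf3.comm_mul_left a b c (D.cen b c)]
  exact (Subgroup.mem_center_iff.1 (D.cen a c) _)

omit D in
theorem swap (a b : T) : ⁅b, a⁆ = ⁅a, b⁆⁻¹ := (commutatorElement_inv a b).symm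

theorem mr (a b c : T) : ⁅a, b * c⁆ = ⁅a, b⁆ * ⁅a, c⁆ := by
  rw [swap (b * c) a, D.ml, mul_inv_rev, ← swap b a, ← swap c a]
  exact (Subgroup.mem_center_iff.1 (D.cen a b) _)

theorem sq (a b : T) : (a * b) ^ 2 = a ^ 2 * b ^ 2 * ⁅b, a⁆ := by
  have h1 : b * a = ⁅b, a⁆ * (a * b) := by
    simp only [commutatorElement_def]; group
  have h2 := Subgroup.mem_center_iff.1 (D.cen b a)
  calc (a * b) ^ 2 = a * (b * a) * b := by simp only [pow_two, mul_assoc]
    _ = a * (⁅b, a⁆ * (a * b)) * b := by rw [← h1]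
    _ = (a * ⁅b, a⁆) * (a * b) * b := by simp only [mul_assoc]
    _ = (⁅b, a⁆ * a) * (a * b) * b := by rw [h2 a]
    _ = ⁅b, a⁆ * (a ^ 2 * b ^ 2) := by simp only [pow_two, mul_assoc]
    _ = a ^ 2 * b ^ 2 * ⁅b, a⁆ := by rw [h2 (a ^ 2 * b ^ 2)]

omit D in
theorem map_cen (σ : T ≃* T) {z : T} (hz : z ∈ Subgroup.center T) : σ z ∈ Subgroup.center T := by
  rw [Subgroup.mem_center_iff] at hz ⊢
  intro g
  obtain ⟨g, rfl⟩ := σ.surjective g
  rw [← map_mul, ← map_mul, hz g]

omit D in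
theorem map_comm (σ : T ≃* T) (a b : T) : σ ⁅a, b⁆ = ⁅σ a, σ b⁆ := by
  simp only [commutatorElement_def, map_mul, map_inv]

omit D in
private theorem central_aux {a b c d : T} (ha : a ∈ Subgroup.center T) (hb : b ∈ Subgroup.center T)
    (hc : c ∈ Subgroup.center T) (hd : d ∈ Subgroup.center T) (h : a * (b * c)⁻¹ * d = 1) :
    b * d⁻¹ = a * c⁻¹ := by
  rw [Subgroup.mem_center_iff] at ha hb hc hd
  have h1 : a * d = b * c := by
    have h2 : a * (b * c)⁻¹ * d = a * d * (b * c)⁻¹ := by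
      rw [mul_assoc, mul_assoc, hd (b * c)⁻¹]
    rw [h2] at h
    exact mul_inv_eq_one.1 h
  have h3 : d * c⁻¹ = c⁻¹ * d := (Subgroup.mem_center_iff.1
    (Subgroup.inv_mem _ (Subgroup.mem_center_iff.2 hc)) d)
  have h4 : b = a * d * c⁻¹ := by rw [h1]; group
  rw [h4, mul_assoc a d, h3]
  group

theorem bal_r (a b : T) : ⁅a, σ b⁆ = σ (σ ⁅a, b⁆) := by
  have row : ⁅a, b⁆ * ⁅a, σ b⁆ * ⁅a, σ (σ b)⁆ = 1 := by
    rw [← D.mr, ← D.mr, D.hs b]
    simp [commutatorElement_def]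
  have col : ⁅a, b⁆ * ⁅σ a, b⁆ * ⁅σ (σ a), b⁆ = 1 := by
    rw [← D.ml, ← D.ml, D.hs a]
    simp [commutatorElement_def]
  have e1 : ⁅σ a, b⁆ = σ ⁅a, σ (σ b)⁆ := by rw [map_comm, D.h3]
  have e2 : ⁅σ (σ a), b⁆ = σ (σ ⁅a, σ b⁆) := by rw [map_comm, map_comm, D.h3]
  have m02 : ⁅a, σ (σ b)⁆ = (⁅a, b⁆ * ⁅a, σ b⁆)⁻¹ := by
    rw [eq_inv_iff_mul_eq_one, ← row]
    have : ⁅a, σ (σ b)⁆ ∈ Subgroup.center T := D.cen _ _
    rw [Subgroup.mem_center_iff] at this
    rw [this]
  rw [e1, e2, m02, map_inv, map_mul] at col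
  have key := central_aux (D.cen a b) (map_cen σ (D.cen a b)) (map_cen σ (D.cen a (σ b)))
    (map_cen σ (map_cen σ (D.cen a (σ b)))) col
  have hfix : σ (⁅a, b⁆ * (σ ⁅a, σ b⁆)⁻¹) = ⁅a, b⁆ * (σ ⁅a, σ b⁆)⁻¹ := by
    rw [map_mul, map_inv, key]
  have h1 := D.hf _ hfix
  have h2 : ⁅a, b⁆ = σ ⁅a, σ b⁆ := mul_inv_eq_one.1 h1
  rw [h2, D.h3]

theorem bal_l (a b : T) : ⁅σ a, b⁆ = σ (σ ⁅a, b⁆) := by
  rw [swap b (σ a), D.bal_r, swap a b, map_inv, map_inv, inv_inv]

theorem fpf2 (y : T) (h : σ (σ y) = y) : y = 1 := by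
  apply D.hf
  have := congrArg σ h
  rw [D.h3] at this
  exact this.symm

theorem inv_l (a b : T) : ⁅a⁻¹, b⁆ = ⁅a, b⁆⁻¹ := by
  apply eq_inv_of_mul_eq_one_left
  rw [← D.ml]
  simp [commutatorElement_def]

theorem inv_r (a b : T) : ⁅a, b⁻¹⁆ = ⁅a, b⁆⁻¹ := by
  apply eq_inv_of_mul_eq_one_left
  rw [← D.mr]
  simp [commutatorElement_def]

end FpfData


section card64

theorem card_fix_mod3 {X : Type*} [Finite X] (f : Equiv.Perm X) (hf : f ^ 3 = 1) :
    Nat.card X ≡ Nat.card {x // f x = x} [MOD 3] := by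
  classical
  haveI := Fintype.ofFinite X
  haveI : Fact (Nat.Prime 3) := ⟨Nat.prime_three⟩
  let f' : Function.End X := (f : X → X)
  have hpow : ∀ n x, (f' ^ n) x = (f ^ n) x := by
    intro n
    induction n with
    | zero => intro x; rfl
    | succ n ih =>
      intro x
      rw [pow_succ, pow_succ]
      show (f' ^ n) (f' x) = (f ^ n) (f x)
      rw [ih]
  have hf' : f' ^ 3 ^ 1 = 1 := by
    funext x
    rw [pow_one, hpow, hf]
    rfl
  have h := Equiv.Perm.card_fixedPoints_modEq (f := f') (p := 3) (n := 1) hf'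
  rw [← Nat.card_eq_fintype_card, ← Nat.card_eq_fintype_card] at h
  exact h

variable {σ : T ≃* T}

theorem center_mod3 [Finite T] (D : FpfData σ) : Nat.card (Subgroup.center T) ≡ 1 [MOD 3] := by
  classical
  let f : Equiv.Perm (Subgroup.center T) :=
    { toFun := fun z => ⟨σ z.1, FpfData.map_cen σ z.2⟩
      invFun := fun z => ⟨σ (σ z.1), FpfData.map_cen σ (FpfData.map_cen σ z.2)⟩
      left_inv := fun z => Subtype.ext (D.h3 z.1)
      right_inv := fun z => Subtype.ext (D.h3 z.1) }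
  have hf : f ^ 3 = 1 := by
    ext z
    show σ (σ (σ z.1)) = z.1
    exact D.h3 z.1
  have h := card_fix_mod3 f hf
  have h1 : Nat.card {x // f x = x} = 1 := by
    rw [Nat.card_eq_one_iff_unique]
    refine ⟨⟨?_⟩, ⟨⟨1, ?_⟩⟩⟩
    · rintro ⟨a, ha⟩ ⟨b, hb⟩
      have ha' : a = 1 := Subtype.ext (D.hf a.1 (congrArg Subtype.val ha))
      have hb' : b = 1 := Subtype.ext (D.hf b.1 (congrArg Subtype.val hb))
      exact Subtype.ext (ha'.trans hb'.symm)
    · apply Subtype.ext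
      show σ 1 = 1
      exact map_one σ
  rw [h1] at h
  exact h

theorem center_card_four [Finite T] (D : FpfData σ) (hT : Nat.card T = 64)
    (hna : ¬ IsMulCommutative T) : Nat.card (Subgroup.center T) = 4 := by
  classical
  haveI : Fact (Nat.Prime 2) := ⟨Nat.prime_two⟩
  have h3 := center_mod3 D
  have hdvd : Nat.card (Subgroup.center T) ∣ 64 := by
    rw [← hT]; exact Subgroup.card_subgroup_dvd_card _
  obtain ⟨t, ht⟩ : ∃ t : T, t ∉ Subgroup.center T := by
    by_contra hcon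
    push Not at hcon
    apply hna
    refine ⟨⟨fun a b => ?_⟩⟩
    exact (Subgroup.mem_center_iff.1 (hcon b) a)
  set C := Subgroup.centralizer ({t} : Set T) with hC
  have hmem : ∀ a, a ∈ C ↔ ⁅a, t⁆ = 1 := by
    intro a
    rw [hC, Subgroup.mem_centralizer_singleton_iff, commutatorElement_eq_one_iff_mul_comm]
  have htC : t ∈ C := by
    rw [hmem]; simp [commutatorElement_def]
  have hZC : Subgroup.center T ≤ C := by
    intro z hz
    rw [hmem, commutatorElement_eq_one_iff_mul_comm]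
    exact (Subgroup.mem_center_iff.1 hz t).symm
  have hi1 : C.index ≠ 1 := by
    intro h
    rw [Subgroup.index_eq_one] at h
    apply ht
    rw [Subgroup.mem_center_iff]
    intro g
    have : g ∈ C := by rw [h]; trivial
    rw [hmem, commutatorElement_eq_one_iff_mul_comm] at this
    exact this
  obtain ⟨a, ha⟩ : ∃ a, a ∉ C := by
    by_contra hcon
    push Not at hcon
    exact hi1 (Subgroup.index_eq_one.2 (eq_top_iff.2 fun g _ => hcon g))
  have ha1 : ⁅a, t⁆ ≠ 1 := fun h => ha ((hmem a).2 h)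
  have hi2 : C.index ≠ 2 := by
    intro h
    have hσa : σ a ∉ C := by
      rw [hmem, D.bal_l]
      intro h1
      have h2 : σ (σ ⁅a, t⁆) = σ (σ 1) := by rw [h1, map_one, map_one]
      exact ha1 (σ.injective (σ.injective h2))
    have h1 : a * σ a ∈ C := by
      rw [Subgroup.mul_mem_iff_of_index_two h]
      exact iff_of_false ha hσa
    rw [hmem, D.ml, D.bal_l] at h1
    have h2 := D.hs ⁅a, t⁆
    have h4 : ⁅a, t⁆ * σ ⁅a, t⁆ * σ (σ ⁅a, t⁆) = σ ⁅a, t⁆ * (⁅a, t⁆ * σ (σ ⁅a, t⁆)) := by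
      rw [(Subgroup.mem_center_iff.1 (D.cen a t) (σ ⁅a, t⁆)).symm, mul_assoc]
    rw [h4, h1, mul_one] at h2
    have h5 : ⁅a, t⁆ = 1 := σ.injective (h2.trans (map_one σ).symm)
    exact ha1 h5
  have hdC : C.index ∣ 64 := by
    rw [← hT]; exact Subgroup.index_dvd_card C
  have hCm := C.card_mul_index
  rw [hT] at hCm
  have hi4 : 4 ≤ C.index := by
    by_contra hlt
    push Not at hlt
    have hpos : C.index ≠ 0 := by
      intro h0
      rw [h0] at hCm
      omega
    have : C.index = 3 := by omega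
    rw [this] at hdC
    omega
  have hC16 : Nat.card C ≤ 16 := by
    by_contra hlt
    push Not at hlt
    nlinarith
  have hlt : Nat.card (Subgroup.center T) < Nat.card C := by
    have h1 : Nat.card (Subgroup.center T) ≤ Nat.card C :=
      Subgroup.card_le_of_le hZC
    refine lt_of_le_of_ne h1 ?_
    intro h2
    have := Subgroup.eq_of_le_of_card_ge hZC (le_of_eq h2.symm)
    rw [this] at ht
    exact ht htC
  have h15 : Nat.card (Subgroup.center T) ≤ 15 := by omega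
  have hpos : 0 < Nat.card (Subgroup.center T) := Nat.card_pos
  have hne1 : Nat.card (Subgroup.center T) ≠ 1 := by
    have hP : IsPGroup 2 T := (IsPGroup.iff_card).2 ⟨6, by rw [hT]; norm_num⟩
    haveI : Nontrivial T := by
      rw [← Finite.one_lt_card_iff_nontrivial, hT]; norm_num
    haveI := hP.center_nontrivial
    have := Finite.one_lt_card_iff_nontrivial.2 (inferInstance : Nontrivial (Subgroup.center T))
    omega
  unfold Nat.ModEq at h3
  generalize Nat.card (Subgroup.center T) = n at *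
  interval_cases n <;> simp_all

theorem Z_cases [Finite T] (D : FpfData σ) (hZ : Nat.card (Subgroup.center T) = 4) {z w : T}
    (hz : z ∈ Subgroup.center T) (hz1 : z ≠ 1) (hw : w ∈ Subgroup.center T) :
    w = 1 ∨ w = z ∨ w = σ z ∨ w = σ (σ z) := by
  classical
  by_contra hcon
  push Not at hcon
  obtain ⟨h1, h2, h3, h4⟩ := hcon
  have hσ1 : σ z ≠ 1 := fun h => hz1 (by simpa using h)
  have hσ2 : σ (σ z) ≠ 1 := fun h => hz1 (by simpa using h)
  have hσ3 : σ z ≠ z := fun h => hz1 (D.hf z h)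
  have hσ4 : σ (σ z) ≠ z := fun h => hz1 (D.fpf2 z h)
  have hσ5 : σ (σ z) ≠ σ z := fun h => hσ3 (σ.injective h)
  let S : Finset T := {1, z, σ z, σ (σ z), w}
  have hS : S.card = 5 := by
    simp only [S]
    rw [Finset.card_insert_of_notMem, Finset.card_insert_of_notMem, Finset.card_insert_of_notMem,
      Finset.card_insert_of_notMem, Finset.card_singleton]
    · simp [h4.symm]
    · simp [h3.symm, hσ5.symm]
    · simp [h2.symm, hσ3.symm, hσ4.symm]
    · simp [h1.symm, hz1.symm, hσ1.symm, hσ2.symm]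
  have hsub : (S : Set T) ⊆ (Subgroup.center T : Set T) := by
    intro a ha
    simp only [S, Finset.coe_insert, Finset.coe_singleton, Set.mem_insert_iff,
      Set.mem_singleton_iff] at ha
    rcases ha with rfl | rfl | rfl | rfl | rfl
    · exact Subgroup.one_mem _
    · exact hz
    · exact FpfData.map_cen σ hz
    · exact FpfData.map_cen σ (FpfData.map_cen σ hz)
    · exact hw
  have h5 := Set.ncard_le_ncard hsub (Set.toFinite _)
  rw [Set.ncard_coe_finset, hS] at h5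
  have h6 : Nat.card (Subgroup.center T) = (Subgroup.center T : Set T).ncard :=
    (Nat.card_coe_set_eq _)
  omega

theorem Z_sq [Finite T] (D : FpfData σ) (hZ : Nat.card (Subgroup.center T) = 4) {z : T}
    (hz : z ∈ Subgroup.center T) : z * z = 1 := by
  by_contra hne
  have hz1 : z ≠ 1 := by
    rintro rfl
    simp at hne
  have h4 : z ^ 4 = 1 := by
    have := pow_card_eq_one' (G := Subgroup.center T) (x := ⟨z, hz⟩)
    rw [hZ] at this
    exact congrArg Subtype.val this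
  have hmem : z * z ∈ Subgroup.center T := Subgroup.mul_mem _ hz hz
  have hs := D.hs z
  rcases Z_cases D hZ hz hz1 hmem with h | h | h | h
  · exact hne h
  · exact hz1 (by simpa using h)
  · have e1 : σ (σ z) = z * z * (z * z) := by rw [← h, map_mul, ← h]
    rw [e1, ← h] at hs
    apply hz1
    have e2 : z ^ 7 = 1 := by
      have e0 : z ^ 7 = z * (z * z) * (z * z * (z * z)) := by
        simp only [pow_succ, pow_zero, one_mul, mul_assoc]
      rw [e0]; exact hs
    have e3 : z ^ 7 = z ^ 4 * z ^ 3 := by group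
    rw [e3, h4, one_mul] at e2
    have e4 : z = z ^ 4 * (z ^ 3)⁻¹ := by group
    rw [e4, h4, e2]; simp
  · rw [← h] at hs
    apply hz1
    apply D.hf z
    have e1 : z * σ z * (z * z) = σ z * z ^ 3 := by
      have := Subgroup.mem_center_iff.1 (FpfData.map_cen σ hz) z
      rw [this]
      simp only [pow_succ, pow_zero, one_mul, mul_assoc]
    rw [e1] at hs
    have e2 : σ z = (z ^ 3)⁻¹ := eq_inv_of_mul_eq_one_left hs
    rw [e2]
    have e3 : z = z ^ 4 * (z ^ 3)⁻¹ := by group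
    rw [h4, one_mul] at e3
    exact e3.symm

theorem sq_mem [Finite T] (D : FpfData σ) (hZ : Nat.card (Subgroup.center T) = 4) (a : T) :
    a ^ 2 ∈ Subgroup.center T := by
  rw [Subgroup.mem_center_iff]
  intro g
  have h1 : ⁅a ^ 2, g⁆ = 1 := by
    rw [pow_two, D.ml]
    exact Z_sq D hZ (D.cen a g)
  rw [commutatorElement_eq_one_iff_mul_comm] at h1
  exact h1.symm

end card64


section invol

/-- Elements centralized by `τ` modulo the center. -/
def Ct (τ : T ≃* T) : Subgroup T where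
  carrier := {y | y⁻¹ * τ y ∈ Subgroup.center T}
  one_mem' := by simp [Subgroup.one_mem]
  mul_mem' := by
    intro a b ha hb
    have h1 : (a * b)⁻¹ * τ (a * b) = (a⁻¹ * τ a) * (b⁻¹ * τ b) := by
      have := Subgroup.mem_center_iff.1 ha b⁻¹
      rw [map_mul, mul_inv_rev]
      calc b⁻¹ * a⁻¹ * (τ a * τ b) = (b⁻¹ * (a⁻¹ * τ a)) * τ b := by group
        _ = _ := by rw [this]; group
    show (a * b)⁻¹ * τ (a * b) ∈ Subgroup.center T
    rw [h1]
    exact Subgroup.mul_mem _ ha hb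
  inv_mem' := by
    intro a ha
    show a⁻¹⁻¹ * τ a⁻¹ ∈ Subgroup.center T
    have h2 : a⁻¹⁻¹ * τ a⁻¹ = (a⁻¹ * τ a)⁻¹ := by
      have h3 : a * (a⁻¹ * τ a)⁻¹ = (a⁻¹ * τ a)⁻¹ * a :=
        Subgroup.mem_center_iff.1 (Subgroup.inv_mem _ ha) a
      have h4 : (a⁻¹ * τ a)⁻¹ = (τ a)⁻¹ * a := by group
      rw [h4] at h3 ⊢
      have h5 : a * ((τ a)⁻¹ * a) = a * (τ a)⁻¹ * a := by group
      rw [h5] at h3
      rw [inv_inv, map_inv]
      exact mul_right_cancel h3
    rw [h2]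
    exact Subgroup.inv_mem _ ha

theorem mem_Ct {τ : T ≃* T} {y : T} : y ∈ Ct τ ↔ y⁻¹ * τ y ∈ Subgroup.center T := Iff.rfl

theorem center_le_Ct (τ : T ≃* T) : Subgroup.center T ≤ Ct τ := fun _ hz =>
  Subgroup.mul_mem _ (Subgroup.inv_mem _ hz) (FpfData.map_cen τ hz)

/-- An automorphism of order two inverting `σ`. -/
structure InvData (σ τ : T ≃* T) : Prop where
  D : FpfData σ
  hZ : Nat.card (Subgroup.center T) = 4
  ht : ∀ y, τ (τ y) = y
  hts : ∀ y, τ (σ y) = σ (σ (τ y))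

private theorem aux5 {a b c d : T} (hd0 : d ∈ Subgroup.center T)
    (hd : d * d = 1) (ha : a * a = 1) (h : b * c * a = 1) : a⁻¹ * (b * d * c * d) = 1 := by
  have h1 : b * d * c * d = b * c * (d * d) := by
    have := Subgroup.mem_center_iff.1 hd0 c
    rw [mul_assoc b d c, ← this]
    group
  rw [h1, hd, mul_one]
  have h2 : b * c = a⁻¹ := eq_inv_of_mul_eq_one_left h
  rw [h2]
  have h3 : a⁻¹ = a := inv_eq_of_mul_eq_one_left ha
  rw [h3, ha]

namespace InvData

variable [Finite T] {σ τ : T ≃* T} (I : InvData σ τ)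
include I

theorem sts (y : T) : σ (τ (σ y)) = τ y := by rw [I.hts, I.D.h3]

theorem mul_mem_Ct (y : T) : y * τ y ∈ Ct τ := by
  rw [mem_Ct]
  have h1 : (y * τ y)⁻¹ * τ (y * τ y) = ⁅(τ y)⁻¹, y⁻¹⁆ := by
    rw [map_mul, I.ht, commutatorElement_def]
    group
  rw [h1]
  exact I.D.cen _ _

theorem Ct_sup : Ct τ ⊔ (Ct τ).map σ.toMonoidHom = ⊤ := by
  rw [eq_top_iff]
  intro t _
  have D := I.D
  obtain ⟨y, rfl⟩ : ∃ y, σ y = t := ⟨σ (σ t), D.h3 t⟩
  set w := (σ y)⁻¹ * (y * τ y * σ (σ y * τ (σ y))) with hw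
  have hwZ : w ∈ Subgroup.center T := by
    rw [Subgroup.mem_center_iff]
    intro g
    have h1 : ⁅w, g⁆ = 1 := by
      have e0 : w = (σ y)⁻¹ * (y * τ y * σ (σ y) * τ y) := by
        rw [hw, map_mul σ (σ y), I.sts, mul_assoc (y * τ y)]
      rw [e0, D.ml, D.ml, D.ml, D.ml, D.inv_l, D.bal_l y g, D.bal_l (σ y) g, D.bal_l y g]
      simp only [map_mul, map_inv, D.h3]
      have key := aux5 (a := σ (σ ⁅y, g⁆)) (b := ⁅y, g⁆) (c := σ ⁅y, g⁆) (d := ⁅τ y, g⁆)
        (D.cen _ _) (Z_sq D I.hZ (D.cen _ _))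
        (Z_sq D I.hZ (FpfData.map_cen σ (FpfData.map_cen σ (D.cen _ _)))) (D.hs _)
      exact key
    rw [commutatorElement_eq_one_iff_mul_comm] at h1
    exact h1.symm
  have h2 : σ y = (y * τ y * σ (σ y * τ (σ y))) * w⁻¹ := by
    rw [hw]; group
  rw [h2]
  refine Subgroup.mul_mem _ (Subgroup.mul_mem _ ?_ ?_) ?_
  · exact (le_sup_left : Ct τ ≤ _) (I.mul_mem_Ct y)
  · exact (le_sup_right : _ ≤ Ct τ ⊔ _) ⟨_, I.mul_mem_Ct (σ y), rfl⟩
  · exact (le_sup_left : Ct τ ≤ _) (center_le_Ct τ (Subgroup.inv_mem _ hwZ))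

theorem Ct_inf : Ct τ ⊓ (Ct τ).map σ.toMonoidHom = Subgroup.center T := by
  have D := I.D
  apply le_antisymm
  · rintro y ⟨hy, w, hw, rfl⟩
    show σ w ∈ _
    have hy' : (σ w)⁻¹ * τ (σ w) ∈ Subgroup.center T := hy
    have hw' : w⁻¹ * τ w ∈ Subgroup.center T := hw
    have h1 : (σ w)⁻¹ * σ (σ w) ∈ Subgroup.center T := by
      have h2 : (σ w)⁻¹ * σ (σ w) = (σ w)⁻¹ * τ (σ w) * (σ (σ (w⁻¹ * τ w)))⁻¹ := by
        rw [I.hts, map_mul, map_mul, map_inv, map_inv]
        group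
      rw [h2]
      exact Subgroup.mul_mem _ hy' (Subgroup.inv_mem _
        (FpfData.map_cen σ (FpfData.map_cen σ hw')))
    have h3 : w⁻¹ * σ w ∈ Subgroup.center T := by
      have h4 := FpfData.map_cen σ (FpfData.map_cen σ h1)
      simp only [map_mul, map_inv, D.h3] at h4
      exact h4
    have h5 : w ∈ Subgroup.center T := by
      rw [Subgroup.mem_center_iff]
      intro g
      have h6 : ⁅w⁻¹ * σ w, g⁆ = 1 := by
        rw [commutatorElement_eq_one_iff_mul_comm]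
        exact (Subgroup.mem_center_iff.1 h3 g).symm
      rw [D.ml, D.inv_l, D.bal_l] at h6
      have h7 : σ (σ ⁅w, g⁆) = ⁅w, g⁆ := (inv_mul_eq_one.1 h6).symm
      have h8 := D.fpf2 _ h7
      rw [commutatorElement_eq_one_iff_mul_comm] at h8
      exact h8.symm
    exact FpfData.map_cen σ h5
  · intro z hz
    refine ⟨center_le_Ct τ hz, σ (σ z), center_le_Ct τ
      (FpfData.map_cen σ (FpfData.map_cen σ hz)), D.h3 z⟩

omit I in
theorem Ct_normal {τ : T ≃* T} (hc : ∀ a b : T, ⁅a, b⁆ ∈ Subgroup.center T) : (Ct τ).Normal := by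
  constructor
  intro y hy g
  have h1 : g * y * g⁻¹ = ⁅g, y⁆ * y := by
    rw [commutatorElement_def]; group
  rw [h1]
  exact Subgroup.mul_mem _ (center_le_Ct τ (hc _ _)) hy

theorem card_Ct (hT : Nat.card T = 64) : Nat.card (Ct τ) = 16 := by
  have D := I.D
  haveI := Ct_normal (τ := τ) D.cen
  have h := Cfsg.Agent.H01.card_sup_mul_card_inf ((Ct τ).map σ.toMonoidHom) (Ct τ)
  rw [sup_comm, I.Ct_sup, inf_comm, I.Ct_inf, Subgroup.card_top, hT, I.hZ,
    Subgroup.card_map_of_injective σ.injective] at h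
  have h2 : Nat.card (Ct τ) ≤ 16 := by
    by_contra hlt
    push Not at hlt
    nlinarith
  have h3 : 16 ≤ Nat.card (Ct τ) := by
    by_contra hlt
    push Not at hlt
    nlinarith
  omega

theorem exists_z0 : ∃ z₀ ∈ Subgroup.center T, z₀ ≠ 1 ∧ τ z₀ = z₀ ∧
    ∀ w ∈ Subgroup.center T, τ w = w → w = 1 ∨ w = z₀ := by
  have D := I.D
  obtain ⟨z, hz, hz1⟩ : ∃ z ∈ Subgroup.center T, z ≠ 1 := by
    by_contra hcon
    push Not at hcon
    have : Subgroup.center T = ⊥ := (Subgroup.eq_bot_iff_forall _).2 hcon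
    have h1 := I.hZ
    rw [this, Subgroup.card_bot] at h1
    omega
  have hfix : ∃ z₀ ∈ Subgroup.center T, z₀ ≠ 1 ∧ τ z₀ = z₀ := by
    rcases Z_cases D I.hZ hz hz1 (FpfData.map_cen τ hz) with h | h | h | h
    · exact absurd (τ.injective (h.trans (map_one τ).symm)) hz1
    · exact ⟨z, hz, hz1, h⟩
    · refine ⟨σ (σ z), FpfData.map_cen σ (FpfData.map_cen σ hz), ?_, ?_⟩
      · intro h1
        exact hz1 (σ.injective (σ.injective (h1.trans (by simp))))
      · rw [I.hts, I.hts, h, D.h3]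
    · refine ⟨σ z, FpfData.map_cen σ hz, ?_, ?_⟩
      · intro h1
        exact hz1 (σ.injective (h1.trans (map_one σ).symm))
      · rw [I.hts, h, D.h3]
  obtain ⟨z₀, hz₀, hz₀1, hz₀f⟩ := hfix
  refine ⟨z₀, hz₀, hz₀1, hz₀f, ?_⟩
  intro w hw hwf
  rcases Z_cases D I.hZ hz₀ hz₀1 hw with h | h | h | h
  · exact Or.inl h
  · exact Or.inr h
  · exfalso
    rw [h, I.hts, hz₀f] at hwf
    exact hz₀1 (D.hf z₀ (σ.injective hwf))
  · exfalso
    rw [h, I.hts, I.hts, hz₀f, D.h3] at hwf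
    exact hz₀1 (D.hf z₀ (σ.injective hwf).symm)

theorem lift_fix {y : T} (hy : y ∈ Ct τ) : ∃ w ∈ Subgroup.center T, τ (y * w) = y * w := by
  have D := I.D
  obtain ⟨z₀, hz₀, hz₀1, hz₀f, hz₀u⟩ := I.exists_z0
  have hk : y⁻¹ * τ y ∈ Subgroup.center T := hy
  have hk2 := Z_sq D I.hZ hk
  have hkf : τ (y⁻¹ * τ y) = y⁻¹ * τ y := by
    rw [map_mul, map_inv, I.ht]
    have h1 : (y⁻¹ * τ y)⁻¹ = y⁻¹ * τ y := inv_eq_of_mul_eq_one_left hk2
    rw [← h1]
    group
  rcases hz₀u _ hk hkf with h | h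
  · refine ⟨1, Subgroup.one_mem _, ?_⟩
    rw [mul_one]
    exact (inv_mul_eq_one.1 h).symm
  · refine ⟨σ z₀, FpfData.map_cen σ hz₀, ?_⟩
    have h1 : τ y = y * z₀ := by rw [← h]; group
    rw [map_mul, h1, I.hts, hz₀f, mul_assoc]
    congr 1
    have h2 := D.hs z₀
    have h3 : z₀ * σ z₀ = σ z₀ * z₀ := D.hsc z₀
    have h4 : σ z₀ * σ z₀ = 1 := Z_sq D I.hZ (FpfData.map_cen σ hz₀)
    rw [h3] at h2
    calc z₀ * σ (σ z₀) = σ z₀ * (σ z₀ * z₀ * σ (σ z₀)) := by
          rw [mul_assoc, ← mul_assoc (σ z₀) (σ z₀), h4]; group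
      _ = σ z₀ := by rw [h2, mul_one]

theorem exists_noncomm (hT : Nat.card T = 64) : ∃ u v, τ u = u ∧ τ v = v ∧ ⁅u, v⁆ ≠ 1 := by
  have D := I.D
  obtain ⟨y, hy, hyZ⟩ : ∃ y ∈ Ct τ, y ∉ Subgroup.center T := by
    by_contra hcon
    push Not at hcon
    have h1 : Nat.card (Ct τ) ≤ Nat.card (Subgroup.center T) := Subgroup.card_le_of_le hcon
    rw [I.card_Ct hT, I.hZ] at h1
    omega
  obtain ⟨c, hc, hyc⟩ : ∃ c ∈ Ct τ, ⁅y, c⁆ ≠ 1 := by
    by_contra hcon
    push Not at hcon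
    apply hyZ
    have h1 : Ct τ ⊔ (Ct τ).map σ.toMonoidHom ≤ Subgroup.centralizer ({y} : Set T) := by
      apply sup_le
      · intro c hc
        rw [Subgroup.mem_centralizer_singleton_iff]
        have := hcon c hc
        rw [commutatorElement_eq_one_iff_mul_comm] at this
        exact this.symm
      · rintro _ ⟨c', hc', rfl⟩
        rw [Subgroup.mem_centralizer_singleton_iff]
        have h2 : ⁅y, σ c'⁆ = 1 := by
          rw [D.bal_r, hcon c' hc', map_one, map_one]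
        rw [commutatorElement_eq_one_iff_mul_comm] at h2
        exact h2.symm
    rw [I.Ct_sup] at h1
    rw [Subgroup.mem_center_iff]
    intro g
    have := h1 (Subgroup.mem_top g)
    rw [Subgroup.mem_centralizer_singleton_iff] at this
    exact this
  obtain ⟨w, hw, hwf⟩ := I.lift_fix hy
  obtain ⟨w', hw', hwf'⟩ := I.lift_fix hc
  refine ⟨y * w, c * w', hwf, hwf', ?_⟩
  have hcl : ∀ a b : T, b ∈ Subgroup.center T → ⁅a, b⁆ = 1 := by
    intro a b hb
    rw [commutatorElement_eq_one_iff_mul_comm]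
    exact (Subgroup.mem_center_iff.1 hb a)
  have hcl' : ∀ a b : T, a ∈ Subgroup.center T → ⁅a, b⁆ = 1 := by
    intro a b hb
    rw [commutatorElement_eq_one_iff_mul_comm]
    exact (Subgroup.mem_center_iff.1 hb b).symm
  rw [D.ml, D.mr, D.mr, hcl y w' hw', hcl' w c hw, hcl' w w' hw]
  simpa using hyc

end InvData

end invol


section order8

variable {S : Type*} [Group S] [Finite S]

private theorem order_four {a z : S} (h2 : a ^ 2 = z) (hz : z ≠ 1) (hzz : z * z = 1) :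
    orderOf a = 4 := by
  haveI : Fact (Nat.Prime 2) := ⟨Nat.prime_two⟩
  have := orderOf_eq_prime_pow (x := a) (p := 2) (n := 1)
    (by rw [pow_one, h2]; exact hz)
    (by
      have : a ^ 2 ^ (1 + 1) = a ^ 2 * a ^ 2 := by rw [← pow_add]; norm_num
      rw [this, h2, hzz])
  simpa using this

private theorem not_mem_zpowers {a x : S} (h : x * a ≠ a * x) : x ∉ Subgroup.zpowers a := by
  intro hx
  obtain ⟨k, rfl⟩ := Subgroup.mem_zpowers_iff.1 hx
  exact h ((Commute.refl a).zpow_left k)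

private theorem dih_aux (hS : Nat.card S = 8) {a x z : S} (h2 : a ^ 2 = z) (hz : z ≠ 1)
    (hzz : z * z = 1) (hx : x * x = 1) (hrel : x * a * x⁻¹ = a⁻¹) (hnc : x * a ≠ a * x) :
    Nonempty (S ≃* DihedralGroup 4) :=
  Cfsg.Agent.H15.dihedral_of a x 4 (by norm_num) (order_four h2 hz hzz) hx hrel
    (by rw [hS]) (not_mem_zpowers hnc)

theorem order8_iso (hS : Nat.card S = 8) {u v z : S} (hz0 : ⁅u, v⁆ = z) (hz : z ≠ 1)
    (hzz : z * z = 1) (hu : u ^ 2 = 1 ∨ u ^ 2 = z) (hv : v ^ 2 = 1 ∨ v ^ 2 = z) :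
    Nonempty (S ≃* DihedralGroup 4) ∨ Nonempty (S ≃* QuaternionGroup 2) := by
  have hzi : z⁻¹ = z := inv_eq_of_mul_eq_one_left hzz
  have huv : u * v ≠ v * u := by
    intro h
    rw [← commutatorElement_eq_one_iff_mul_comm, hz0] at h
    exact hz h
  have hvu : v * u ≠ u * v := fun h => huv h.symm
  have inv_of : ∀ a : S, a ^ 2 = z → z * a = a⁻¹ := by
    intro a ha
    rw [← ha, eq_inv_iff_mul_eq_one]
    have : a ^ 2 * a * a = a ^ 2 * a ^ 2 := by group
    rw [this, ha, hzz]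
  have hvconj : v * u * v⁻¹ = z * u := by
    have h1 : z = ⁅u, v⁆ := hz0.symm
    have h2 : z⁻¹ = v * u * v⁻¹ * u⁻¹ := by
      rw [h1, commutatorElement_def]; group
    rw [hzi] at h2
    rw [h2]; group
  have huconj : u * v * u⁻¹ = z * v := by
    have h1 : z = ⁅u, v⁆ := hz0.symm
    rw [h1, commutatorElement_def]; group
  rcases hu with hu | hu <;> rcases hv with hv | hv
  · left
    have hu1 : u * u = 1 := by rw [← pow_two]; exact hu
    have hv1 : v * v = 1 := by rw [← pow_two]; exact hv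
    have hui : u⁻¹ = u := inv_eq_of_mul_eq_one_left hu1
    have hvi : v⁻¹ = v := inv_eq_of_mul_eq_one_left hv1
    refine dih_aux hS (a := u * v) (x := u) (z := z) ?_ hz hzz hu1 ?_ ?_
    · rw [← hz0, commutatorElement_def, hui, hvi, pow_two]; group
    · rw [hui, mul_inv_rev, hui, hvi, ← mul_assoc, hu1, one_mul]
    · intro h
      have h1 : v = u * v * u := by
        calc v = u * u * v := by rw [hu1, one_mul]
          _ = u * (u * v) := by group
          _ = u * v * u := h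
      apply hz
      rw [← hz0, commutatorElement_def, hui, hvi]
      rw [← h1]
      exact hv1
  · left
    have hu1 : u * u = 1 := by rw [← pow_two]; exact hu
    refine dih_aux hS (a := v) (x := u) (z := z) hv hz hzz hu1 ?_ huv
    rw [huconj]
    exact inv_of v hv
  · left
    have hv1 : v * v = 1 := by rw [← pow_two]; exact hv
    refine dih_aux hS (a := u) (x := v) (z := z) hu hz hzz hv1 ?_ hvu
    rw [hvconj]
    exact inv_of u hu
  · right
    refine Cfsg.Agent.H19.quaternion_iso hS (α := u) (β := v) (order_four hu hz hzz) ?_ ?_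
      (not_mem_zpowers hvu)
    · rw [hu, hv]
    · rw [hvconj]
      exact inv_of u hu

end order8

section invol2

namespace InvData

variable [Finite T] {σ τ : T ≃* T} (I : InvData σ τ)
include I

theorem card_C (hT : Nat.card T = 64) (C : Subgroup T) (hC : ∀ y, y ∈ C ↔ τ y = y) :
    Nat.card C = 8 := by
  have D := I.D
  obtain ⟨z₀, hz₀, hz₀1, hz₀f, hz₀u⟩ := I.exists_z0
  have h := Cfsg.Agent.H01.card_sup_mul_card_inf C (Subgroup.center T)
  have h1 : C ⊔ Subgroup.center T = Ct τ := by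
    apply le_antisymm
    · apply sup_le
      · intro y hy
        rw [mem_Ct, (hC y).1 hy, inv_mul_cancel]
        exact Subgroup.one_mem _
      · exact center_le_Ct τ
    · intro y hy
      obtain ⟨w, hw, hwf⟩ := I.lift_fix hy
      have h2 : y = (y * w) * w⁻¹ := by group
      rw [h2]
      exact Subgroup.mul_mem _ ((le_sup_left : C ≤ _) ((hC _).2 hwf))
        ((le_sup_right : _ ≤ C ⊔ _) (Subgroup.inv_mem _ hw))
  have h2 : ((C ⊓ Subgroup.center T : Subgroup T) : Set T) = {1, z₀} := by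
    ext y
    simp only [Subgroup.coe_inf, Set.mem_inter_iff, SetLike.mem_coe, Set.mem_insert_iff,
      Set.mem_singleton_iff]
    constructor
    · rintro ⟨hy1, hy2⟩
      exact hz₀u y hy2 ((hC y).1 hy1)
    · rintro (rfl | rfl)
      · exact ⟨Subgroup.one_mem _, Subgroup.one_mem _⟩
      · exact ⟨(hC _).2 hz₀f, hz₀⟩
  have h3 : Nat.card (C ⊓ Subgroup.center T : Subgroup T) = 2 := by
    have h4 : Nat.card (C ⊓ Subgroup.center T : Subgroup T) =
        ((C ⊓ Subgroup.center T : Subgroup T) : Set T).ncard := Nat.card_coe_set_eq _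
    rw [h4, h2, Set.ncard_pair hz₀1.symm]
  rw [h1, I.card_Ct hT, h3, I.hZ] at h
  omega

theorem C_iso (hT : Nat.card T = 64) (C : Subgroup T) (hC : ∀ y, y ∈ C ↔ τ y = y) :
    Nonempty (C ≃* DihedralGroup 4) ∨ Nonempty (C ≃* QuaternionGroup 2) := by
  have D := I.D
  obtain ⟨z₀, hz₀, hz₀1, hz₀f, hz₀u⟩ := I.exists_z0
  obtain ⟨u, v, hu, hv, huv⟩ := I.exists_noncomm hT
  have hfix : ∀ a b : T, τ a = a → τ b = b → τ ⁅a, b⁆ = ⁅a, b⁆ := by
    intro a b ha hb
    rw [FpfData.map_comm, ha, hb]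
  have h0 : ⁅u, v⁆ = z₀ := (hz₀u _ (D.cen u v) (hfix u v hu hv)).resolve_left huv
  have hsqf : ∀ a : T, τ a = a → a ^ 2 = 1 ∨ a ^ 2 = z₀ := by
    intro a ha
    exact hz₀u _ (sq_mem D I.hZ a) (by rw [map_pow, ha])
  have hzz : z₀ * z₀ = 1 := Z_sq D I.hZ hz₀
  let u' : C := ⟨u, (hC u).2 hu⟩
  let v' : C := ⟨v, (hC v).2 hv⟩
  let z' : C := ⟨z₀, (hC z₀).2 hz₀f⟩
  refine order8_iso (I.card_C hT C hC) (u := u') (v := v') (z := z') ?_ ?_ ?_ ?_ ?_
  · apply Subtype.ext
    exact h0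
  · intro h
    exact hz₀1 (congrArg Subtype.val h)
  · apply Subtype.ext
    exact hzz
  · rcases hsqf u hu with h | h
    · left; apply Subtype.ext; exact h
    · right; apply Subtype.ext; exact h
  · rcases hsqf v hv with h | h
    · left; apply Subtype.ext; exact h
    · right; apply Subtype.ext; exact h

theorem exists_invols (hT : Nat.card T = 64) : ∃ e f : T, e * e = 1 ∧ f * f = 1 ∧ ⁅e, f⁆ ≠ 1 := by
  have D := I.D
  obtain ⟨z₀, hz₀, hz₀1, hz₀f, hz₀u⟩ := I.exists_z0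
  obtain ⟨u, v, hu, hv, huv⟩ := I.exists_noncomm hT
  have hfix : ∀ a b : T, τ a = a → τ b = b → τ ⁅a, b⁆ = ⁅a, b⁆ := by
    intro a b ha hb
    rw [FpfData.map_comm, ha, hb]
  have h0 : ⁅u, v⁆ = z₀ := (hz₀u _ (D.cen u v) (hfix u v hu hv)).resolve_left huv
  have hsqf : ∀ a : T, τ a = a → a ^ 2 = 1 ∨ a ^ 2 = z₀ := by
    intro a ha
    exact hz₀u _ (sq_mem D I.hZ a) (by rw [map_pow, ha])
  have hzz : z₀ * z₀ = 1 := Z_sq D I.hZ hz₀
  have hzi : z₀⁻¹ = z₀ := inv_eq_of_mul_eq_one_left hzz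
  have hself : ∀ a : T, ⁅a, a⁆ = 1 := fun a => by simp [commutatorElement_def]
  have h1' : ⁅v, u⁆ = z₀ := by rw [FpfData.swap u v, h0, hzi]
  have hsq' : ∀ a b : T, (a * b) * (a * b) = a ^ 2 * b ^ 2 * ⁅b, a⁆ := by
    intro a b
    rw [← D.sq, pow_two]
  rcases hsqf u hu with h2 | h2 <;> rcases hsqf v hv with h3 | h3
  · exact ⟨u, v, by rw [← pow_two, h2], by rw [← pow_two, h3], huv⟩
  · refine ⟨u, u * v, by rw [← pow_two, h2], ?_, ?_⟩
    · rw [hsq', h2, h3, h1', one_mul, hzz]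
    · rw [D.mr, hself, one_mul]; exact huv
  · refine ⟨u * v, v, ?_, by rw [← pow_two, h3], ?_⟩
    · rw [hsq', h2, h3, h1', mul_one, hzz]
    · rw [D.ml, hself, mul_one]; exact huv
  · have hs3 := D.hs z₀
    refine ⟨u * σ v, v * σ u, ?_, ?_, ?_⟩
    · rw [hsq', h2, ← map_pow, h3, D.bal_l, h1']
      exact hs3
    · rw [hsq', h3, ← map_pow, h2, D.bal_l, h0]
      exact hs3
    · have e1 : ⁅u, σ u⁆ = 1 := commutatorElement_eq_one_iff_mul_comm.2 (D.hsc u)
      have e2 : ⁅σ v, v⁆ = 1 := commutatorElement_eq_one_iff_mul_comm.2 (D.hsc v).symm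
      rw [D.ml, D.mr, D.mr, h0, e1, e2, ← FpfData.map_comm, h1', mul_one, one_mul]
      intro h
      have h5 : σ z₀ = z₀ := by
        rw [eq_inv_of_mul_eq_one_right h, hzi]
      exact hz₀1 (D.hf z₀ h5)

end InvData

end invol2


section model

/-- The field with four elements. -/
inductive F4 : Type
  | o | i | w | v
  deriving DecidableEq

namespace F4

instance : Fintype F4 := ⟨{o, i, w, v}, fun a => by cases a <;> decide⟩

theorem card_eq : Fintype.card F4 = 4 := rfl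

/-- addition -/
def addF : F4 → F4 → F4
  | o, a => a
  | a, o => a
  | i, i => o
  | w, w => o
  | v, v => o
  | i, w => v
  | w, i => v
  | i, v => w
  | v, i => w
  | w, v => i
  | v, w => i

/-- multiplication -/
def mulF : F4 → F4 → F4
  | o, _ => o
  | _, o => o
  | i, a => a
  | a, i => a
  | w, w => v
  | v, v => w
  | w, v => i
  | v, w => i

/-- inverse -/
def invF : F4 → F4
  | o => o
  | i => i
  | w => v
  | v => w

instance : Zero F4 := ⟨o⟩
instance : One F4 := ⟨i⟩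
instance : Add F4 := ⟨addF⟩
instance : Mul F4 := ⟨mulF⟩
instance : Neg F4 := ⟨id⟩
instance : Sub F4 := ⟨addF⟩
instance : Inv F4 := ⟨invF⟩
instance : Div F4 := ⟨fun a b => mulF a (invF b)⟩

instance : Field F4 where
  nsmul := nsmulRec
  zsmul := zsmulRec
  nnqsmul := _
  qsmul := _
  add_assoc := by intro a b c; cases a <;> cases b <;> cases c <;> rfl
  zero_add := by intro a; cases a <;> rfl
  add_zero := by intro a; cases a <;> rfl
  add_comm := by intro a b; cases a <;> cases b <;> rfl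
  neg_add_cancel := by intro a; cases a <;> rfl
  sub_eq_add_neg := by intro a b; cases a <;> cases b <;> rfl
  mul_assoc := by intro a b c; cases a <;> cases b <;> cases c <;> rfl
  one_mul := by intro a; cases a <;> rfl
  mul_one := by intro a; cases a <;> rfl
  zero_mul := by intro a; cases a <;> rfl
  mul_zero := by intro a; cases a <;> rfl
  mul_comm := by intro a b; cases a <;> cases b <;> rfl
  left_distrib := by intro a b c; cases a <;> cases b <;> cases c <;> rfl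
  right_distrib := by intro a b c; cases a <;> cases b <;> cases c <;> rfl
  exists_pair_ne := ⟨o, i, by decide⟩
  mul_inv_cancel := by
    intro a ha
    cases a
    · exact absurd rfl ha
    all_goals rfl
  inv_zero := rfl
  div_eq_mul_inv := by intro a b; rfl

end F4

end model


section frame

/-- The three involutions of a four-group. -/
structure Triple (p q r : T) : Prop where
  pp : p * p = 1
  qq : q * q = 1
  rr : r * r = 1
  pq : p * q = r
  qp : q * p = r
  pr : p * r = q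
  rp : r * p = q
  qr : q * r = p
  rq : r * q = p

theorem Triple.swap {p q r : T} (h : Triple p q r) : Triple p r q :=
  ⟨h.pp, h.rr, h.qq, h.pr, h.rp, h.pq, h.qp, h.rq, h.qr⟩

theorem triple_of {σ : T ≃* T} (D : FpfData σ) {g : T} (hg : g * g = 1) :
    Triple g (σ g) (σ (σ g)) := by
  have h1 : ∀ a : T, a * a = 1 → σ a * σ a = 1 := fun a ha => by
    rw [← map_mul, ha, map_one]
  have hq := h1 g hg
  have hr := h1 _ hq
  have hinv : ∀ a b : T, b * b = 1 → a * b = 1 → a = b := by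
    intro a b hb hab
    calc a = a * (b * b) := by rw [hb, mul_one]
      _ = (a * b) * b := by group
      _ = b := by rw [hab, one_mul]
  have pq : g * σ g = σ (σ g) := hinv _ _ hr (D.hs g)
  have qp : σ g * g = σ (σ g) := by rw [← D.hsc g]; exact pq
  have qr : σ g * σ (σ g) = g := by
    have h2 := D.hs (σ g)
    rw [D.h3] at h2
    exact hinv _ _ hg h2
  have rq : σ (σ g) * σ g = g := by
    have h2 := congrArg σ qp
    rw [map_mul, D.h3] at h2
    exact h2
  have rp : σ (σ g) * g = σ g := by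
    have h3 := D.hs (σ (σ g))
    rw [D.h3] at h3
    exact hinv _ _ hq h3
  have pr : g * σ (σ g) = σ g := by
    have h2 := D.hsc (σ (σ g))
    rw [D.h3] at h2
    rw [← h2]
    exact rp
  exact ⟨hg, hq, hr, pq, qp, pr, rp, qr, rq⟩

/-- The additive map out of the field with four elements. -/
def Lf (p q r : T) : F4 → T
  | F4.o => 1
  | F4.i => p
  | F4.w => q
  | F4.v => r

theorem Lf_add {p q r : T} (h : Triple p q r) (a b : F4) :
    Lf p q r (a + b) = Lf p q r a * Lf p q r b := by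
  cases a <;> cases b <;>
  first
    | exact (one_mul _).symm
    | exact (mul_one _).symm
    | exact h.pp.symm
    | exact h.qq.symm
    | exact h.rr.symm
    | exact h.pq.symm
    | exact h.qp.symm
    | exact h.pr.symm
    | exact h.rp.symm
    | exact h.qr.symm
    | exact h.rq.symm

theorem Lf_inj {p q r : T} (h : Triple p q r) (hp : p ≠ 1) (hq : q ≠ 1) (hr : r ≠ 1) {a : F4}
    (ha : Lf p q r a = 1) : a = 0 := by
  cases a
  · rfl
  · exact absurd ha hp
  · exact absurd ha hq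
  · exact absurd ha hr

variable {σ : T ≃* T}

/-- The coordinate map. -/
def Phi (σ : T ≃* T) (e f : T) (u : F4 × F4 × F4) : T :=
  Lf f (σ f) (σ (σ f)) u.2.1 * Lf e (σ e) (σ (σ e)) u.1 *
    Lf ⁅e, f⁆ (σ (σ ⁅e, f⁆)) (σ ⁅e, f⁆) u.2.2

/-- The product of the unitriangular group. -/
def star (u v : F4 × F4 × F4) : F4 × F4 × F4 :=
  (u.1 + v.1, u.2.1 + v.2.1, u.2.2 + v.2.2 + u.1 * v.2.1)

theorem comm_table (D : FpfData σ) (e f : T) (a b : F4) :
    ⁅Lf e (σ e) (σ (σ e)) a, Lf f (σ f) (σ (σ f)) b⁆ =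
      Lf ⁅e, f⁆ (σ (σ ⁅e, f⁆)) (σ ⁅e, f⁆) (a * b) := by
  have c00 : ∀ y : T, ⁅(1 : T), y⁆ = 1 := fun y => by simp [commutatorElement_def]
  have c01 : ∀ y : T, ⁅y, (1 : T)⁆ = 1 := fun y => by simp [commutatorElement_def]
  have c12 : ⁅e, σ f⁆ = σ (σ ⁅e, f⁆) := D.bal_r _ _
  have c13 : ⁅e, σ (σ f)⁆ = σ ⁅e, f⁆ := by simp only [D.bal_r, D.h3]
  have c21 : ⁅σ e, f⁆ = σ (σ ⁅e, f⁆) := D.bal_l _ _
  have c22 : ⁅σ e, σ f⁆ = σ ⁅e, f⁆ := by simp only [D.bal_r, D.bal_l, D.h3]
  have c23 : ⁅σ e, σ (σ f)⁆ = ⁅e, f⁆ := by simp only [D.bal_r, D.bal_l, D.h3]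
  have c31 : ⁅σ (σ e), f⁆ = σ ⁅e, f⁆ := by simp only [D.bal_l, D.h3]
  have c32 : ⁅σ (σ e), σ f⁆ = ⁅e, f⁆ := by simp only [D.bal_r, D.bal_l, D.h3]
  have c33 : ⁅σ (σ e), σ (σ f)⁆ = σ (σ ⁅e, f⁆) := by simp only [D.bal_r, D.bal_l, D.h3]
  cases a <;> cases b <;>
  first
    | exact c00 _
    | exact c01 _
    | rfl
    | exact c12
    | exact c13
    | exact c21
    | exact c22
    | exact c23
    | exact c31
    | exact c32
    | exact c33

/-- The frame data of a pair of noncommuting involutions. -/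
structure Frame (σ : T ≃* T) (e f : T) : Prop where
  D : FpfData σ
  he : e * e = 1
  hf : f * f = 1
  hz : ⁅e, f⁆ ≠ 1

namespace Frame

variable {e f : T} (R : Frame σ e f)
include R

theorem zz : ⁅e, f⁆ * ⁅e, f⁆ = 1 := by
  rw [← R.D.ml, R.he]
  simp [commutatorElement_def]

theorem tE : Triple e (σ e) (σ (σ e)) := triple_of R.D R.he
theorem tF : Triple f (σ f) (σ (σ f)) := triple_of R.D R.hf
theorem tZ : Triple ⁅e, f⁆ (σ (σ ⁅e, f⁆)) (σ ⁅e, f⁆) := (triple_of R.D R.zz).swap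

theorem Zc_cen (c : F4) : Lf ⁅e, f⁆ (σ (σ ⁅e, f⁆)) (σ ⁅e, f⁆) c ∈ Subgroup.center T := by
  have h := R.D.cen e f
  cases c
  · exact Subgroup.one_mem _
  · exact h
  · exact FpfData.map_cen σ (FpfData.map_cen σ h)
  · exact FpfData.map_cen σ h

theorem Phi_mul (u v : F4 × F4 × F4) : Phi σ e f u * Phi σ e f v = Phi σ e f (star u v) := by
  obtain ⟨a, b, c⟩ := u
  obtain ⟨a', b', c'⟩ := v
  simp only [Phi, star]
  set E := Lf e (σ e) (σ (σ e)) with hE
  set F := Lf f (σ f) (σ (σ f)) with hF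
  set Z := Lf ⁅e, f⁆ (σ (σ ⁅e, f⁆)) (σ ⁅e, f⁆) with hZ
  have hZc : ∀ (c : F4) (g : T), g * Z c = Z c * g := fun c g =>
    Subgroup.mem_center_iff.1 (R.Zc_cen c) g
  have hEF : E a * F b' = Z (a * b') * (F b' * E a) := by
    rw [hE, hF, hZ, ← comm_table R.D e f a b', commutatorElement_def]
    group
  have hFa : F (b + b') = F b * F b' := Lf_add R.tF b b'
  have hEa : E (a + a') = E a * E a' := Lf_add R.tE a a'
  have hZa : ∀ x y, Z (x + y) = Z x * Z y := Lf_add R.tZ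
  rw [hFa, hEa, hZa, hZa]
  have e1 : F b * E a * Z c * (F b' * E a' * Z c') = F b * E a * (F b' * E a') * (Z c * Z c') := by
    rw [mul_assoc (F b * E a) (Z c), ← mul_assoc (Z c) (F b' * E a') (Z c'), ← hZc c (F b' * E a')]
    group
  have e2 : F b * E a * (F b' * E a') = F b * (E a * F b') * E a' := by group
  have e3 : F b * (Z (a * b') * (F b' * E a)) * E a' = F b * F b' * (E a * E a') * Z (a * b') := by
    rw [← hZc (a * b') (F b' * E a)]
    have e4 : F b * (F b' * E a * Z (a * b')) * E a' = F b * (F b' * E a) * (Z (a * b') * E a') := by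
      group
    rw [e4, ← hZc (a * b') (E a')]
    group
  rw [e1, e2, hEF, e3, mul_assoc (F b * F b' * (E a * E a'))]
  rw [hZc (a * b') (Z c * Z c')]
  

end Frame

end frame


section sylow

theorem F4.eq_of_add {a b : F4} (h : a + b = 0) : a = b := by
  cases a <;> cases b <;> first | rfl | exact absurd h (by decide)

theorem F4.add_self (a : F4) : a + a = 0 := by
  cases a <;> rfl

variable {σ : T ≃* T} {e f : T}

namespace Frame

variable (R : Frame σ e f)
include R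

theorem Zc_inj {a b : F4} (h : Lf ⁅e, f⁆ (σ (σ ⁅e, f⁆)) (σ ⁅e, f⁆) a =
    Lf ⁅e, f⁆ (σ (σ ⁅e, f⁆)) (σ ⁅e, f⁆) b) : a = b := by
  apply F4.eq_of_add
  apply Lf_inj R.tZ R.hz
  · intro h1
    exact R.hz (σ.injective (σ.injective (h1.trans (by simp))))
  · intro h1
    exact R.hz (σ.injective (h1.trans (map_one σ).symm))
  · rw [Lf_add R.tZ, h, ← Lf_add R.tZ, F4.add_self]
    rfl

theorem test1 (u : F4 × F4 × F4) : ⁅Phi σ e f u, Lf f (σ f) (σ (σ f)) 1⁆ =
    Lf ⁅e, f⁆ (σ (σ ⁅e, f⁆)) (σ ⁅e, f⁆) u.1 := by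
  obtain ⟨a, b, c⟩ := u
  have hF : ⁅Lf f (σ f) (σ (σ f)) b, Lf f (σ f) (σ (σ f)) 1⁆ = 1 := by
    rw [commutatorElement_eq_one_iff_mul_comm, ← Lf_add R.tF, ← Lf_add R.tF, add_comm]
  have hZ : ⁅Lf ⁅e, f⁆ (σ (σ ⁅e, f⁆)) (σ ⁅e, f⁆) c, Lf f (σ f) (σ (σ f)) 1⁆ = 1 := by
    rw [commutatorElement_eq_one_iff_mul_comm]
    exact (Subgroup.mem_center_iff.1 (R.Zc_cen c) _).symm
  simp only [Phi]
  rw [R.D.ml, R.D.ml, hF, hZ, comm_table R.D, mul_one, one_mul, mul_one]

theorem test2 (u : F4 × F4 × F4) : ⁅Phi σ e f u, Lf e (σ e) (σ (σ e)) 1⁆ =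
    (Lf ⁅e, f⁆ (σ (σ ⁅e, f⁆)) (σ ⁅e, f⁆) u.2.1)⁻¹ := by
  obtain ⟨a, b, c⟩ := u
  have hF : ⁅Lf e (σ e) (σ (σ e)) a, Lf e (σ e) (σ (σ e)) 1⁆ = 1 := by
    rw [commutatorElement_eq_one_iff_mul_comm, ← Lf_add R.tE, ← Lf_add R.tE, add_comm]
  have hZ : ⁅Lf ⁅e, f⁆ (σ (σ ⁅e, f⁆)) (σ ⁅e, f⁆) c, Lf e (σ e) (σ (σ e)) 1⁆ = 1 := by
    rw [commutatorElement_eq_one_iff_mul_comm]
    exact (Subgroup.mem_center_iff.1 (R.Zc_cen c) _).symm
  simp only [Phi]
  rw [R.D.ml, R.D.ml, hF, hZ, FpfData.swap _ (Lf f (σ f) (σ (σ f)) b), comm_table R.D, mul_one,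
    one_mul, mul_one]

theorem Phi_inj : Function.Injective (Phi σ e f) := by
  rintro ⟨a, b, c⟩ ⟨a', b', c'⟩ h
  have h1 : a = a' := by
    have := R.test1 (a, b, c)
    rw [h, R.test1] at this
    exact (R.Zc_inj this).symm
  have h2 : b = b' := by
    have := R.test2 (a, b, c)
    rw [h, R.test2] at this
    exact (R.Zc_inj (inv_injective this)).symm
  subst h1 h2
  have h3 : c = c' := R.Zc_inj (mul_left_cancel h)
  rw [h3]

theorem Phi_bij [Finite T] (hT : Nat.card T = 64) : Function.Bijective (Phi σ e f) := by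
  apply R.Phi_inj.bijective_of_nat_card_le
  rw [hT]
  simp [Nat.card_eq_fintype_card, F4.card_eq]

end Frame

/-- The unitriangular matrices. -/
def matM (u : F4 × F4 × F4) : Matrix.SpecialLinearGroup (Fin 3) F4 :=
  ⟨!![1, u.1, u.2.2; 0, 1, u.2.1; 0, 0, 1], by simp [Matrix.det_fin_three]⟩

theorem matM_mul (u v : F4 × F4 × F4) : matM u * matM v = matM (star u v) := by
  obtain ⟨a, b, c⟩ := u
  obtain ⟨a', b', c'⟩ := v
  apply Subtype.ext
  show (matM (a, b, c)).1 * (matM (a', b', c')).1 = (matM (star (a, b, c) (a', b', c'))).1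
  ext i j
  fin_cases i <;> fin_cases j <;>
    simp [matM, star, Matrix.mul_apply, Fin.sum_univ_three]
  all_goals ring

theorem card_PSL34 : Nat.card (Matrix.ProjectiveSpecialLinearGroup (Fin 3) F4) = 2 ^ 6 * 315 := by
  have h := Cfsg.Agent.Lead.card_PSL (F := F4) 3 (by norm_num)
  rw [Fin.prod_univ_three, F4.card_eq] at h
  generalize Nat.card (Matrix.ProjectiveSpecialLinearGroup (Fin 3) F4) = k at h ⊢
  norm_num at h
  omega

theorem sylow_of_frame [Finite T] (R : Frame σ e f) (hT : Nat.card T = 64) :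
    ∃ S : Sylow 2 (Matrix.ProjectiveSpecialLinearGroup (Fin 3) F4),
      Nonempty (T ≃* ↥(S : Subgroup (Matrix.ProjectiveSpecialLinearGroup (Fin 3) F4))) := by
  classical
  haveI : Fact (Nat.Prime 2) := ⟨Nat.prime_two⟩
  let Φ := Equiv.ofBijective _ (R.Phi_bij hT)
  have hΦ : ∀ u, Φ u = Phi σ e f u := fun _ => rfl
  let Ψ : T →* Matrix.SpecialLinearGroup (Fin 3) F4 := MonoidHom.mk' (fun y => matM (Φ.symm y)) (by
    intro y y'
    obtain ⟨u, rfl⟩ := Φ.surjective y
    obtain ⟨v, rfl⟩ := Φ.surjective y'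
    simp only [Equiv.symm_apply_apply]
    rw [matM_mul, hΦ, hΦ, R.Phi_mul, ← hΦ, Equiv.symm_apply_apply])
  have hΨ : ∀ u, Ψ (Φ u) = matM u := fun u => by
    show matM (Φ.symm (Φ u)) = matM u
    rw [Equiv.symm_apply_apply]
  let Θ : T →* Matrix.ProjectiveSpecialLinearGroup (Fin 3) F4 :=
    (QuotientGroup.mk' _).comp Ψ
  have hinj : Function.Injective Θ := by
    rw [injective_iff_map_eq_one]
    intro y hy
    obtain ⟨⟨a, b, c⟩, rfl⟩ := Φ.surjective y
    have h1 : Ψ (Φ (a, b, c)) ∈ Subgroup.center (Matrix.SpecialLinearGroup (Fin 3) F4) :=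
      (QuotientGroup.eq_one_iff _).1 hy
    rw [hΨ, Matrix.SpecialLinearGroup.mem_center_iff] at h1
    obtain ⟨r, -, hr⟩ := h1
    have h01 := congrFun (congrFun hr 0) 1
    have h02 := congrFun (congrFun hr 0) 2
    have h12 := congrFun (congrFun hr 1) 2
    simp [matM] at h01 h02 h12
    have ha : a = 0 := h01.symm
    have hb : b = 0 := h12.symm
    have hc : c = 0 := h02.symm
    subst ha hb hc
    rw [hΦ]
    show (1 : T) * 1 * 1 = 1
    simp
  have hfact : (Nat.card (Matrix.ProjectiveSpecialLinearGroup (Fin 3) F4)).factorization 2 = 6 := by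
    rw [card_PSL34, Nat.factorization_mul (by norm_num) (by norm_num), Finsupp.add_apply,
      Nat.factorization_eq_zero_of_not_dvd (by norm_num : ¬ 2 ∣ 315), add_zero,
      Nat.Prime.factorization_pow Nat.prime_two]
    simp
  have hcard : Nat.card Θ.range = 2 ^ (Nat.card (Matrix.ProjectiveSpecialLinearGroup (Fin 3) F4)).factorization 2 := by
    rw [hfact, ← Nat.card_congr (MonoidHom.ofInjective hinj).toEquiv, hT]
    norm_num
  exact ⟨Sylow.ofCard Θ.range hcard, ⟨MonoidHom.ofInjective hinj⟩⟩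

end sylow

theorem main64 {T : Type*} [Group T] [Finite T] (hT : Nat.card T = 64) (hna : ¬ IsMulCommutative T)
    (ρ x : MulAut T) (hρ : orderOf ρ = 3) (hx : orderOf x = 2)
    (hxr : x * ρ * x⁻¹ = ρ⁻¹) (hfp : ∀ y : T, ρ y = y → y = 1) (C : Subgroup T)
    (hC : ∀ y : T, y ∈ C ↔ x y = y) :
    (∃ S : Sylow 2 (Matrix.ProjectiveSpecialLinearGroup (Fin 3) F4),
        Nonempty (T ≃* ↥(S : Subgroup (Matrix.ProjectiveSpecialLinearGroup (Fin 3) F4)))) ∧
      (Nonempty (↥C ≃* DihedralGroup 4) ∨ Nonempty (↥C ≃* QuaternionGroup 2)) := by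
  have hP : IsPGroup 2 T := (IsPGroup.iff_card).2 ⟨6, by rw [hT]; norm_num⟩
  haveI : Group.IsNilpotent T := hP.isNilpotent
  have hρ3 : ρ ^ 3 = 1 := by rw [← hρ]; exact pow_orderOf_eq_one ρ
  have hx2 : x ^ 2 = 1 := by rw [← hx]; exact pow_orderOf_eq_one x
  have h3 : ∀ y, ρ (ρ (ρ y)) = y := fun y => by
    have := congrArg (fun g : MulAut T => g y) hρ3
    simpa [pow_succ, MulAut.mul_apply] using this
  have ht : ∀ y, x (x y) = y := fun y => by
    have := congrArg (fun g : MulAut T => g y) hx2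
    simpa [pow_succ, MulAut.mul_apply] using this
  have hinv : ρ⁻¹ = ρ * ρ := by
    rw [inv_eq_iff_mul_eq_one, ← hρ3]
    simp only [pow_succ, pow_zero, one_mul, mul_assoc]
  have hts : ∀ y, x (ρ y) = ρ (ρ (x y)) := by
    intro y
    have h1 : x * ρ = ρ * ρ * x := by
      rw [← hinv, ← hxr]
      group
    have := congrArg (fun g : MulAut T => g y) h1
    simpa [MulAut.mul_apply] using this
  have D : FpfData ρ := FpfData.of_fin ρ h3 hfp
  have hZ := center_card_four D hT hna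
  have I : InvData ρ x := ⟨D, hZ, ht, hts⟩
  obtain ⟨e, f, he, hf, hef⟩ := I.exists_invols hT
  exact ⟨sylow_of_frame ⟨D, he, hf, hef⟩ hT, I.C_iso hT C hC⟩

end Cfsg.Agent.H29.Ord64
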