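import Mathlib
import Cfsg.Agent.Lib.H29.Order64

/-! Two-groups with commuting automorphisms of orders three (fixed-point-free) and two, with
four fixed points of the latter. -/

set_option autoImplicit false
set_option linter.style.haveILetI false
set_option linter.unusedSectionVars false

namespace Cfsg.Agent.H29.Ord64

open scoped commutatorElement

section basics

variable {T : Type*} [Group T]

/-- The fixed points of an automorphism. -/
def Fx (τ : T ≃* T) : Subgroup T where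
  carrier := {y | τ y = y}
  one_mem' := map_one τ
  mul_mem' := by
    intro a b ha hb
    show τ (a * b) = a * b
    rw [map_mul, ha, hb]
  inv_mem' := by
    intro a ha
    show τ a⁻¹ = a⁻¹
    rw [map_inv, ha]

theorem mem_Fx {τ : T ≃* T} {y : T} : y ∈ Fx τ ↔ τ y = y := Iff.rfl

variable {σ : T ≃* T}

theorem inv_mod3 [Finite T] (h3 : ∀ y, σ (σ (σ y)) = y) (hf : ∀ y, σ y = y → y = 1)
    (X : Subgroup T) (hX : ∀ x ∈ X, σ x ∈ X) : Nat.card X ≡ 1 [MOD 3] := by
  classical
  let f : Equiv.Perm X :=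
    { toFun := fun z => ⟨σ z.1, hX _ z.2⟩
      invFun := fun z => ⟨σ (σ z.1), hX _ (hX _ z.2)⟩
      left_inv := fun z => Subtype.ext (h3 z.1)
      right_inv := fun z => Subtype.ext (h3 z.1) }
  have hf3 : f ^ 3 = 1 := by
    ext z
    show σ (σ (σ z.1)) = z.1
    exact h3 z.1
  have h := card_fix_mod3 f hf3
  have h1 : Nat.card {x // f x = x} = 1 := by
    rw [Nat.card_eq_one_iff_unique]
    refine ⟨⟨?_⟩, ⟨⟨1, ?_⟩⟩⟩
    · rintro ⟨a, ha⟩ ⟨b, hb⟩
      have ha' : a = 1 := Subtype.ext (hf a.1 (congrArg Subtype.val ha))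
      have hb' : b = 1 := Subtype.ext (hf b.1 (congrArg Subtype.val hb))
      exact Subtype.ext (ha'.trans hb'.symm)
    · apply Subtype.ext
      show σ 1 = 1
      exact map_one σ
  rw [h1] at h
  exact h

/-- Each step in the lattice of invariant subgroups multiplies the order by at least four. -/
theorem inv_step [Finite T] (hP : IsPGroup 2 T) (h3 : ∀ y, σ (σ (σ y)) = y)
    (hf : ∀ y, σ y = y → y = 1) {X Y : Subgroup T} (hX : ∀ x ∈ X, σ x ∈ X)
    (hY : ∀ x ∈ Y, σ x ∈ Y) (hXY : X ≤ Y) (hne : X ≠ Y) : 4 * Nat.card X ≤ Nat.card Y := by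
  classical
  haveI : Fact (Nat.Prime 2) := ⟨Nat.prime_two⟩
  have h1 := inv_mod3 h3 hf X hX
  have h2 := inv_mod3 h3 hf Y hY
  obtain ⟨k, hk⟩ := Subgroup.card_dvd_of_le hXY
  have hYP : IsPGroup 2 Y := hP.to_subgroup Y
  obtain ⟨m, hm⟩ := (IsPGroup.iff_card (p := 2)).1 hYP
  have hkd : k ∣ 2 ^ m := by rw [← hm, hk]; exact Dvd.intro_left _ rfl
  obtain ⟨j, -, rfl⟩ := (Nat.dvd_prime_pow Nat.prime_two).1 hkd
  have hpos : 0 < Nat.card X := Nat.card_pos
  have hj0 : j ≠ 0 := by
    rintro rfl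
    apply hne
    apply Subgroup.eq_of_le_of_card_ge hXY
    rw [hk]; simp
  have hj1 : j ≠ 1 := by
    rintro rfl
    rw [hk] at h2
    unfold Nat.ModEq at h1 h2
    omega
  have hj2 : 2 ≤ j := by omega
  have h4 : 2 ^ 2 ≤ 2 ^ j := Nat.pow_le_pow_right (by norm_num) hj2
  rw [hk]
  nlinarith

theorem inv_four_cases [Finite T] (h3 : ∀ y, σ (σ (σ y)) = y) (hf : ∀ y, σ y = y → y = 1)
    {X : Subgroup T} (hX : ∀ x ∈ X, σ x ∈ X) (hc : Nat.card X = 4) {z w : T}
    (hz : z ∈ X) (hz1 : z ≠ 1) (hw : w ∈ X) : w = 1 ∨ w = z ∨ w = σ z ∨ w = σ (σ z) := by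
  classical
  by_contra hcon
  push Not at hcon
  obtain ⟨h1, h2, h3', h4⟩ := hcon
  have hσ1 : σ z ≠ 1 := fun h => hz1 (by simpa using h)
  have hσ2 : σ (σ z) ≠ 1 := fun h => hz1 (by simpa using h)
  have hσ3 : σ z ≠ z := fun h => hz1 (hf z h)
  have hσ4 : σ (σ z) ≠ z := fun h => by
    have h5 := congrArg σ h
    rw [h3] at h5
    exact hz1 (hf z h5.symm)
  have hσ5 : σ (σ z) ≠ σ z := fun h => hσ3 (σ.injective h)
  let S : Finset T := {1, z, σ z, σ (σ z), w}
  have hS : S.card = 5 := by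
    simp only [S]
    rw [Finset.card_insert_of_notMem, Finset.card_insert_of_notMem, Finset.card_insert_of_notMem,
      Finset.card_insert_of_notMem, Finset.card_singleton]
    · simp [h4.symm]
    · simp [h3'.symm, hσ5.symm]
    · simp [h2.symm, hσ3.symm, hσ4.symm]
    · simp [h1.symm, hz1.symm, hσ1.symm, hσ2.symm]
  have hsub : (S : Set T) ⊆ (X : Set T) := by
    intro a ha
    simp only [S, Finset.coe_insert, Finset.coe_singleton, Set.mem_insert_iff,
      Set.mem_singleton_iff] at ha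
    rcases ha with rfl | rfl | rfl | rfl | rfl
    · exact Subgroup.one_mem _
    · exact hz
    · exact hX _ hz
    · exact hX _ (hX _ hz)
    · exact hw
  have h5 := Set.ncard_le_ncard hsub (Set.toFinite _)
  rw [Set.ncard_coe_finset, hS] at h5
  have h6 : Nat.card X = (X : Set T).ncard := (Nat.card_coe_set_eq _)
  omega

theorem inv_four_sq [Finite T] (h3 : ∀ y, σ (σ (σ y)) = y) (hf : ∀ y, σ y = y → y = 1)
    {X : Subgroup T} (hX : ∀ x ∈ X, σ x ∈ X) (hc : Nat.card X = 4) {z : T}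
    (hz : z ∈ X) : z * z = 1 := by
  by_contra hne
  have hs := Fpf3.split_of_fpf σ h3 hf
  have hsc := Fpf3.comm_of_split σ hs h3
  have hz1 : z ≠ 1 := by
    rintro rfl
    simp at hne
  have h4 : z ^ 4 = 1 := by
    have := pow_card_eq_one' (G := X) (x := ⟨z, hz⟩)
    rw [hc] at this
    exact congrArg Subtype.val this
  have hmem : z * z ∈ X := Subgroup.mul_mem _ hz hz
  have hs' := hs z
  rcases inv_four_cases h3 hf hX hc hz hz1 hmem with h | h | h | h
  · exact hne h
  · exact hz1 (by simpa using h)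
  · have e1 : σ (σ z) = z * z * (z * z) := by rw [← h, map_mul, ← h]
    rw [e1, ← h] at hs'
    apply hz1
    have e2 : z ^ 7 = 1 := by
      have e0 : z ^ 7 = z * (z * z) * (z * z * (z * z)) := by
        simp only [pow_succ, pow_zero, one_mul, mul_assoc]
      rw [e0]; exact hs'
    have e3 : z ^ 7 = z ^ 4 * z ^ 3 := by group
    rw [e3, h4, one_mul] at e2
    have e4 : z = z ^ 4 * (z ^ 3)⁻¹ := by group
    rw [e4, h4, e2]; simp
  · rw [← h] at hs'
    apply hz1
    apply hf z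
    have e1 : z * σ z * (z * z) = σ z * z ^ 3 := by
      rw [hsc z]
      simp only [pow_succ, pow_zero, one_mul, mul_assoc]
    rw [e1] at hs'
    have e2 : σ z = (z ^ 3)⁻¹ := eq_inv_of_mul_eq_one_left hs'
    rw [e2]
    have e3 : z = z ^ 4 * (z ^ 3)⁻¹ := by group
    rw [h4, one_mul] at e3
    exact e3.symm

end basics

section abelian

variable {A : Type*} [CommGroup A] [Finite A]

/-- Hypotheses on the commuting automorphisms. -/
structure AbData (σ τ : A ≃* A) : Prop where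
  hP : IsPGroup 2 A
  h3 : ∀ y, σ (σ (σ y)) = y
  hf : ∀ y, σ y = y → y = 1
  ht : ∀ y, τ (τ y) = y
  hc : ∀ y, τ (σ y) = σ (τ y)

variable {σ τ : A ≃* A}

theorem exists_sq_of_not_mem (hP : IsPGroup 2 A) (H : Subgroup A) (g₀ : A) (hg₀ : g₀ ∉ H) :
    ∃ g, g ∉ H ∧ g * g ∈ H := by
  classical
  obtain ⟨m, hm⟩ := (IsPGroup.iff_orderOf (p := 2)).1 hP g₀
  have hex : ∃ k : ℕ, g₀ ^ 2 ^ k ∈ H := ⟨m, by
    rw [← hm, pow_orderOf_eq_one]; exact Subgroup.one_mem _⟩
  have hk := Nat.find_spec hex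
  have hmin := fun k => Nat.find_min hex (m := k)
  set k := Nat.find hex with hkdef
  have hk0 : k ≠ 0 := by
    intro h0
    rw [h0] at hk
    simp at hk
    exact hg₀ hk
  obtain ⟨j, hj⟩ := Nat.exists_eq_succ_of_ne_zero hk0
  refine ⟨g₀ ^ 2 ^ j, hmin j (by omega), ?_⟩
  rw [← pow_add, ← two_mul, ← pow_succ']
  rw [hj] at hk
  exact hk

theorem ab_rank2 (D : AbData σ τ) (hV : Nat.card (Fx τ) = 4)
    (hΩ : ∀ x : A, x * x = 1 → x ∈ Fx τ) : ∃ y : A, Subgroup.closure {y, σ y} = ⊤ := by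
  classical
  have hVinv : ∀ x ∈ Fx τ, σ x ∈ Fx τ := by
    intro x hx
    show τ (σ x) = σ x
    rw [D.hc, mem_Fx.1 hx]
  have hs := Fpf3.split_of_fpf σ D.h3 D.hf
  obtain ⟨y, hy⟩ := Monoid.exists_orderOf_eq_exponent (G := A)
    ⟨Nat.card A, Nat.card_pos, fun g => pow_card_eq_one'⟩
  obtain ⟨n, hn⟩ := (IsPGroup.iff_orderOf (p := 2)).1 D.hP y
  have hexp : ∀ x : A, x ^ 2 ^ n = 1 := by
    intro x
    rw [← hn, hy]
    exact Monoid.pow_exponent_eq_one x
  have hn0 : n ≠ 0 := by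
    rintro rfl
    have h1 : ∀ x : A, x = 1 := fun x => by simpa using hexp x
    have h2 : Fx τ = ⊥ := (Subgroup.eq_bot_iff_forall _).2 fun x _ => h1 x
    rw [h2, Subgroup.card_bot] at hV
    omega
  obtain ⟨m, rfl⟩ := Nat.exists_eq_succ_of_ne_zero hn0
  set w := y ^ 2 ^ m with hw
  have hw1 : w ≠ 1 := by
    intro h
    have h1 := orderOf_dvd_of_pow_eq_one h
    rw [hn] at h1
    have h2 := Nat.le_of_dvd (by positivity) h1
    have h3 : 2 ^ (m + 1) = 2 * 2 ^ m := by ring
    have h4 : 0 < 2 ^ m := by positivity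
    omega
  have hww : w * w = 1 := by
    rw [hw, ← pow_add, ← two_mul, ← pow_succ']
    exact hexp y
  have hσw : σ w * σ w = 1 := by rw [← map_mul, hww, map_one]
  have hσσw : σ (σ w) * σ (σ w) = 1 := by rw [← map_mul, hσw, map_one]
  refine ⟨y, ?_⟩
  set H := Subgroup.closure {y, σ y} with hH
  have hyH : y ∈ H := Subgroup.subset_closure (by simp)
  have hσyH : σ y ∈ H := Subgroup.subset_closure (by simp)
  have hwH : w ∈ H := Subgroup.pow_mem _ hyH _
  have hσwH : σ w ∈ H := by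
    rw [hw, map_pow]
    exact Subgroup.pow_mem _ hσyH _
  have hσσwH : σ (σ w) ∈ H := by
    have h1 := hs w
    have h2 : σ (σ w) = (w * σ w)⁻¹ := eq_inv_of_mul_eq_one_right h1
    rw [h2]
    exact Subgroup.inv_mem _ (Subgroup.mul_mem _ hwH hσwH)
  have hVH : Fx τ ≤ H := by
    intro v hv
    rcases inv_four_cases D.h3 D.hf hVinv hV (hΩ w hww) hw1 hv with h | h | h | h
    · rw [h]; exact Subgroup.one_mem _
    · rw [h]; exact hwH
    · rw [h]; exact hσwH
    · rw [h]; exact hσσwH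
  by_contra htop
  obtain ⟨g₀, hg₀⟩ : ∃ g, g ∉ H := by
    by_contra hcon
    push Not at hcon
    exact htop (eq_top_iff.2 fun g _ => hcon g)
  obtain ⟨g, hg, hgg⟩ := exists_sq_of_not_mem D.hP H g₀ hg₀
  obtain ⟨i, j, hij⟩ := Subgroup.mem_closure_pair.1 hgg
  have h1 : w ^ i * (σ w) ^ j = 1 := by
    have h2 : (y ^ i * (σ y) ^ j) ^ 2 ^ m = 1 := by
      rw [hij, ← pow_two, ← pow_mul, ← pow_succ']
      exact hexp g
    rw [mul_pow, ← zpow_natCast, ← zpow_natCast, ← zpow_mul, ← zpow_mul, mul_comm i, mul_comm j,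
      zpow_mul, zpow_mul, zpow_natCast, zpow_natCast, ← map_pow] at h2
    exact h2
  have hzw : ∀ (a : A) (k : ℤ), a * a = 1 → a ^ (2 * k) = 1 := by
    intro a k ha
    rw [zpow_mul, zpow_ofNat, pow_two, ha, one_zpow]
  have hzw' : ∀ (a : A) (k : ℤ), a * a = 1 → a ^ (2 * k + 1) = a := by
    intro a k ha
    rw [zpow_add, hzw a k ha, one_mul, zpow_one]
  have hσne : σ w ≠ 1 := fun h => hw1 (σ.injective (h.trans (map_one σ).symm))
  rcases Int.even_or_odd' i with ⟨i', rfl | rfl⟩ <;> rcases Int.even_or_odd' j with ⟨j', rfl | rfl⟩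
  · let h := y ^ i' * (σ y) ^ j'
    have hhH : h ∈ H := Subgroup.mul_mem _ (Subgroup.zpow_mem _ hyH _) (Subgroup.zpow_mem _ hσyH _)
    have hhh : h * h = g * g := by
      rw [← hij]
      simp only [h]
      rw [two_mul i', two_mul j', zpow_add, zpow_add]
      simp only [mul_assoc, mul_comm, mul_left_comm]
    have h3 : (g * h⁻¹) * (g * h⁻¹) = 1 := by
      have : (g * h⁻¹) * (g * h⁻¹) = (g * g) * (h * h)⁻¹ := by
        simp only [mul_inv_rev, mul_assoc, mul_comm, mul_left_comm]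
      rw [this, hhh, mul_inv_cancel]
    have h4 := hVH (hΩ _ h3)
    apply hg
    have h5 : g = (g * h⁻¹) * h := by group
    rw [h5]
    exact Subgroup.mul_mem _ h4 hhH
  · rw [hzw w i' hww, hzw' _ j' hσw, one_mul] at h1
    exact hσne h1
  · rw [hzw' w i' hww, hzw _ j' hσw, mul_one] at h1
    exact hw1 h1
  · rw [hzw' w i' hww, hzw' _ j' hσw] at h1
    apply hw1
    apply D.hf
    have h2 : σ w = w⁻¹ := eq_inv_of_mul_eq_one_right h1
    have h3 : w⁻¹ = w := inv_eq_of_mul_eq_one_left hww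
    rw [h2, h3]


theorem exists_order_four (hP : IsPGroup 2 A) (k : A) (hk : k * k ≠ 1) :
    ∃ j : ℕ, k ^ 2 ^ j * k ^ 2 ^ j ≠ 1 ∧ (k ^ 2 ^ j * k ^ 2 ^ j) * (k ^ 2 ^ j * k ^ 2 ^ j) = 1 := by
  classical
  obtain ⟨m, hm⟩ := (IsPGroup.iff_orderOf (p := 2)).1 hP k
  have hex : ∃ j : ℕ, k ^ 2 ^ (j + 1) = 1 := ⟨m, by
    rw [pow_succ, pow_mul, ← hm, pow_orderOf_eq_one, one_pow]⟩
  have hj := Nat.find_spec hex
  have hmin := fun j => Nat.find_min hex (m := j)
  set j₀ := Nat.find hex with hj₀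
  have hj0 : j₀ ≠ 0 := by
    intro h0
    rw [h0] at hj
    apply hk
    rw [← pow_two]
    simpa using hj
  obtain ⟨i, hi⟩ := Nat.exists_eq_succ_of_ne_zero hj0
  have e1 : ∀ a : ℕ, k ^ 2 ^ a * k ^ 2 ^ a = k ^ 2 ^ (a + 1) := by
    intro a
    rw [← pow_add, ← two_mul, ← pow_succ']
  refine ⟨i, ?_, ?_⟩
  · rw [e1]
    exact hmin i (by omega)
  · rw [e1, e1]
    rw [hi] at hj
    exact hj

theorem ab_class (D : AbData σ τ) (hV : Nat.card (Fx τ) = 4) :
    (Nat.card A = 16 ∧ ∀ x : A, x * x = 1) ∨ ∃ y : A, Subgroup.closure {y, σ y} = ⊤ := by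
  classical
  by_cases hΩ : ∀ x : A, x * x = 1 → x ∈ Fx τ
  · exact Or.inr (ab_rank2 D hV hΩ)
  left
  push Not at hΩ
  obtain ⟨y, hyy, hyV⟩ := hΩ
  have hyi : y⁻¹ = y := inv_eq_of_mul_eq_one_left hyy
  have hVinv : ∀ x ∈ Fx τ, σ x ∈ Fx τ := by
    intro x hx
    show τ (σ x) = σ x
    rw [D.hc, mem_Fx.1 hx]
  have hVsq : ∀ x ∈ Fx τ, x * x = 1 := fun x hx => inv_four_sq D.h3 D.hf hVinv hV hx
  let N : A →* A := MonoidHom.mk' (fun x => x * τ x) (by
    intro a b
    rw [map_mul]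
    simp only [mul_assoc, mul_comm, mul_left_comm])
  let B : A →* A := MonoidHom.mk' (fun x => x⁻¹ * τ x) (by
    intro a b
    rw [map_mul, mul_inv]
    simp only [mul_assoc, mul_comm, mul_left_comm])
  have hN : ∀ x, N x = x * τ x := fun _ => rfl
  have hB : ∀ x, B x = x⁻¹ * τ x := fun _ => rfl
  have hNV : ∀ x, N x ∈ Fx τ := by
    intro x
    show τ (N x) = N x
    rw [hN, map_mul, D.ht, mul_comm]
  have hBK : ∀ x, B x ∈ N.ker := by
    intro x
    rw [MonoidHom.mem_ker, hN, hB, map_mul, map_inv, D.ht]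
    simp only [mul_assoc, mul_comm, mul_left_comm]
    simp
  have hkerB : B.ker = Fx τ := by
    ext x
    rw [MonoidHom.mem_ker, hB, mem_Fx, inv_mul_eq_one]
    exact eq_comm
  have hv1 : N y ≠ 1 := by
    intro h
    apply hyV
    rw [hN] at h
    have h1 : τ y = y⁻¹ := eq_inv_of_mul_eq_one_right h
    rw [hyi] at h1
    exact h1
  -- the image of the norm
  have hRV : N.range ≤ Fx τ := by
    rintro _ ⟨x, rfl⟩
    exact hNV x
  have hRinv : ∀ x ∈ N.range, σ x ∈ N.range := by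
    rintro _ ⟨x, rfl⟩
    refine ⟨σ x, ?_⟩
    rw [hN, hN, map_mul, D.hc]
  have hR4 : Nat.card N.range = 4 := by
    have h1 := inv_step (X := ⊥) (Y := N.range) D.hP D.h3 D.hf
      (by
        intro x hx
        rw [Subgroup.mem_bot] at hx
        rw [hx, map_one]
        exact Subgroup.one_mem _) hRinv bot_le
      (by
        intro h
        have : N y ∈ (⊥ : Subgroup A) := by rw [h]; exact ⟨y, rfl⟩
        exact hv1 (Subgroup.mem_bot.1 this))
    rw [Subgroup.card_bot, mul_one] at h1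
    have h2 := Subgroup.card_le_of_le hRV
    omega
  have hcardK : Nat.card N.ker * 4 = Nat.card A := by
    rw [← hR4, ← Subgroup.index_ker]
    exact Subgroup.card_mul_index _
  have hcardB : 4 * Nat.card B.range = Nat.card A := by
    rw [← hV, ← hkerB, ← Subgroup.index_ker]
    exact Subgroup.card_mul_index _
  have hrange : B.range = N.ker := by
    apply Subgroup.eq_of_le_of_card_ge
    · rintro _ ⟨x, rfl⟩
      exact hBK x
    · omega
  have hVK : Fx τ ≤ N.ker := by
    intro x hx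
    rw [MonoidHom.mem_ker, hN, mem_Fx.1 hx]
    exact hVsq x hx
  have hKinv : ∀ x ∈ N.ker, σ x ∈ N.ker := by
    intro x hx
    rw [MonoidHom.mem_ker, hN] at hx ⊢
    rw [D.hc, ← map_mul, hx, map_one]
  have hK2 : ∀ x ∈ N.ker, x * x = 1 → x ∈ Fx τ := by
    intro x hx hxx
    rw [MonoidHom.mem_ker, hN] at hx
    have h1 : τ x = x⁻¹ := eq_inv_of_mul_eq_one_right hx
    rw [inv_eq_of_mul_eq_one_left hxx] at h1
    exact h1
  have hKV : N.ker = Fx τ := by
    by_contra hne
    obtain ⟨k, hk, hkV⟩ : ∃ k ∈ N.ker, k ∉ Fx τ := by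
      by_contra hcon
      push Not at hcon
      exact hne (le_antisymm hcon hVK)
    have hkk : k * k ≠ 1 := fun h => hkV (hK2 k hk h)
    obtain ⟨j, hj1, hj2⟩ := exists_order_four D.hP k hkk
    set k₀ := k ^ 2 ^ j with hk₀
    have hk₀K : k₀ ∈ N.ker := Subgroup.pow_mem _ hk _
    have hu : k₀ * k₀ ∈ Fx τ := hK2 _ (Subgroup.mul_mem _ hk₀K hk₀K) hj2
    obtain ⟨k₁, hk₁K, hk₁⟩ : ∃ k₁ ∈ N.ker, k₁ * k₁ = N y := by
      rcases inv_four_cases D.h3 D.hf hVinv hV hu hj1 (hNV y) with h | h | h | h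
      · exact absurd h hv1
      · exact ⟨k₀, hk₀K, h.symm⟩
      · exact ⟨σ k₀, hKinv _ hk₀K, by rw [← map_mul]; exact h.symm⟩
      · exact ⟨σ (σ k₀), hKinv _ (hKinv _ hk₀K), by
          rw [← map_mul, ← map_mul]; exact h.symm⟩
    rw [← hrange] at hk₁K
    obtain ⟨x, rfl⟩ := hk₁K
    have hBy : B y = N y := by rw [hB, hN, hyi]
    have h1 : B (x * x * y⁻¹) = 1 := by
      rw [map_mul, map_mul, map_inv, hk₁, hBy, mul_inv_cancel]
    have h2 : x * x * y⁻¹ ∈ N.ker := by
      apply hVK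
      rw [← hkerB]
      exact h1
    have h3 : x * x ∈ N.ker := by
      rw [MonoidHom.mem_ker, map_mul]
      exact hVsq _ (hNV x)
    have h4 : y ∈ N.ker := by
      have h5 : y = (x * x * y⁻¹)⁻¹ * (x * x) := by group
      rw [h5]
      exact Subgroup.mul_mem _ (Subgroup.inv_mem _ h2) h3
    exact hv1 h4
  have hA16 : Nat.card A = 16 := by
    rw [← hcardK, hKV, hV]
  refine ⟨hA16, ?_⟩
  let Ω : Subgroup A := (powMonoidHom 2 : A →* A).ker
  have hΩmem : ∀ x, x ∈ Ω ↔ x * x = 1 := by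
    intro x
    show x ^ 2 = 1 ↔ _
    rw [pow_two]
  have h5 := inv_step (X := Fx τ) (Y := Ω) D.hP D.h3 D.hf hVinv
    (by
      intro x hx
      rw [hΩmem] at hx ⊢
      rw [← map_mul, hx, map_one])
    (fun x hx => (hΩmem x).2 (hVsq x hx))
    (by
      intro h
      exact hyV (h ▸ (hΩmem y).2 hyy))
  rw [hV] at h5
  have h6 : Ω = ⊤ := by
    apply Subgroup.eq_top_of_card_eq
    have := Subgroup.card_le_card_group Ω
    omega
  intro x
  rw [← hΩmem, h6]
  trivial

end abelian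


section nonab

variable {T : Type*} [Group T] {σ τ : T ≃* T}

theorem comm_of_gen (D : FpfData σ) (g : T)
    (h : Subgroup.closure {g, σ g} ⊔ commutator T = ⊤) : IsMulCommutative T := by
  have hcomm : commutator T ≤ Subgroup.center T := by
    rw [commutator_def, Subgroup.commutator_le]
    intro a _ b _
    exact D.cen a b
  have hcen : ∀ x : T, x ∈ Subgroup.center T → x ∈ Subgroup.centralizer ({g} : Set T) := by
    intro x hx
    rw [Subgroup.mem_centralizer_singleton_iff]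
    exact (Subgroup.mem_center_iff.1 hx g).symm
  have hg : g ∈ Subgroup.center T := by
    have h1 : (⊤ : Subgroup T) ≤ Subgroup.centralizer ({g} : Set T) := by
      rw [← h]
      apply sup_le
      · rw [Subgroup.closure_le]
        intro x hx
        simp only [Set.mem_insert_iff, Set.mem_singleton_iff] at hx
        rcases hx with rfl | rfl
        · simp [Subgroup.mem_centralizer_singleton_iff]
        · rw [SetLike.mem_coe, Subgroup.mem_centralizer_singleton_iff]
          exact (D.hsc g).symm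
      · exact fun x hx => hcen x (hcomm hx)
    rw [Subgroup.mem_center_iff]
    intro x
    have := h1 (Subgroup.mem_top x)
    rw [Subgroup.mem_centralizer_singleton_iff] at this
    exact this
  have htop : (⊤ : Subgroup T) ≤ Subgroup.center T := by
    rw [← h]
    apply sup_le
    · rw [Subgroup.closure_le]
      intro x hx
      simp only [Set.mem_insert_iff, Set.mem_singleton_iff] at hx
      rcases hx with rfl | rfl
      · exact hg
      · exact FpfData.map_cen σ hg
    · exact hcomm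
  refine ⟨⟨fun a b => ?_⟩⟩
  exact Subgroup.mem_center_iff.1 (htop (Subgroup.mem_top b)) a

/-- The subgroup of a triple. -/
def tripleSub {p q r : T} (h : Triple p q r) : Subgroup T where
  carrier := Set.range (Lf p q r)
  one_mem' := ⟨F4.o, rfl⟩
  mul_mem' := by
    rintro _ _ ⟨a, rfl⟩ ⟨b, rfl⟩
    exact ⟨a + b, Lf_add h a b⟩
  inv_mem' := by
    rintro _ ⟨a, rfl⟩
    refine ⟨a, ?_⟩
    apply eq_inv_of_mul_eq_one_left
    rw [← Lf_add h, F4.add_self]
    rfl

theorem card_tripleSub_le {p q r : T} (h : Triple p q r) : Nat.card (tripleSub h) ≤ 4 := by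
  have h1 : Function.Surjective (fun a : F4 => (⟨Lf p q r a, ⟨a, rfl⟩⟩ : tripleSub h)) := by
    rintro ⟨_, ⟨a, rfl⟩⟩
    exact ⟨a, rfl⟩
  have h2 := Nat.card_le_card_of_surjective _ h1
  have h3 : Nat.card F4 = 4 := by rw [Nat.card_eq_fintype_card]; rfl
  rw [h3] at h2
  exact h2

/-- Elements whose commutators with a fixed element lie in a subgroup. -/
def RR (D : FpfData σ) (W : Subgroup T) (x : T) : Subgroup T where
  carrier := {y | ⁅x, y⁆ ∈ W}
  one_mem' := by
    show ⁅x, (1 : T)⁆ ∈ W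
    simp [commutatorElement_def, Subgroup.one_mem]
  mul_mem' := by
    intro a b ha hb
    show ⁅x, a * b⁆ ∈ W
    rw [D.mr]
    exact Subgroup.mul_mem _ ha hb
  inv_mem' := by
    intro a ha
    show ⁅x, a⁻¹⁆ ∈ W
    rw [D.inv_r]
    exact Subgroup.inv_mem _ ha

/-- Elements all of whose commutators lie in a subgroup. -/
def RR' (D : FpfData σ) (W : Subgroup T) : Subgroup T where
  carrier := {x | ∀ y, ⁅x, y⁆ ∈ W}
  one_mem' := by
    intro y
    simp [commutatorElement_def, Subgroup.one_mem]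
  mul_mem' := by
    intro a b ha hb y
    rw [D.ml]
    exact Subgroup.mul_mem _ (ha y) (hb y)
  inv_mem' := by
    intro a ha y
    rw [D.inv_l]
    exact Subgroup.inv_mem _ (ha y)

theorem comm_inv (D : FpfData σ) : ∀ x ∈ commutator T, σ x ∈ commutator T := by
  intro x hx
  have h1 : (commutator T).map σ.toMonoidHom = commutator T :=
    Subgroup.characteristic_iff_map_eq.1 inferInstance σ
  rw [← h1]
  exact ⟨x, hx, rfl⟩

theorem card_comm_le [Finite T] (hP : IsPGroup 2 T) (D : FpfData σ)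
    (hcardT : Nat.card T = 16 * Nat.card (commutator T)) (hsq : ∀ y : T, y * y ∈ commutator T)
    (hna : ¬ IsMulCommutative T) : Nat.card (commutator T) ≤ 4 := by
  classical
  have hcomm : commutator T ≤ Subgroup.center T := by
    rw [commutator_def, Subgroup.commutator_le]
    intro a _ b _
    exact D.cen a b
  have hT'inv := comm_inv D
  have hpos : 0 < Nat.card (commutator T) := Nat.card_pos
  obtain ⟨a, ha⟩ : ∃ a : T, a ∉ commutator T := by
    by_contra hcon
    push Not at hcon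
    have h1 : commutator T = ⊤ := eq_top_iff.2 fun g _ => hcon g
    rw [h1, Subgroup.card_top] at hcardT
    have hpos' : 0 < Nat.card T := Nat.card_pos
    omega
  set L₁ := commutator T ⊔ Subgroup.closure {a, σ a} with hL₁
  have hinv2 : ∀ g : T, σ (σ g) = (g * σ g)⁻¹ := fun g => eq_inv_of_mul_eq_one_right (D.hs g)
  have hL₁inv : ∀ x ∈ L₁, σ x ∈ L₁ := by
    have h1 : L₁ ≤ L₁.comap σ.toMonoidHom := by
      apply sup_le
      · intro x hx
        exact (le_sup_left : _ ≤ L₁) (hT'inv x hx)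
      · rw [Subgroup.closure_le]
        intro x hx
        simp only [Set.mem_insert_iff, Set.mem_singleton_iff] at hx
        have ha1 : a ∈ L₁ := (le_sup_right : _ ≤ L₁) (Subgroup.subset_closure (by simp))
        have ha2 : σ a ∈ L₁ := (le_sup_right : _ ≤ L₁) (Subgroup.subset_closure (by simp))
        rcases hx with hx | hx
        · rw [hx]; exact ha2
        · rw [hx]
          show σ (σ a) ∈ L₁
          rw [hinv2]
          exact Subgroup.inv_mem _ (Subgroup.mul_mem _ ha1 ha2)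
    exact fun x hx => h1 hx
  have hL₁ne : L₁ ≠ ⊤ := by
    intro h
    apply hna
    apply comm_of_gen D a
    rw [sup_comm]
    exact h
  obtain ⟨b, hb⟩ : ∃ b : T, b ∉ L₁ := by
    by_contra hcon
    push Not at hcon
    exact hL₁ne (eq_top_iff.2 fun g _ => hcon g)
  set L₂ := L₁ ⊔ Subgroup.closure {b, σ b} with hL₂
  have hL₂inv : ∀ x ∈ L₂, σ x ∈ L₂ := by
    have h1 : L₂ ≤ L₂.comap σ.toMonoidHom := by
      apply sup_le
      · intro x hx
        exact (le_sup_left : _ ≤ L₂) (hL₁inv x hx)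
      · rw [Subgroup.closure_le]
        intro x hx
        simp only [Set.mem_insert_iff, Set.mem_singleton_iff] at hx
        have ha1 : b ∈ L₂ := (le_sup_right : _ ≤ L₂) (Subgroup.subset_closure (by simp))
        have ha2 : σ b ∈ L₂ := (le_sup_right : _ ≤ L₂) (Subgroup.subset_closure (by simp))
        rcases hx with hx | hx
        · rw [hx]; exact ha2
        · rw [hx]
          show σ (σ b) ∈ L₂
          rw [hinv2]
          exact Subgroup.inv_mem _ (Subgroup.mul_mem _ ha1 ha2)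
    exact fun x hx => h1 hx
  have hs1 := inv_step hP D.h3 D.hf hT'inv hL₁inv (le_sup_left : commutator T ≤ L₁) (by
    intro h
    apply ha
    rw [h]
    exact (le_sup_right : _ ≤ L₁) (Subgroup.subset_closure (by simp)))
  have hs2 := inv_step hP D.h3 D.hf hL₁inv hL₂inv (le_sup_left : L₁ ≤ L₂) (by
    intro h
    apply hb
    rw [h]
    exact (le_sup_right : _ ≤ L₂) (Subgroup.subset_closure (by simp)))
  have hL₂top : L₂ = ⊤ := by
    apply Subgroup.eq_top_of_card_eq
    have := Subgroup.card_le_card_group L₂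
    omega
  -- the commutators
  have hzz : ⁅a, b⁆ * ⁅a, b⁆ = 1 := by
    rw [← D.ml]
    rw [commutatorElement_eq_one_iff_mul_comm]
    exact (Subgroup.mem_center_iff.1 (hcomm (hsq a)) b).symm
  have hW := triple_of D hzz
  let W := tripleSub hW
  have hW1 : ⁅a, b⁆ ∈ W := ⟨F4.i, rfl⟩
  have hWσ : ∀ x ∈ W, σ x ∈ W := by
    rintro _ ⟨c, rfl⟩
    cases c
    · exact ⟨F4.o, (map_one σ).symm⟩
    · exact ⟨F4.w, rfl⟩
    · exact ⟨F4.v, rfl⟩
    · exact ⟨F4.i, (D.h3 _).symm⟩
  have hself : ∀ x : T, ⁅x, x⁆ = 1 := fun x => by simp [commutatorElement_def]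
  have hup : ∀ x y : T, ⁅x, y⁆ ∈ W → ⁅σ x, y⁆ ∈ W ∧ ⁅x, σ y⁆ ∈ W := by
    intro x y h
    rw [D.bal_l, D.bal_r]
    exact ⟨hWσ _ (hWσ _ h), hWσ _ (hWσ _ h)⟩
  have hone : (1 : T) ∈ W := Subgroup.one_mem _
  have haa : ⁅a, a⁆ ∈ W := by rw [hself]; exact hone
  have hbb : ⁅b, b⁆ ∈ W := by rw [hself]; exact hone
  have hba : ⁅b, a⁆ ∈ W := by rw [FpfData.swap a b]; exact Subgroup.inv_mem _ hW1
  have hRa : ∀ x : T, ⁅x, a⁆ ∈ W → ⁅x, b⁆ ∈ W → ∀ y, ⁅x, y⁆ ∈ W := by
    intro x h1 h2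
    have h3 : (⊤ : Subgroup T) ≤ RR D W x := by
      rw [← hL₂top]
      apply sup_le
      · apply sup_le
        · intro c hc
          show ⁅x, c⁆ ∈ W
          have : ⁅x, c⁆ = 1 := by
            rw [commutatorElement_eq_one_iff_mul_comm]
            exact Subgroup.mem_center_iff.1 (hcomm hc) x
          rw [this]
          exact hone
        · rw [Subgroup.closure_le]
          intro y hy
          simp only [Set.mem_insert_iff, Set.mem_singleton_iff] at hy
          rcases hy with rfl | rfl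
          · exact h1
          · exact (hup _ _ h1).2
      · rw [Subgroup.closure_le]
        intro y hy
        simp only [Set.mem_insert_iff, Set.mem_singleton_iff] at hy
        rcases hy with rfl | rfl
        · exact h2
        · exact (hup _ _ h2).2
    exact fun y => h3 (Subgroup.mem_top y)
  have h4 : (⊤ : Subgroup T) ≤ RR' D W := by
    rw [← hL₂top]
    apply sup_le
    · apply sup_le
      · intro c hc y
        have : ⁅c, y⁆ = 1 := by
          rw [commutatorElement_eq_one_iff_mul_comm]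
          exact (Subgroup.mem_center_iff.1 (hcomm hc) y).symm
        rw [this]
        exact hone
      · rw [Subgroup.closure_le]
        intro y hy
        simp only [Set.mem_insert_iff, Set.mem_singleton_iff] at hy
        rcases hy with rfl | rfl
        · exact hRa _ haa hW1
        · exact hRa _ (hup _ _ haa).1 (hup _ _ hW1).1
    · rw [Subgroup.closure_le]
      intro y hy
      simp only [Set.mem_insert_iff, Set.mem_singleton_iff] at hy
      rcases hy with rfl | rfl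
      · exact hRa _ hba hbb
      · exact hRa _ (hup _ _ hba).1 (hup _ _ hbb).1
  have h5 : commutator T ≤ W := by
    rw [commutator_def, Subgroup.commutator_le]
    intro x _ y _
    exact h4 (Subgroup.mem_top x) y
  exact (Subgroup.card_le_of_le h5).trans (card_tripleSub_le hW)

end nonab


section nonab2

variable {T : Type*} [Group T] [Finite T] {σ τ : T ≃* T}

theorem nonab_card (hP : IsPGroup 2 T) (h3 : ∀ y, σ (σ (σ y)) = y) (hf : ∀ y, σ y = y → y = 1)
    (ht : ∀ y, τ (τ y) = y) (hc : ∀ y, τ (σ y) = σ (τ y)) (hV : Nat.card (Fx τ) = 4)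
    (hna : ¬ IsMulCommutative T) : Nat.card T = 64 := by
  classical
  haveI : Fact (Nat.Prime 2) := ⟨Nat.prime_two⟩
  haveI : Group.IsNilpotent T := hP.isNilpotent
  have D : FpfData σ := FpfData.of_fin σ h3 hf
  have hcomm : commutator T ≤ Subgroup.center T := by
    rw [commutator_def, Subgroup.commutator_le]
    intro a _ b _
    exact D.cen a b
  let π : T →* Abelianization T := Abelianization.of
  have hπ : Function.Surjective π := QuotientGroup.mk_surjective
  have hπker : π.ker = commutator T := Abelianization.ker_of T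
  let σA : Abelianization T ≃* Abelianization T := σ.abelianizationCongr
  let τA : Abelianization T ≃* Abelianization T := τ.abelianizationCongr
  have hσA : ∀ g, σA (π g) = π (σ g) := fun g => rfl
  have hτA : ∀ g, τA (π g) = π (τ g) := fun g => rfl
  have hPA : IsPGroup 2 (Abelianization T) := hP.of_surjective π hπ
  have hfA : ∀ y, σA y = y → y = 1 := by
    intro y hy
    obtain ⟨g, rfl⟩ := hπ y
    have h1 := congrArg π (D.hs g)
    have e1 : π (σ g) = π g := by rw [← hσA, hy]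
    have e2 : π (σ (σ g)) = π g := by rw [← hσA, e1, hy]
    rw [map_mul, map_mul, map_one, e2, e1] at h1
    have h4 : (π g) ^ 3 = 1 := by
      rw [← h1]
      simp only [pow_succ, pow_zero, one_mul]
    obtain ⟨m, hm⟩ := (IsPGroup.iff_orderOf (p := 2)).1 hPA (π g)
    have h5 : orderOf (π g) ∣ 3 := orderOf_dvd_of_pow_eq_one h4
    rw [hm] at h5
    have h6 : Nat.Coprime (2 ^ m) 3 := Nat.Coprime.pow_left _ (by norm_num)
    have h7 : 2 ^ m = 1 := Nat.Coprime.eq_one_of_dvd h6 h5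
    rw [h7] at hm
    exact orderOf_eq_one_iff.1 hm
  have DA : AbData σA τA := by
    refine ⟨hPA, ?_, hfA, ?_, ?_⟩
    · intro y
      obtain ⟨g, rfl⟩ := hπ y
      rw [hσA, hσA, hσA, h3]
    · intro y
      obtain ⟨g, rfl⟩ := hπ y
      rw [hτA, hτA, ht]
    · intro y
      obtain ⟨g, rfl⟩ := hπ y
      rw [hσA, hτA, hτA, hσA, hc]
  have hT'ne : commutator T ≠ ⊤ := by
    intro h
    apply hna
    apply comm_of_gen D 1
    rw [h]
    simp
  have hAcard : Nat.card T = Nat.card (Abelianization T) * Nat.card (commutator T) :=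
    Subgroup.card_eq_card_quotient_mul_card_subgroup _
  have hVA : Nat.card (Fx τA) = 4 := by
    -- upper bound
    let C := (Fx τA).comap π
    have hCcard : Nat.card C = Nat.card (Fx τA) * Nat.card (commutator T) := by
      have h1 := C.card_mul_index
      have h2 := (Fx τA).card_mul_index
      have h4 : C.index = (Fx τA).index := Subgroup.index_comap_of_surjective _ hπ
      rw [h4, hAcard, ← h2] at h1
      have h5 : (Fx τA).index ≠ 0 := Subgroup.index_ne_zero_of_finite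
      have h6 : Nat.card C * (Fx τA).index = (Nat.card (Fx τA) * Nat.card (commutator T)) * (Fx τA).index := by
        rw [h1]; ring
      exact Nat.eq_of_mul_eq_mul_right (Nat.pos_of_ne_zero h5) h6
    have hmemC : ∀ y : C, y.1⁻¹ * τ y.1 ∈ commutator T := by
      intro y
      rw [← hπker, MonoidHom.mem_ker, map_mul, map_inv, ← hτA]
      have h1 : τA (π y.1) = π y.1 := y.2
      rw [h1, inv_mul_cancel]
    let β : C →* T := MonoidHom.mk' (fun y => y.1⁻¹ * τ y.1) (by
      intro a b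
      have h1 := Subgroup.mem_center_iff.1 (hcomm (hmemC a)) b.1⁻¹
      show (a.1 * b.1)⁻¹ * τ (a.1 * b.1) = (a.1⁻¹ * τ a.1) * (b.1⁻¹ * τ b.1)
      rw [map_mul, mul_inv_rev]
      calc b.1⁻¹ * a.1⁻¹ * (τ a.1 * τ b.1) = (b.1⁻¹ * (a.1⁻¹ * τ a.1)) * τ b.1 := by group
        _ = _ := by rw [h1]; group)
    have hβr : Nat.card β.range ≤ Nat.card (commutator T) := by
      apply Subgroup.card_le_of_le
      rintro _ ⟨y, rfl⟩
      exact hmemC y
    have hβk : Nat.card β.ker ≤ Nat.card (Fx τ) := by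
      have h1 : Function.Injective (fun y : β.ker => (⟨y.1.1, by
          have h2 : y.1.1⁻¹ * τ y.1.1 = 1 := y.2
          exact (inv_mul_eq_one.1 h2).symm⟩ : Fx τ)) := by
        intro a b hab
        have h2 : a.1.1 = b.1.1 := congrArg (fun z : Fx τ => z.1) hab
        exact Subtype.ext (Subtype.ext h2)
      exact Nat.card_le_card_of_injective _ h1
    have hCle : Nat.card C ≤ 4 * Nat.card (commutator T) := by
      have h1 : Nat.card β.ker * Nat.card β.range = Nat.card C := by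
        rw [← Subgroup.index_ker]
        exact Subgroup.card_mul_index _
      rw [← h1, ← hV]
      exact Nat.mul_le_mul hβk hβr
    have hpos : 0 < Nat.card (commutator T) := Nat.card_pos
    have hle : Nat.card (Fx τA) ≤ 4 := by
      rw [hCcard] at hCle
      exact Nat.le_of_mul_le_mul_right hCle hpos
    -- lower bound
    have hVinv : ∀ x ∈ Fx τA, σA x ∈ Fx τA := by
      intro x hx
      show τA (σA x) = σA x
      rw [DA.hc, mem_Fx.1 hx]
    have hne : (⊥ : Subgroup (Abelianization T)) ≠ Fx τA := by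
      intro hbot
      have hfix : ∀ y, τA y = y → y = 1 := by
        intro y hy
        have : y ∈ Fx τA := hy
        rw [← hbot] at this
        exact Subgroup.mem_bot.1 this
      have hinv : ∀ y, y * τA y = 1 := by
        intro y
        apply hfix
        rw [map_mul, DA.ht, mul_comm]
      have hA1 : ∀ y : Abelianization T, y = 1 := by
        intro y
        obtain ⟨m, hm⟩ := (IsPGroup.iff_orderOf (p := 2)).1 hPA y
        by_contra hy1
        have hm0 : m ≠ 0 := by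
          rintro rfl
          exact hy1 (orderOf_eq_one_iff.1 (by simpa using hm))
        obtain ⟨k, rfl⟩ := Nat.exists_eq_succ_of_ne_zero hm0
        have hz : y ^ 2 ^ k ≠ 1 := by
          intro h
          have h1 := orderOf_dvd_of_pow_eq_one h
          rw [hm] at h1
          have h2 := Nat.le_of_dvd (by positivity) h1
          have h3 : 2 ^ (k + 1) = 2 * 2 ^ k := by ring
          have h4 : 0 < 2 ^ k := by positivity
          omega
        have hzz : (y ^ 2 ^ k) * (y ^ 2 ^ k) = 1 := by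
          rw [← pow_add, ← two_mul, ← pow_succ', ← hm, pow_orderOf_eq_one]
        have h1 := hinv (y ^ 2 ^ k)
        have h2 : τA (y ^ 2 ^ k) = y ^ 2 ^ k := by
          have h3 : τA (y ^ 2 ^ k) = (y ^ 2 ^ k)⁻¹ := eq_inv_of_mul_eq_one_right h1
          rw [h3, inv_eq_of_mul_eq_one_left hzz]
        exact hz (hfix _ h2)
      apply hT'ne
      rw [eq_top_iff]
      intro g _
      rw [← hπker, MonoidHom.mem_ker]
      exact hA1 _
    have hge := inv_step (X := ⊥) (Y := Fx τA) hPA DA.h3 DA.hf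
      (by
        intro x hx
        rw [Subgroup.mem_bot] at hx
        rw [hx, map_one]
        exact Subgroup.one_mem _) hVinv bot_le hne
    rw [Subgroup.card_bot, mul_one] at hge
    omega
  rcases ab_class DA hVA with ⟨hA16, hA2⟩ | ⟨a, ha⟩
  · have hsq : ∀ y : T, y * y ∈ commutator T := by
      intro y
      rw [← hπker, MonoidHom.mem_ker, map_mul]
      exact hA2 _
    have hcardT : Nat.card T = 16 * Nat.card (commutator T) := by rw [hAcard, hA16]
    have hle := card_comm_le hP D hcardT hsq hna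
    have hge := inv_step (X := ⊥) (Y := commutator T) hP D.h3 D.hf
      (by
        intro x hx
        rw [Subgroup.mem_bot] at hx
        rw [hx, map_one]
        exact Subgroup.one_mem _) (comm_inv D) bot_le
      (by
        intro h
        apply hna
        refine ⟨⟨fun a b => ?_⟩⟩
        have h1 : ⁅a, b⁆ ∈ commutator T := by
          rw [commutator_def]
          exact Subgroup.commutator_mem_commutator (Subgroup.mem_top a) (Subgroup.mem_top b)
        rw [← h] at h1
        exact commutatorElement_eq_one_iff_mul_comm.1 (Subgroup.mem_bot.1 h1))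
    rw [Subgroup.card_bot, mul_one] at hge
    omega
  · exfalso
    obtain ⟨g, rfl⟩ := hπ a
    apply hna
    apply comm_of_gen D g
    rw [eq_top_iff]
    intro x _
    have h1 : π x ∈ Subgroup.closure {π g, σA (π g)} := by rw [ha]; trivial
    have h2 : Subgroup.closure ({π g, σA (π g)} : Set (Abelianization T)) =
        (Subgroup.closure ({g, σ g} : Set T)).map π := by
      rw [MonoidHom.map_closure, Set.image_pair, hσA]
    rw [h2] at h1
    obtain ⟨c, hc', hcx⟩ := h1
    have h3 : c⁻¹ * x ∈ commutator T := by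
      rw [← hπker, MonoidHom.mem_ker, map_mul, map_inv, hcx, inv_mul_cancel]
    have h4 : x = c * (c⁻¹ * x) := by group
    rw [h4]
    exact Subgroup.mul_mem _ ((le_sup_left : _ ≤ Subgroup.closure {g, σ g} ⊔ commutator T) hc')
      ((le_sup_right : _ ≤ Subgroup.closure {g, σ g} ⊔ commutator T) h3)

end nonab2


section frames

variable {T : Type*} [Group T] [Finite T] {σ : T ≃* T}

theorem exists_frame_of_inv (D : FpfData σ) (hZ : Nat.card (Subgroup.center T) = 4) {v : T}
    (hv : v ∉ Subgroup.center T) (hvv : v * v = 1) : ∃ e f : T, Frame σ e f := by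
  obtain ⟨f₀, hf₀⟩ : ∃ f₀ : T, ⁅v, f₀⁆ ≠ 1 := by
    by_contra hcon
    push Not at hcon
    apply hv
    rw [Subgroup.mem_center_iff]
    intro g
    exact (commutatorElement_eq_one_iff_mul_comm.1 (hcon g)).symm
  have hsq' : ∀ a b : T, (a * b) * (a * b) = a ^ 2 * b ^ 2 * ⁅b, a⁆ := by
    intro a b
    rw [← D.sq, pow_two]
  have hv2 : v ^ 2 = 1 := by rw [pow_two]; exact hvv
  have hσv2 : (σ v) ^ 2 = 1 := by rw [← map_pow, hv2, map_one]
  have hσσv2 : (σ (σ v)) ^ 2 = 1 := by rw [← map_pow, hσv2, map_one]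
  have hzz : ⁅v, f₀⁆ * ⁅v, f₀⁆ = 1 := by
    rw [← D.ml, hvv]
    simp [commutatorElement_def]
  have hv1 : ⁅v, σ v⁆ = 1 := commutatorElement_eq_one_iff_mul_comm.2 (D.hsc v)
  have hv3 : ⁅v, σ (σ v)⁆ = 1 := by
    rw [D.bal_r, hv1, map_one, map_one]
  have hself : ⁅v, v⁆ = 1 := by simp [commutatorElement_def]
  have hf₀2 : f₀ ^ 2 ∈ Subgroup.center T := sq_mem D hZ f₀
  rcases Z_cases D hZ (D.cen v f₀) hf₀ hf₀2 with h | h | h | h
  · exact ⟨v, f₀, D, hvv, by rw [← pow_two]; exact h, hf₀⟩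
  · refine ⟨v, f₀ * v, D, hvv, ?_, ?_⟩
    · rw [hsq', h, hv2, mul_one]; exact hzz
    · rw [D.mr, hself, mul_one]; exact hf₀
  · refine ⟨v, f₀ * σ (σ v), D, hvv, ?_, ?_⟩
    · have e1 : ⁅σ (σ v), f₀⁆ = σ ⁅v, f₀⁆ := by simp only [D.bal_l, D.h3]
      rw [hsq', h, hσσv2, mul_one, e1, ← map_mul, hzz, map_one]
    · rw [D.mr, hv3, mul_one]; exact hf₀
  · refine ⟨v, f₀ * σ v, D, hvv, ?_, ?_⟩
    · rw [hsq', h, hσv2, mul_one, D.bal_l, ← map_mul, ← map_mul, hzz, map_one, map_one]
    · rw [D.mr, hv1, mul_one]; exact hf₀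

/-- The frame data of the anisotropic case. -/
structure PFrame (σ : T ≃* T) (e f : T) : Prop where
  D : FpfData σ
  he : e * e = ⁅e, f⁆
  hf : f * f = σ ⁅e, f⁆
  hz : ⁅e, f⁆ ≠ 1

theorem exists_pframe (D : FpfData σ) (hZ : Nat.card (Subgroup.center T) = 4)
    (hna : ¬ IsMulCommutative T) (hQ : ∀ y : T, y * y = 1 → y ∈ Subgroup.center T) :
    ∃ e f : T, PFrame σ e f := by
  obtain ⟨e₀, f₀, hz₀⟩ : ∃ e₀ f₀ : T, ⁅e₀, f₀⁆ ≠ 1 := by
    by_contra hcon
    push Not at hcon
    apply hna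
    refine ⟨⟨fun a b => commutatorElement_eq_one_iff_mul_comm.1 (hcon a b)⟩⟩
  have hsq' : ∀ a b : T, (a * b) * (a * b) = a ^ 2 * b ^ 2 * ⁅b, a⁆ := by
    intro a b
    rw [← D.sq, pow_two]
  have hcenne : ∀ a b : T, a ∈ Subgroup.center T → ⁅a, b⁆ = 1 := by
    intro a b ha
    rw [commutatorElement_eq_one_iff_mul_comm]
    exact (Subgroup.mem_center_iff.1 ha b).symm
  have hcenne' : ∀ a b : T, b ∈ Subgroup.center T → ⁅a, b⁆ = 1 := by
    intro a b hb
    rw [commutatorElement_eq_one_iff_mul_comm]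
    exact (Subgroup.mem_center_iff.1 hb a)
  have he₀ : e₀ ∉ Subgroup.center T := fun h => hz₀ (hcenne _ _ h)
  have he₀2 : e₀ ^ 2 ≠ 1 := fun h => he₀ (hQ e₀ (by rw [← pow_two]; exact h))
  -- normalise `e`
  obtain ⟨e, he, hz⟩ : ∃ e : T, e * e = ⁅e, f₀⁆ ∧ ⁅e, f₀⁆ ≠ 1 := by
    rcases Z_cases D hZ (D.cen e₀ f₀) hz₀ (sq_mem D hZ e₀) with h | h | h | h
    · exact absurd h he₀2
    · exact ⟨e₀, by rw [← pow_two]; exact h, hz₀⟩
    · refine ⟨σ e₀, ?_, ?_⟩
      · rw [← pow_two, ← map_pow, h, D.bal_l]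
      · rw [D.bal_l]
        intro h1
        exact hz₀ (σ.injective (σ.injective (h1.trans (by simp))))
    · refine ⟨σ (σ e₀), ?_, ?_⟩
      · rw [← pow_two, ← map_pow, ← map_pow, h]
        simp only [D.bal_l, D.h3]
      · simp only [D.bal_l, D.h3]
        intro h1
        exact hz₀ (σ.injective (h1.trans (map_one σ).symm))
  set z := ⁅e, f₀⁆ with hzdef
  have hzz : z * z = 1 := by
    have h1 : ⁅e * e, f₀⁆ = z * z := D.ml _ _ _
    rw [← h1, he]
    exact hcenne _ _ (D.cen e f₀)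
  have hself : ⁅e, e⁆ = 1 := by simp [commutatorElement_def]
  have he1 : ⁅e, σ e⁆ = 1 := commutatorElement_eq_one_iff_mul_comm.2 (D.hsc e)
  have hf₀1 : f₀ ^ 2 ≠ 1 := by
    intro h
    exact hz (hcenne' _ _ (hQ f₀ (by rw [← pow_two]; exact h)))
  have hσe2 : (σ e) ^ 2 = σ z := by rw [← map_pow, pow_two, he]
  have hcomp : ⁅σ e, f₀⁆ = σ (σ z) := D.bal_l _ _
  have hne : ⁅e, f₀ * σ e⁆ = z := by rw [D.mr, he1, mul_one]
  have h3z := D.hs z
  rcases Z_cases D hZ (D.cen e f₀) hz (sq_mem D hZ f₀) with h | h | h | h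
  · exact absurd h hf₀1
  · exfalso
    have h4 : (f₀ * σ e) * (f₀ * σ e) = 1 := by
      rw [hsq', h, hσe2, hcomp]
      exact h3z
    have h5 := hQ _ h4
    apply hz
    rw [← hne]
    exact hcenne' _ _ h5
  · exact ⟨e, f₀, D, he, by rw [← pow_two]; exact h, hz⟩
  · refine ⟨e, f₀ * σ e, D, ?_, ?_, ?_⟩
    · rw [hne]; exact he
    · rw [hne, hsq', h, hσe2, hcomp]
      have h6 : σ (σ z) * σ (σ z) = 1 := by rw [← map_mul, ← map_mul, hzz, map_one, map_one]
      have h7 := Subgroup.mem_center_iff.1 (FpfData.map_cen σ (D.cen e f₀)) (σ (σ z))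
      rw [mul_assoc, ← h7, ← mul_assoc, h6, one_mul]
    · rw [hne]; exact hz

/-- The twisted relations among the conjugates of an element with central square. -/
structure TTriple (p q r a b c : T) : Prop where
  pq : p * q = r * c
  qp : q * p = r * c
  pr : p * r = q * b
  rp : r * p = q * b
  qr : q * r = p * a
  rq : r * q = p * a

theorem ttriple_of (D : FpfData σ) (g a b c : T) (ha : g * g = a) (hb : σ g * σ g = b)
    (hc : σ (σ g) * σ (σ g) = c) (ha0 : a ∈ Subgroup.center T) (hb0 : b ∈ Subgroup.center T)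
    (hc0 : c ∈ Subgroup.center T) (haa : a * a = 1) (hbb : b * b = 1) (hcc : c * c = 1) :
    TTriple g (σ g) (σ (σ g)) a b c := by
  have hinv : ∀ x y u : T, u * x = 1 → x * x = y → y * y = 1 → y ∈ Subgroup.center T →
      u = x * y := by
    intro x y u h1 h2 h3 h4
    have h5 : u = x⁻¹ := eq_inv_of_mul_eq_one_left h1
    rw [h5]
    apply (eq_inv_of_mul_eq_one_right _).symm
    rw [← mul_assoc, h2, h3]
  have pq : g * σ g = σ (σ g) * c := hinv _ _ _ (D.hs g) hc hcc hc0
  have qr : σ g * σ (σ g) = g * a := by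
    have h1 := D.hs (σ g)
    rw [D.h3] at h1
    exact hinv _ _ _ h1 ha haa ha0
  have rq : σ (σ g) * σ g = g * a := by
    rw [← qr]
    exact (D.hsc (σ g)).symm
  have rp : σ (σ g) * g = σ g * b := by
    have h1 := D.hs (σ (σ g))
    rw [D.h3] at h1
    exact hinv _ _ _ h1 hb hbb hb0
  have pr : g * σ (σ g) = σ g * b := by
    rw [← rp]
    have h1 := D.hsc (σ (σ g))
    rw [D.h3] at h1
    exact h1.symm
  have qp : σ g * g = σ (σ g) * c := by
    rw [← pq]
    exact (D.hsc g).symm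
  exact ⟨pq, qp, pr, rp, qr, rq⟩

end frames


section pframes

variable {T : Type*} [Group T] {σ : T ≃* T} {e f : T}

/-- The product of the anisotropic model. -/
def starP (u v : F4 × F4 × F4) : F4 × F4 × F4 :=
  (u.1 + v.1, u.2.1 + v.2.1, u.2.2 + v.2.2 + u.1 * v.2.1 + u.1 * v.1 + F4.v * (u.2.1 * v.2.1))

namespace PFrame

variable [Finite T] (R : PFrame σ e f)
include R

theorem zz : ⁅e, f⁆ * ⁅e, f⁆ = 1 := by
  rw [← R.D.ml, R.he, commutatorElement_eq_one_iff_mul_comm]
  exact (Subgroup.mem_center_iff.1 (R.D.cen e f) f).symm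

theorem tZ : Triple ⁅e, f⁆ (σ (σ ⁅e, f⁆)) (σ ⁅e, f⁆) := (triple_of R.D R.zz).swap

theorem Zc_cen (c : F4) : Lf ⁅e, f⁆ (σ (σ ⁅e, f⁆)) (σ ⁅e, f⁆) c ∈ Subgroup.center T := by
  have h := R.D.cen e f
  cases c
  · exact Subgroup.one_mem _
  · exact h
  · exact FpfData.map_cen σ (FpfData.map_cen σ h)
  · exact FpfData.map_cen σ h

theorem E_mul (a a' : F4) : Lf e (σ e) (σ (σ e)) a * Lf e (σ e) (σ (σ e)) a' =
    Lf e (σ e) (σ (σ e)) (a + a') * Lf ⁅e, f⁆ (σ (σ ⁅e, f⁆)) (σ ⁅e, f⁆) (a * a') := by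
  have D := R.D
  have h0 := D.cen e f
  have h1 := FpfData.map_cen σ h0
  have h2 := FpfData.map_cen σ h1
  have hz1 := R.zz
  have hz2 : σ ⁅e, f⁆ * σ ⁅e, f⁆ = 1 := by rw [← map_mul, hz1, map_one]
  have hz3 : σ (σ ⁅e, f⁆) * σ (σ ⁅e, f⁆) = 1 := by rw [← map_mul, hz2, map_one]
  have d1 : e * e = ⁅e, f⁆ := R.he
  have d2 : σ e * σ e = σ ⁅e, f⁆ := by rw [← map_mul, d1]
  have d3 : σ (σ e) * σ (σ e) = σ (σ ⁅e, f⁆) := by rw [← map_mul, d2]
  have t := ttriple_of D e _ _ _ d1 d2 d3 h0 h1 h2 hz1 hz2 hz3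
  cases a <;> cases a' <;>
  first
    | exact (one_mul _).trans (mul_one _).symm
    | exact (mul_one _).trans (mul_one _).symm
    | exact d1.trans (one_mul _).symm
    | exact d2.trans (one_mul _).symm
    | exact d3.trans (one_mul _).symm
    | exact t.pq
    | exact t.qp
    | exact t.pr
    | exact t.rp
    | exact t.qr
    | exact t.rq

theorem F_mul (a a' : F4) : Lf f (σ f) (σ (σ f)) a * Lf f (σ f) (σ (σ f)) a' =
    Lf f (σ f) (σ (σ f)) (a + a') *
      Lf ⁅e, f⁆ (σ (σ ⁅e, f⁆)) (σ ⁅e, f⁆) (F4.v * (a * a')) := by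
  have D := R.D
  have h0 := D.cen e f
  have h1 := FpfData.map_cen σ h0
  have h2 := FpfData.map_cen σ h1
  have hz1 := R.zz
  have hz2 : σ ⁅e, f⁆ * σ ⁅e, f⁆ = 1 := by rw [← map_mul, hz1, map_one]
  have hz3 : σ (σ ⁅e, f⁆) * σ (σ ⁅e, f⁆) = 1 := by rw [← map_mul, hz2, map_one]
  have d1 : f * f = σ ⁅e, f⁆ := R.hf
  have d2 : σ f * σ f = σ (σ ⁅e, f⁆) := by rw [← map_mul, d1]
  have d3 : σ (σ f) * σ (σ f) = ⁅e, f⁆ := by rw [← map_mul, d2, D.h3]
  have t := ttriple_of D f _ _ _ d1 d2 d3 h1 h2 h0 hz2 hz3 hz1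
  cases a <;> cases a' <;>
  first
    | exact (one_mul _).trans (mul_one _).symm
    | exact (mul_one _).trans (mul_one _).symm
    | exact d1.trans (one_mul _).symm
    | exact d2.trans (one_mul _).symm
    | exact d3.trans (one_mul _).symm
    | exact t.pq
    | exact t.qp
    | exact t.pr
    | exact t.rp
    | exact t.qr
    | exact t.rq

theorem Phi_mul (u v : F4 × F4 × F4) : Phi σ e f u * Phi σ e f v = Phi σ e f (starP u v) := by
  obtain ⟨a, b, c⟩ := u
  obtain ⟨a', b', c'⟩ := v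
  simp only [Phi, starP]
  have hE' := R.E_mul a a'
  have hF' := R.F_mul b b'
  set E := Lf e (σ e) (σ (σ e)) with hE
  set F := Lf f (σ f) (σ (σ f)) with hF
  set Z := Lf ⁅e, f⁆ (σ (σ ⁅e, f⁆)) (σ ⁅e, f⁆) with hZ
  have hZc : ∀ (c : F4) (g : T), g * Z c = Z c * g := fun c g =>
    Subgroup.mem_center_iff.1 (R.Zc_cen c) g
  have hEF : E a * F b' = Z (a * b') * (F b' * E a) := by
    rw [hE, hF, hZ, ← comm_table R.D e f a b', commutatorElement_def]
    group
  have hZa : ∀ x y, Z (x + y) = Z x * Z y := Lf_add R.tZ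
  have e1 : F b * E a * Z c * (F b' * E a' * Z c') = F b * E a * (F b' * E a') * (Z c * Z c') := by
    rw [mul_assoc (F b * E a) (Z c), ← mul_assoc (Z c) (F b' * E a') (Z c'), ← hZc c (F b' * E a')]
    group
  have e2 : F b * E a * (F b' * E a') = F b * (E a * F b') * E a' := by group
  have e3 : F b * (Z (a * b') * (F b' * E a)) * E a' = F b * F b' * (E a * E a') * Z (a * b') := by
    rw [← hZc (a * b') (F b' * E a)]
    have e4 : F b * (F b' * E a * Z (a * b')) * E a' = F b * (F b' * E a) * (Z (a * b') * E a') := by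
      group
    rw [e4, ← hZc (a * b') (E a')]
    group
  rw [e1, e2, hEF, e3, hF', hE']
  have e5 : c + c' + a * b' + a * a' + F4.v * (b * b') =
      F4.v * (b * b') + (a * a' + (a * b' + (c + c'))) := by ring
  rw [e5, hZa, hZa, hZa, hZa]
  have e6 : F (b + b') * Z (F4.v * (b * b')) * (E (a + a') * Z (a * a')) =
      F (b + b') * E (a + a') * (Z (F4.v * (b * b')) * Z (a * a')) := by
    rw [mul_assoc (F (b + b')), ← mul_assoc (Z (F4.v * (b * b'))), ← hZc _ (E (a + a'))]
    group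
  rw [e6]
  group

theorem Zc_inj {a b : F4} (h : Lf ⁅e, f⁆ (σ (σ ⁅e, f⁆)) (σ ⁅e, f⁆) a =
    Lf ⁅e, f⁆ (σ (σ ⁅e, f⁆)) (σ ⁅e, f⁆) b) : a = b := by
  apply F4.eq_of_add
  apply Lf_inj R.tZ R.hz
  · intro h1
    exact R.hz (σ.injective (σ.injective (h1.trans (by simp))))
  · intro h1
    exact R.hz (σ.injective (h1.trans (map_one σ).symm))
  · rw [Lf_add R.tZ, h, ← Lf_add R.tZ, F4.add_self]
    rfl

theorem test1 (u : F4 × F4 × F4) : ⁅Phi σ e f u, Lf f (σ f) (σ (σ f)) 1⁆ =
    Lf ⁅e, f⁆ (σ (σ ⁅e, f⁆)) (σ ⁅e, f⁆) u.1 := by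
  obtain ⟨a, b, c⟩ := u
  have hF : ⁅Lf f (σ f) (σ (σ f)) b, Lf f (σ f) (σ (σ f)) 1⁆ = 1 := by
    rw [commutatorElement_eq_one_iff_mul_comm, R.F_mul, R.F_mul, add_comm, mul_comm b]
  have hZ : ⁅Lf ⁅e, f⁆ (σ (σ ⁅e, f⁆)) (σ ⁅e, f⁆) c, Lf f (σ f) (σ (σ f)) 1⁆ = 1 := by
    rw [commutatorElement_eq_one_iff_mul_comm]
    exact (Subgroup.mem_center_iff.1 (R.Zc_cen c) _).symm
  simp only [Phi]
  rw [R.D.ml, R.D.ml, hF, hZ, comm_table R.D, mul_one, one_mul, mul_one]

theorem test2 (u : F4 × F4 × F4) : ⁅Phi σ e f u, Lf e (σ e) (σ (σ e)) 1⁆ =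
    (Lf ⁅e, f⁆ (σ (σ ⁅e, f⁆)) (σ ⁅e, f⁆) u.2.1)⁻¹ := by
  obtain ⟨a, b, c⟩ := u
  have hF : ⁅Lf e (σ e) (σ (σ e)) a, Lf e (σ e) (σ (σ e)) 1⁆ = 1 := by
    rw [commutatorElement_eq_one_iff_mul_comm, R.E_mul, R.E_mul, add_comm, mul_comm a]
  have hZ : ⁅Lf ⁅e, f⁆ (σ (σ ⁅e, f⁆)) (σ ⁅e, f⁆) c, Lf e (σ e) (σ (σ e)) 1⁆ = 1 := by
    rw [commutatorElement_eq_one_iff_mul_comm]
    exact (Subgroup.mem_center_iff.1 (R.Zc_cen c) _).symm
  simp only [Phi]
  rw [R.D.ml, R.D.ml, hF, hZ, FpfData.swap _ (Lf f (σ f) (σ (σ f)) b), comm_table R.D, mul_one,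
    one_mul, mul_one]

theorem Phi_inj : Function.Injective (Phi σ e f) := by
  rintro ⟨a, b, c⟩ ⟨a', b', c'⟩ h
  have h1 : a = a' := by
    have := R.test1 (a, b, c)
    rw [h, R.test1] at this
    exact (R.Zc_inj this).symm
  have h2 : b = b' := by
    have := R.test2 (a, b, c)
    rw [h, R.test2] at this
    exact (R.Zc_inj (inv_injective this)).symm
  subst h1 h2
  have h3 : c = c' := R.Zc_inj (mul_left_cancel h)
  rw [h3]

theorem Phi_bij (hT : Nat.card T = 64) : Function.Bijective (Phi σ e f) := by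
  apply R.Phi_inj.bijective_of_nat_card_le
  rw [hT]
  simp [Nat.card_eq_fintype_card, F4.card_eq]

end PFrame

theorem iso_of_pframes {T₁ T₂ : Type*} [Group T₁] [Group T₂] [Finite T₁] [Finite T₂]
    {σ₁ : T₁ ≃* T₁} {σ₂ : T₂ ≃* T₂} {e₁ f₁ : T₁} {e₂ f₂ : T₂} (R₁ : PFrame σ₁ e₁ f₁)
    (R₂ : PFrame σ₂ e₂ f₂) (h₁ : Nat.card T₁ = 64) (h₂ : Nat.card T₂ = 64) :
    Nonempty (T₁ ≃* T₂) := by
  let Φ₁ := Equiv.ofBijective _ (R₁.Phi_bij h₁)
  let Φ₂ := Equiv.ofBijective _ (R₂.Phi_bij h₂)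
  refine ⟨MulEquiv.mk' (Φ₁.symm.trans Φ₂) ?_⟩
  intro x y
  obtain ⟨u, rfl⟩ := Φ₁.surjective x
  obtain ⟨v, rfl⟩ := Φ₁.surjective y
  have hΦ₁ : ∀ u, Φ₁ u = Phi σ₁ e₁ f₁ u := fun _ => rfl
  have hΦ₂ : ∀ u, Φ₂ u = Phi σ₂ e₂ f₂ u := fun _ => rfl
  simp only [Equiv.trans_apply, Equiv.symm_apply_apply]
  rw [hΦ₁, hΦ₁, R₁.Phi_mul, ← hΦ₁, Equiv.symm_apply_apply, hΦ₂, hΦ₂, hΦ₂, R₂.Phi_mul]

end pframes

end Cfsg.Agent.H29.Ord64
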